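import Cfsg.Agent.Lib.HSSylow.Code
import Mathlib.Data.ZMod.Basic
import Mathlib.LinearAlgebra.Matrix.Notation

/-!
Coordinates on the elementary layer.
-/

set_option autoImplicit false
set_option maxRecDepth 100000
set_option Elab.async false

namespace CfsgHSSylow

/-- The coordinates of a code of the layer. -/
def vec (v : ℕ) : Fin 3 → ZMod 2 := ![(v / 2 : ℕ), (v / 8 : ℕ), (v / 32 : ℕ)]

/-- The code of coordinates. -/
def vcode (f : Fin 3 → ZMod 2) : ℕ := 2 * (f 0).val + 8 * (f 1).val + 32 * (f 2).val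

/-- The codes of the layer. -/
def Vlist : List ℕ := [0, 2, 8, 10, 32, 34, 40, 42]

theorem vec_add : ∀ a ∈ Vlist, ∀ b ∈ Vlist, mulS a b ∈ Vlist ∧ vec (mulS a b) = vec a + vec b := by decide +kernel

theorem vec_inj : ∀ a ∈ Vlist, ∀ b ∈ Vlist, vec a = vec b → a = b := by decide +kernel

theorem vec_code : ∀ f : Fin 3 → ZMod 2, vcode f ∈ Vlist ∧ vec (vcode f) = f := by decide +kernel

theorem vec_span : ∀ w ∈ Vlist, w = mulS (mulS (if vec w 0 = 0 then 0 else 2) (if vec w 1 = 0 then 0 else 8))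
    (if vec w 2 = 0 then 0 else 32) := by decide +kernel

theorem vec_zero : vec 0 = 0 := by decide +kernel

theorem layer_points : ∀ w ∈ Vlist, w = 0 ∨ labS w = 0 ∨ labS w = 7 ∨ labS w = 8 := by decide +kernel

end CfsgHSSylow
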