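import Cfsg.Agent.Lib.HSSylow.Code

/-!
Kernel checks of the distinguished subgroups of the coded group: the abelian subgroup `64`, its layer, the subgroup of
order 64 generated by the involutions of five classes, and its extraspecial factor.
-/

set_option autoImplicit false
set_option maxRecDepth 100000
set_option maxHeartbeats 4000000
set_option Elab.async false

namespace CfsgHSSylow

/-- The abelian subgroup of vectors. -/
def bitsA : ℕ := 18446744073709551615

/-- The elementary layer of the vectors. -/
def bitsV : ℕ := 5519032976645

/-- The subgroup generated by the involutions of five classes. -/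
def bitsR : ℕ := 1545164925001208290300031271976023091358971731545483735254245825410598993955351918135303315667338419751721705800965

/-- An extraspecial factor. -/
def bitsE : ℕ := 11788582888933710911477049216665698437961836011577393782504755559196775796352810404395285952616774009534547205

/-- Membership. -/
noncomputable def inB (T x : ℕ) : Bool := Nat.beq (Nat.mod (Nat.shiftRight T x) (nat_lit 2)) (nat_lit 1)

/-- The members as a list. -/
noncomputable def elems (T : ℕ) : List ℕ := (List.range 512).filter fun x => inB T x

/-- Closure under the operations and under conjugation. -/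
noncomputable def closed (T : ℕ) : Bool :=
  inB T 0 && (List.range 512).all fun x => !inB T x || (inB T (invS x) && (List.range 512).all fun y =>
    !inB T y || inB T (mulS x y))

theorem closedA : closed bitsA = true := by decide +kernel

theorem closedV : closed bitsV = true := by decide +kernel

theorem closedR : closed bitsR = true := by decide +kernel

theorem closedE : closed bitsE = true := by decide +kernel

theorem normal_AVR : ((List.range 512).all fun g => (List.range 512).all fun x =>
    (!inB bitsR x || inB bitsR (cjS g x)) && (!inB bitsV x || inB bitsV (cjS g x))) = true := by decide +kernel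

theorem cards : (elems bitsA).length = 64 ∧ (elems bitsV).length = 8 ∧ (elems bitsR).length = 64 ∧
    (elems bitsE).length = 32 := by decide +kernel

theorem A_eq : ((List.range 512).all fun x => (inB bitsA x == Nat.blt x 64) &&
    (inB bitsV x == (Nat.blt x 64 && Nat.beq (mulS x x) 0)) &&
    (inB bitsA x == (Nat.beq (mulS x 2) (mulS 2 x) && Nat.beq (mulS x 8) (mulS 8 x) &&
      Nat.beq (mulS x 34) (mulS 34 x)))) = true := by decide +kernel

theorem A_comm : ((List.range 64).all fun x => (List.range 64).all fun y =>
    Nat.beq (mulS x y) (mulS y x)) = true := by decide +kernel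

theorem V_list : elems bitsV = [0, 2, 8, 10, 32, 34, 40, 42] ∧
    ([2, 8, 10, 32, 34, 40, 42].map labS) = [0, 7, 7, 0, 8, 7, 7] ∧
    ((List.range 512).all fun x => !(Nat.beq (labS x) 0 || Nat.beq (labS x) 7 || Nat.beq (labS x) 8) || inB bitsV x) =
      true := by decide +kernel

theorem R_shape : ((List.range 512).all fun x => !inB bitsR x || (Nat.beq (mulS x 17) (mulS 17 x) &&
    (Nat.beq (mulS x x) 0 || Nat.beq (mulS x x) 34))) = true ∧
    ((List.range 512).all fun x => (!inB bitsR x) || (List.range 512).all fun y => !inB bitsR y ||
      Nat.beq (mulS x y) (mulS y x) || Nat.beq (mulS x y) (mulS 34 (mulS y x))) = true := by decide +kernel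

theorem R_invol : ((List.range 512).all fun x => !(Nat.beq (mulS x x) 0) || Nat.beq x 0 ||
    (inB bitsR x == (Nat.beq (labS x) 0 || Nat.beq (labS x) 5 || Nat.beq (labS x) 6 || Nat.beq (labS x) 7 ||
      Nat.beq (labS x) 8))) = true := by decide +kernel

theorem R_lift : ((List.range 512).all fun x => !inB bitsR x || Nat.beq x 0 || Nat.beq x 17 || Nat.beq x 34 ||
    Nat.beq x 51 || [0, 17].any fun k => Nat.beq (mulS (mulS x k) (mulS x k)) 0) = true := by decide +kernel

theorem R_cent : ((List.range 512).all fun x => inB bitsR x || [2, 8, 64, 256].any fun r =>
    !([0, 17, 34, 51].any fun k => Nat.beq (mulS x r) (mulS k (mulS r x)))) = true ∧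
    [17, 2, 8, 64, 256].all (fun r => inB bitsR r) = true := by decide +kernel

theorem c_lab : ((List.range 512).all fun x => !(Nat.beq (labS x) 9) || Nat.beq x 17 || Nat.beq x 51) = true ∧
    mulS 17 17 = 34 ∧ labS 17 = 9 ∧ rp 9 = 17 ∧ mulS 17 34 = 51 := by decide +kernel

theorem E_shape : ((List.range 512).all fun x => !inB bitsE x || (inB bitsR x &&
    (Nat.beq x 0 || Nat.beq x 34 || [2, 8, 64, 256].any fun r => !(Nat.beq (mulS x r) (mulS r x))))) = true ∧
    [2, 8, 64, 256, 34].all (fun r => inB bitsE r) = true ∧
    (inB bitsE 17 || inB bitsE 51) = false := by decide +kernel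

end CfsgHSSylow
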