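import Cfsg.Agent.Lib.HSSylow.Basic
import Cfsg.Agent.Lib.HSSylow.ShapeChecks

/-!
The distinguished subgroups of the Sylow subgroup as subgroups of the group.
-/

set_option autoImplicit false

namespace CfsgHSSylow

open Subgroup

attribute [local irreducible] mulS invS labS conS inB bitsA bitsV bitsR bitsE

theorem closed_spec {T : ℕ} (h : closed T = true) : inB T 0 = true ∧
    (∀ x < 512, inB T x = true → inB T (invS x) = true) ∧
    ∀ x < 512, inB T x = true → ∀ y < 512, inB T y = true → inB T (mulS x y) = true := by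
  simp only [closed, Bool.and_eq_true, Bool.or_eq_true, Bool.not_eq_true', List.all_eq_true, List.mem_range] at h
  refine ⟨h.1, fun x hx hT => ?_, fun x hx hT y hy hy' => ?_⟩
  · exact ((h.2 x hx).resolve_left (by simp [hT])).1
  · exact (((h.2 x hx).resolve_left (by simp [hT])).2 y hy).resolve_left (by simp [hy'])

namespace Setup

variable {G : Type*} [Group G] (K : Setup G)

/-- The subgroup of a set of codes. -/
def sub (T : ℕ) (h : closed T = true) : Subgroup G where
  carrier := {g | ∃ x < 512, inB T x = true ∧ K.ι.e x = g}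
  one_mem' := ⟨0, by norm_num, (closed_spec h).1, K.ι.map_zero⟩
  mul_mem' := by
    rintro _ _ ⟨x, hx, hT, rfl⟩ ⟨y, hy, hy', rfl⟩
    exact ⟨_, mulS_lt x y, (closed_spec h).2.2 x hx hT y hy hy', K.ι.map_mul hx hy⟩
  inv_mem' := by
    rintro _ ⟨x, hx, hT, rfl⟩
    exact ⟨_, invS_lt x, (closed_spec h).2.1 x hx hT, K.ι.map_inv hx⟩

/-- The abelian subgroup of order 64. -/
abbrev Asub : Subgroup G := K.sub bitsA closedA

/-- The elementary subgroup of order 8. -/
abbrev Vsub : Subgroup G := K.sub bitsV closedV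

/-- The subgroup of order 64 generated by involutions. -/
abbrev Rsub : Subgroup G := K.sub bitsR closedR

/-- The extraspecial factor. -/
abbrev Esub : Subgroup G := K.sub bitsE closedE

variable {K}

theorem mem_sub {T : ℕ} {h : closed T = true} {g : G} :
    g ∈ K.sub T h ↔ ∃ x < 512, inB T x = true ∧ K.ι.e x = g := Iff.rfl

theorem e_mem_sub {T : ℕ} {h : closed T = true} {x : ℕ} (hx : x < 512) :
    K.ι.e x ∈ K.sub T h ↔ inB T x = true := by
  refine ⟨fun ⟨y, hy, hT, e⟩ => K.ι.inj hy hx e ▸ hT, fun hT => ⟨x, hx, hT, rfl⟩⟩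

theorem sub_le {T : ℕ} {h : closed T = true} : K.sub T h ≤ K.S := by
  rintro _ ⟨x, hx, -, rfl⟩
  exact K.e_mem hx

theorem card_sub (T : ℕ) (h : closed T = true) : Nat.card (K.sub T h) = (elems T).length := by
  rw [← List.toFinset_card_of_nodup (l := elems T) (List.nodup_range.filter _), ← Nat.card_eq_finsetCard]
  refine (Nat.card_congr (Equiv.ofBijective
    (fun x : {x // x ∈ (elems T).toFinset} => (⟨K.ι.e x, by
      have := x.2
      simp only [elems, List.mem_toFinset, List.mem_filter, List.mem_range] at this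
      exact ⟨x, this.1, this.2, rfl⟩⟩ : K.sub T h)) ⟨?_, ?_⟩)).symm
  · intro x y e
    have hx := x.2
    have hy := y.2
    simp only [elems, List.mem_toFinset, List.mem_filter, List.mem_range] at hx hy
    exact Subtype.ext (K.ι.inj hx.1 hy.1 (congrArg Subtype.val e))
  · rintro ⟨_, x, hx, hT, rfl⟩
    exact ⟨⟨x, by simp [elems, hx, hT]⟩, rfl⟩

theorem card_A : Nat.card K.Asub = 64 := (card_sub _ _).trans cards.1

theorem card_V : Nat.card K.Vsub = 8 := (card_sub _ _).trans cards.2.1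

theorem card_R : Nat.card K.Rsub = 64 := (card_sub _ _).trans cards.2.2.1

theorem card_E : Nat.card K.Esub = 32 := (card_sub _ _).trans cards.2.2.2

theorem A_iff {x : ℕ} (hx : x < 512) :
    (inB bitsA x = true ↔ x < 64) ∧ (inB bitsV x = true ↔ x < 64 ∧ mulS x x = 0) ∧
    (inB bitsA x = true ↔ mulS x 2 = mulS 2 x ∧ mulS x 8 = mulS 8 x ∧ mulS x 34 = mulS 34 x) := by
  have h := List.all_eq_true.mp A_eq x (List.mem_range.mpr hx)
  simp only [Bool.and_eq_true, beq_iff_eq] at h
  refine ⟨by rw [h.1.1, Nat.blt_eq], by rw [h.1.2, Bool.and_eq_true, Nat.blt_eq, Nat.beq_eq], ?_⟩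
  rw [h.2, Bool.and_eq_true, Bool.and_eq_true, Nat.beq_eq, Nat.beq_eq, Nat.beq_eq, and_assoc]

theorem V_cases {x : ℕ} (hx : x < 512) (h : inB bitsV x = true) : x ∈ [0, 2, 8, 10, 32, 34, 40, 42] := by
  rw [← V_list.1]
  simp [elems, hx, h]

theorem V_mem {x : ℕ} (h : x ∈ [0, 2, 8, 10, 32, 34, 40, 42]) : x < 512 ∧ inB bitsV x = true := by
  rw [← V_list.1] at h
  simpa [elems] using h

theorem V_lab {x : ℕ} (hx : x < 512) (h : labS x = 0 ∨ labS x = 7 ∨ labS x = 8) : inB bitsV x = true := by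
  have h' := List.all_eq_true.mp V_list.2.2 x (List.mem_range.mpr hx)
  simp only [Bool.or_eq_true, Bool.not_eq_true', Bool.or_eq_false_iff] at h'
  refine h'.resolve_left fun h0 => ?_
  rcases h with e | e | e <;> simp [e] at h0

theorem z_mem_V : K.z ∈ K.Vsub := (e_mem_sub (by norm_num)).mpr (V_mem (by simp)).2

theorem A_commute {a b : G} (ha : a ∈ K.Asub) (hb : b ∈ K.Asub) : Commute a b := by
  obtain ⟨x, hx, hT, rfl⟩ := ha
  obtain ⟨y, hy, hy', rfl⟩ := hb
  exact (K.ι.commute_iff hx hy).mpr (Nat.eq_of_beq_eq_true (List.all_eq_true.mp (List.all_eq_true.mp A_comm x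
    (List.mem_range.mpr ((A_iff hx).1.mp hT))) y (List.mem_range.mpr ((A_iff hy).1.mp hy'))))

theorem V_le_A : K.Vsub ≤ K.Asub := by
  rintro _ ⟨x, hx, hT, rfl⟩
  exact (e_mem_sub hx).mpr ((A_iff hx).1.mpr ((A_iff hx).2.1.mp hT).1)

theorem V_sq {v : G} (hv : v ∈ K.Vsub) : v * v = 1 := by
  obtain ⟨x, hx, hT, rfl⟩ := hv
  rw [← K.ι.map_mul hx hx, ((A_iff hx).2.1.mp hT).2, K.ι.map_zero]

/-- The centralizer of the elementary layer in the Sylow subgroup. -/
theorem mem_A_of_centralizes {s : G} (hs : s ∈ (K.S : Subgroup G)) (h : ∀ v ∈ K.Vsub, Commute s v) :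
    s ∈ K.Asub := by
  obtain ⟨x, hx, rfl⟩ := K.exists_code hs
  refine (e_mem_sub hx).mpr ((A_iff hx).2.2.mpr ⟨?_, ?_, ?_⟩) <;>
    exact (K.ι.commute_iff hx (by norm_num)).mp (h _ ((e_mem_sub (by norm_num)).mpr (V_mem (by simp)).2))

theorem R_normal {s : G} (hs : s ∈ (K.S : Subgroup G)) {r : G} (hr : r ∈ K.Rsub) : s * r * s⁻¹ ∈ K.Rsub := by
  obtain ⟨x, hx, rfl⟩ := K.exists_code hs
  obtain ⟨y, hy, hT, rfl⟩ := hr
  have h := List.all_eq_true.mp (List.all_eq_true.mp normal_AVR x (List.mem_range.mpr hx)) y (List.mem_range.mpr hy)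
  simp only [Bool.and_eq_true, Bool.or_eq_true, Bool.not_eq_true'] at h
  rw [← K.ι.map_cj hx hy]
  exact (e_mem_sub (cjS_lt _ _)).mpr (h.1.resolve_left (by simp [hT]))

theorem V_normal {s : G} (hs : s ∈ (K.S : Subgroup G)) {v : G} (hv : v ∈ K.Vsub) : s * v * s⁻¹ ∈ K.Vsub := by
  obtain ⟨x, hx, rfl⟩ := K.exists_code hs
  obtain ⟨y, hy, hT, rfl⟩ := hv
  have h := List.all_eq_true.mp (List.all_eq_true.mp normal_AVR x (List.mem_range.mpr hx)) y (List.mem_range.mpr hy)
  simp only [Bool.and_eq_true, Bool.or_eq_true, Bool.not_eq_true'] at h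
  rw [← K.ι.map_cj hx hy]
  exact (e_mem_sub (cjS_lt _ _)).mpr (h.2.resolve_left (by simp [hT]))

theorem S_le_normalizer_V : (K.S : Subgroup G) ≤ normalizer (K.Vsub : Set G) := fun s hs =>
  mem_normalizer_iff.mpr fun v => ⟨fun hv => V_normal hs hv, fun hv => by
    have := V_normal (inv_mem hs) hv
    simpa [mul_assoc] using this⟩

theorem S_le_normalizer_R : (K.S : Subgroup G) ≤ normalizer (K.Rsub : Set G) := fun s hs =>
  mem_normalizer_iff.mpr fun v => ⟨fun hv => R_normal hs hv, fun hv => by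
    have := R_normal (inv_mem hs) hv
    simpa [mul_assoc] using this⟩

end Setup

end CfsgHSSylow
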