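import Cfsg.Agent.Lib.HSSylow.Fusion
import Cfsg.Agent.Lib.HSSylow.Shapes
import Cfsg.Agent.Lib.HSSylow.AutoData
import Cfsg.Agent.Lib.SmallSimple.Order168

/-!
The automizer of the elementary layer is the full linear group.
-/

set_option autoImplicit false

namespace CfsgHSSylow

open Subgroup

attribute [local irreducible] mulS invS labS conS inB bitsA bitsV bitsR bitsE

namespace Setup

variable {G : Type*} [Group G] (K : Setup G)

/-- The normalizer of the layer. -/
abbrev NV : Subgroup G := normalizer (K.Vsub : Set G)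

theorem exists_image (g : K.NV) {w : ℕ} (hw : w ∈ Vlist) :
    ∃ u ∈ Vlist, K.ι.e u = (g : G) * K.ι.e w * (g : G)⁻¹ := by
  have h : K.ι.e w ∈ K.Vsub := (e_mem_sub (V_mem hw).1).mpr (V_mem hw).2
  obtain ⟨u, hu, hT, e⟩ := (mem_normalizer_iff.mp g.2 _).mp h
  exact ⟨u, V_cases hu hT, e⟩

/-- The image of a code of the layer. -/
noncomputable def img (g : K.NV) (w : ℕ) : ℕ :=
  if hw : w ∈ Vlist then (K.exists_image g hw).choose else 0

variable {K}

theorem img_spec (g : K.NV) {w : ℕ} (hw : w ∈ Vlist) :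
    K.img g w ∈ Vlist ∧ K.ι.e (K.img g w) = (g : G) * K.ι.e w * (g : G)⁻¹ := by
  unfold img
  rw [dif_pos hw]
  exact (K.exists_image g hw).choose_spec

theorem img_eq (g : K.NV) {w u : ℕ} (hw : w ∈ Vlist) (hu : u ∈ Vlist)
    (h : (g : G) * K.ι.e w * (g : G)⁻¹ = K.ι.e u) : K.img g w = u :=
  K.ι.inj (V_mem (img_spec g hw).1).1 (V_mem hu).1 ((img_spec g hw).2.trans h)

theorem img_mul (g : K.NV) {a b : ℕ} (ha : a ∈ Vlist) (hb : b ∈ Vlist) :
    K.img g (mulS a b) = mulS (K.img g a) (K.img g b) := by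
  refine img_eq g (vec_add a ha b hb).1 (vec_add _ (img_spec g ha).1 _ (img_spec g hb).1).1 ?_
  rw [K.ι.map_mul (V_mem ha).1 (V_mem hb).1, K.ι.map_mul (V_mem (img_spec g ha).1).1 (V_mem (img_spec g hb).1).1,
    (img_spec g ha).2, (img_spec g hb).2]
  group

theorem img_zero (g : K.NV) : K.img g 0 = 0 :=
  img_eq g (by decide) (by decide) (by rw [K.ι.map_zero]; group)

theorem vec34_ne : vec 34 ≠ 0 := by decide +kernel

theorem zmod_two (a : ZMod 2) : a = 0 ∨ a = 1 := by revert a; decide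

theorem mat_mulVec (g : K.NV) {w : ℕ} (hw : w ∈ Vlist) :
    Matrix.mulVec (Matrix.of fun i j => vec (K.img g ([2, 8, 32].getD (j : Fin 3).val 0)) i) (vec w) =
      vec (K.img g w) := by
  have hsp := vec_span w hw
  have hmem : ∀ (a : ℕ) (t : ZMod 2), a ∈ Vlist → (if t = 0 then 0 else a) ∈ Vlist := by
    intro a t ha; split_ifs <;> [decide; exact ha]
  have hite : ∀ (a : ℕ) (t : ZMod 2), a ∈ Vlist →
      vec (K.img g (if t = 0 then 0 else a)) = t • vec (K.img g a) := by
    intro a t ha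
    rcases zmod_two t with rfl | rfl
    · rw [if_pos rfl, img_zero, vec_zero, zero_smul]
    · rw [if_neg (by decide), one_smul]
  have h2 : (2 : ℕ) ∈ Vlist := by decide
  have h8 : (8 : ℕ) ∈ Vlist := by decide
  have h32 : (32 : ℕ) ∈ Vlist := by decide
  conv_rhs => rw [hsp]
  have m01 := (vec_add _ (hmem 2 (vec w 0) h2) _ (hmem 8 (vec w 1) h8)).1
  rw [img_mul g m01 (hmem 32 _ h32), img_mul g (hmem 2 _ h2) (hmem 8 _ h8),
    (vec_add _ (vec_add _ (img_spec g (hmem 2 _ h2)).1 _ (img_spec g (hmem 8 _ h8)).1).1 _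
      (img_spec g (hmem 32 _ h32)).1).2,
    (vec_add _ (img_spec g (hmem 2 _ h2)).1 _ (img_spec g (hmem 8 _ h8)).1).2,
    hite 2 _ h2, hite 8 _ h8, hite 32 _ h32]
  ext i
  simp only [Matrix.mulVec, dotProduct, Fin.sum_univ_three, Matrix.of_apply, Pi.add_apply, Pi.smul_apply,
    smul_eq_mul, Fin.val_zero, Fin.val_one, Fin.val_two, List.getD_cons_zero, List.getD_cons_succ]
  ring

variable (K)

/-- The action on the layer by matrices. -/
noncomputable def actMat : K.NV →* Matrix (Fin 3) (Fin 3) (ZMod 2) where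
  toFun g := Matrix.of fun i j => vec (K.img g ([2, 8, 32].getD (j : Fin 3).val 0)) i
  map_one' := by
    refine Matrix.ext_of_mulVec_single fun j => ?_
    obtain ⟨hw, e⟩ := vec_code (Pi.single j 1)
    rw [← e, mat_mulVec _ hw, Matrix.one_mulVec, img_eq 1 hw hw (by simp)]
  map_mul' g h := by
    refine Matrix.ext_of_mulVec_single fun j => ?_
    obtain ⟨hw, e⟩ := vec_code (Pi.single j 1)
    rw [← e, ← Matrix.mulVec_mulVec, mat_mulVec _ hw, mat_mulVec _ hw, mat_mulVec _ (img_spec h hw).1,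
      img_eq (g * h) hw (img_spec g (img_spec h hw).1).1 (by
        rw [(img_spec g (img_spec h hw).1).2, (img_spec h hw).2]
        simp [mul_assoc])]

/-- The action on the layer. -/
noncomputable def act : K.NV →* GL (Fin 3) (ZMod 2) := K.actMat.toHomUnits

variable {K}

theorem act_mulVec (g : K.NV) {w : ℕ} (hw : w ∈ Vlist) :
    Matrix.mulVec ((K.act g : GL (Fin 3) (ZMod 2)) : Matrix (Fin 3) (Fin 3) (ZMod 2)) (vec w) = vec (K.img g w) :=
  mat_mulVec g hw

theorem mem_ker_act {g : K.NV} : g ∈ K.act.ker ↔ ∀ v ∈ K.Vsub, Commute (g : G) v := by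
  constructor
  · intro h
    rintro _ ⟨x, hx, hT, rfl⟩
    have hw := V_cases hx hT
    have e := act_mulVec g hw
    rw [MonoidHom.mem_ker.mp h, Units.val_one, Matrix.one_mulVec] at e
    have := (img_spec g hw).2
    rw [← vec_inj x hw _ (img_spec g hw).1 e] at this
    exact mul_inv_eq_iff_eq_mul.mp this.symm
  · intro h
    refine MonoidHom.mem_ker.mpr (Units.ext (Matrix.ext_of_mulVec_single fun j => ?_))
    obtain ⟨hw, e⟩ := vec_code (Pi.single j 1)
    rw [← e, act_mulVec g hw, Units.val_one, Matrix.one_mulVec,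
      img_eq g hw hw (by rw [(h _ ((e_mem_sub (V_mem hw).1).mpr (V_mem hw).2)).eq, mul_inv_cancel_right])]

variable [Finite G]

/-- An element mapping generators of the layer into it normalizes it. -/
theorem normalizes_of_words {g : G} {F : Srch} {W : List (List ℕ)} {im : List ℕ}
    (hF : ∀ v ∈ F.gs, v < 512) (h512 : ∀ v ∈ im, v < 512) (hfit : Fits K.ι g F.gs im)
    (hW : ∀ w ∈ W, ∀ i ∈ w, i < im.length) (hwords : (W.map fun w => evS w F.gs) = [2, 8, 32])
    (hv : vOK W im = true) : g ∈ K.NV := by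
  have key : ∀ t ∈ [2, 8, 32], g * K.ι.e t * g⁻¹ ∈ K.Vsub := by
    intro t ht
    rw [← hwords, List.mem_map] at ht
    obtain ⟨w, hw, rfl⟩ := ht
    rw [evS_conj hF h512 hfit (hW w hw)]
    simp only [vOK, CfsgAutL34.Enum.force_eq, List.all_eq_true, Bool.and_eq_true, Nat.blt_eq, Nat.beq_eq] at hv
    exact (e_mem_sub (evS_lt _ _)).mpr ((A_iff (evS_lt _ _)).2.1.mpr (hv w hw))
  have hone : g * K.ι.e 0 * g⁻¹ ∈ K.Vsub := by rw [K.ι.map_zero]; simpa using one_mem K.Vsub
  have hite : ∀ t ∈ [2, 8, 32], ∀ p : Prop, ∀ [Decidable p], g * K.ι.e (if p then 0 else t) * g⁻¹ ∈ K.Vsub := by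
    intro t ht p _
    split_ifs <;> [exact hone; exact key t ht]
  have hmul : ∀ a b, a < 512 → b < 512 → g * K.ι.e a * g⁻¹ ∈ K.Vsub → g * K.ι.e b * g⁻¹ ∈ K.Vsub →
      g * K.ι.e (mulS a b) * g⁻¹ ∈ K.Vsub := by
    intro a b ha hb h1 h2
    rw [K.ι.map_mul ha hb, ← conj_mul]
    exact mul_mem h1 h2
  have hmap : K.Vsub.map (MulAut.conj g).toMonoidHom ≤ K.Vsub := by
    rintro _ ⟨_, ⟨x, hx, hT, rfl⟩, rfl⟩
    show g * K.ι.e x * g⁻¹ ∈ K.Vsub
    rw [vec_span x (V_cases hx hT)]
    have hlt : ∀ (t : ℕ) (p : Prop) [Decidable p], t < 512 → (if p then 0 else t) < 512 := fun t p _ h => by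
      split_ifs <;> omega
    exact hmul _ _ (mulS_lt _ _) (hlt 32 _ (by norm_num))
      (hmul _ _ (hlt 2 _ (by norm_num)) (hlt 8 _ (by norm_num)) (hite 2 (by simp) _) (hite 8 (by simp) _))
      (hite 32 (by simp) _)
  have heq := eq_of_le_of_card_ge hmap (le_of_eq (Nat.card_congr
    (K.Vsub.equivMapOfInjective _ (MulAut.conj g).injective).toEquiv))
  exact mem_normalizer_iff.mpr fun v => ⟨fun hv' => heq ▸ ⟨v, hv', rfl⟩, fun hv' => by
    rw [← heq] at hv'
    obtain ⟨u, hu, e⟩ := hv'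
    rwa [← (MulAut.conj g).injective e]⟩

variable [IsSimpleGroup G] (hc : Classes K)

include hc

theorem layer_move {w : ℕ} (hw : w ∈ Vlist) (hw0 : w ≠ 0) :
    ∃ g ∈ K.NV, g * K.ι.e w * g⁻¹ = K.z := by
  have hlab : labS w = 0 ∨ labS w = 7 ∨ labS w = 8 := (layer_points w hw).resolve_left hw0
  obtain ⟨hcon, e⟩ := exists_con (ι := K.ι) (V_mem hw).1 (by rcases hlab with h | h | h <;> omega)
  have hz : K.Ext ⊤ (K.ι.e (rp 8)) := ext_z le_top
  have hs := inv_mem (S_le_normalizer_V (K.e_mem hcon))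
  suffices ∃ g ∈ K.NV, g * K.ι.e (rp (labS w)) * g⁻¹ = K.z by
    obtain ⟨g, hg, eg⟩ := this
    refine ⟨g * (K.ι.e (conS w))⁻¹, mul_mem hg hs, ?_⟩
    rw [← eg, ← e]
    group
  rcases hlab with h | h | h <;> rw [h]
  · obtain ⟨-, g, -, im, hQ, h512, hlen, -, hsend, hfit⟩ := some_of f08 le_top (a := 0) (b := 8) rfl rfl
      (Nat.zero_lt_succ _) (fun g _ e => fits_single e) hc.r08 hz
    refine ⟨g, normalizes_of_words (F := f08F) ?_ h512 hfit ?_ f08_words hQ, hsend.1.trans K.e_rp8⟩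
    · with_unfolding_all decide
    · rw [hlen]; with_unfolding_all decide
  · obtain ⟨-, g, -, im, hQ, h512, hlen, -, hsend, hfit⟩ := some_of f78 le_top (a := 7) (b := 8) rfl rfl
      (Nat.zero_lt_succ _) (fun g _ e => fits_single e) hc.r78 hz
    rw [Bool.and_eq_true] at hQ
    refine ⟨g, normalizes_of_words (F := f78F) ?_ h512 hfit ?_ f78_words hQ.1, hsend.1.trans K.e_rp8⟩
    · with_unfolding_all decide
    · rw [hlen]; with_unfolding_all decide
  · exact ⟨1, one_mem _, by rw [one_mul, inv_one, mul_one, K.e_rp8]⟩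

theorem act_surjective : Function.Surjective K.act := by
  classical
  haveI : _root_.Fact (Nat.Prime 2) := ⟨Nat.prime_two⟩
  obtain ⟨hsimp, h168⟩ := CfsgLib.Order168.gl32
  haveI := hsimp
  haveI : Finite (GL (Fin 3) (ZMod 2)) := Nat.finite_of_card_ne_zero (by rw [h168]; norm_num)
  set H := K.act.range with hH
  -- the Sylow part
  have h8 : 8 ∣ Nat.card H := by
    set S' : Subgroup K.NV := (K.S : Subgroup G).subgroupOf K.NV
    have hcardS : Nat.card S' = 512 := by
      rw [Nat.card_congr (subgroupOfEquivOfLe S_le_normalizer_V).toEquiv, ← K.range_eq, K.ι.card_range]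
    have hker : Nat.card (K.act.comp S'.subtype).ker ≤ 64 := by
      rw [← K.card_A]
      refine Nat.card_le_card_of_injective
        (fun s => (⟨((s : S') : K.NV), mem_A_of_centralizes s.1.2 (mem_ker_act.mp s.2)⟩ : K.Asub)) ?_
      intro a b e
      exact Subtype.ext (Subtype.ext (Subtype.ext (Subtype.ext_iff.mp e :)))
    have hmul : Nat.card (K.act.comp S'.subtype).range * Nat.card (K.act.comp S'.subtype).ker = 512 := by
      rw [← index_ker, index_mul_card, hcardS]
    have hdvd : Nat.card (K.act.comp S'.subtype).range ∣ Nat.card H := by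
      refine card_dvd_of_le ?_
      rintro _ ⟨s, rfl⟩
      exact ⟨s, rfl⟩
    have hpow : Nat.card (K.act.comp S'.subtype).range ∣ 512 := Dvd.intro _ hmul
    refine dvd_trans ?_ hdvd
    obtain ⟨i, -, hi⟩ := (Nat.dvd_prime_pow Nat.prime_two (m := 9)).mp hpow
    rw [hi] at hmul ⊢
    have : 2 ^ 3 ≤ 2 ^ i := by
      by_contra hlt
      push Not at hlt
      have := Nat.mul_le_mul (show 2 ^ i ≤ 7 by omega) hker
      omega
    exact pow_dvd_pow 2 ((Nat.pow_le_pow_iff_right (by norm_num)).mp this)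
  -- transitivity
  have h7 : 7 ∣ Nat.card H := by
    have hv0 : vec 34 ≠ 0 := vec34_ne
    have hact : ∀ f : Fin 3 → ZMod 2, f ≠ 0 → ∃ h ∈ H,
        Matrix.mulVec ((h : GL (Fin 3) (ZMod 2)) : Matrix (Fin 3) (Fin 3) (ZMod 2)) f = vec 34 := by
      intro f hf
      obtain ⟨hw, e⟩ := vec_code f
      obtain ⟨g, hg, eg⟩ := layer_move hc hw fun h0 => hf (by rw [← e, h0, vec_zero])
      refine ⟨_, ⟨⟨g, hg⟩, rfl⟩, ?_⟩
      rw [← e, act_mulVec _ hw, img_eq (⟨g, hg⟩ : K.NV) hw (by decide) eg]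
    letI : MulAction H (Fin 3 → ZMod 2) :=
      { smul := fun h f => Matrix.mulVec ((h : GL (Fin 3) (ZMod 2)) : Matrix (Fin 3) (Fin 3) (ZMod 2)) f
        one_smul := fun f => Matrix.one_mulVec f
        mul_smul := fun a b f => (Matrix.mulVec_mulVec f _ _).symm }
    have horb : MulAction.orbit H (vec 34) = {f | f ≠ 0} := by
      refine Set.Subset.antisymm ?_ fun f hf => ?_
      · rintro _ ⟨h, rfl⟩ h0
        have h1 : (h⁻¹ • h • vec 34) = h⁻¹ • (0 : Fin 3 → ZMod 2) := by rw [← h0]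
        rw [inv_smul_smul] at h1
        have : vec 34 = 0 := h1.trans (Matrix.mulVec_zero _)
        exact hv0 this
      · obtain ⟨h, hh, e⟩ := hact f hf
        have e' : (⟨h, hh⟩ : H) • f = vec 34 := e
        exact ⟨(⟨h, hh⟩ : H)⁻¹, by show (⟨h, hh⟩ : H)⁻¹ • vec 34 = f; rw [← e', inv_smul_smul]⟩
    have := MulAction.index_stabilizer H (vec 34)
    rw [horb] at this
    have h7' : ({f | f ≠ 0} : Set (Fin 3 → ZMod 2)).ncard = 7 := by
      rw [Set.ncard_eq_toFinset_card']; rfl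
    rw [h7'] at this
    rw [← this]
    exact index_dvd_card _
  have h56 : 56 ∣ Nat.card H := Nat.Coprime.mul_dvd_of_dvd_of_dvd (by norm_num : Nat.Coprime 8 7) h8 h7
  have hidx : H.index ∣ 3 := by
    have := H.card_mul_index
    rw [h168] at this
    obtain ⟨k, hk⟩ := h56
    rw [hk] at this
    exact Dvd.intro_left k (by nlinarith)
  have htop : H = ⊤ := by
    rcases (Nat.dvd_prime Nat.prime_three).mp hidx with h | h
    · exact index_eq_one.mp h
    · exfalso
      rcases hsimp.eq_bot_or_eq_top_of_normal H.normalCore inferInstance with hn | hn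
      · have hd := Subgroup.index_bot (G := GL (Fin 3) (ZMod 2))
        have hdvd : H.normalCore.index ∣ (Nat.card (GL (Fin 3) (ZMod 2) ⧸ H)).factorial := by
          rw [normalCore_eq_ker, index_ker, ← Nat.card_perm]
          exact card_subgroup_dvd_card _
        rw [hn, hd, h168, ← index, h] at hdvd
        norm_num [Nat.factorial] at hdvd
      · have := H.normalCore_le
        rw [hn, top_le_iff] at this
        rw [this, index_top] at h
        omega
  exact MonoidHom.range_eq_top.mp htop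

/-- The automizer is the full linear group. -/
theorem exists_act {M : Matrix (Fin 3) (Fin 3) (ZMod 2)} (hM : IsUnit M) : ∃ g : K.NV,
    ∀ w ∈ Vlist, Matrix.mulVec M (vec w) = vec (K.img g w) := by
  obtain ⟨g, hg⟩ := act_surjective hc hM.unit
  refine ⟨g, fun w hw => ?_⟩
  rw [← act_mulVec g hw, hg]
  rfl

/-- An element of the automizer exchanging the central involution and its neighbour. -/
theorem exists_swap : ∃ g ∈ K.NV, g * K.ι.e (rp 0) * g⁻¹ = K.z ∧ g * K.z * g⁻¹ = K.ι.e (rp 0) := by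
  have h0 : rp 0 = 2 := by with_unfolding_all rfl
  have hM : IsUnit (!![(1 : ZMod 2), 0, 0; 0, 1, 0; 1, 0, 1] : Matrix (Fin 3) (Fin 3) (ZMod 2)) :=
    IsUnit.of_mul_eq_one (!![(1 : ZMod 2), 0, 0; 0, 1, 0; 1, 0, 1]) (by decide +kernel)
  obtain ⟨g, hg⟩ := exists_act hc hM
  have h1 : K.img g 2 = 34 := vec_inj _ (img_spec g (by decide)).1 34 (by decide)
    ((hg 2 (by decide)).symm.trans (by decide +kernel))
  have h2 : K.img g 34 = 2 := vec_inj _ (img_spec g (by decide)).1 2 (by decide)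
    ((hg 34 (by decide)).symm.trans (by decide +kernel))
  refine ⟨g, g.2, ?_, ?_⟩
  · rw [h0, ← (img_spec g (by decide : (2 : ℕ) ∈ Vlist)).2, h1]; rfl
  · rw [h0, ← h2, (img_spec g (by decide : (34 : ℕ) ∈ Vlist)).2]; rfl

/-- An element fixing the central involution moves one class of the layer onto the other. -/
theorem exists_fix_move : ∃ g ∈ K.NV, g * K.z * g⁻¹ = K.z ∧ g * K.ι.e (rp 0) * g⁻¹ = K.ι.e (rp 7) := by
  have h0 : rp 0 = 2 := by with_unfolding_all rfl
  have h7 : rp 7 = 8 := by with_unfolding_all rfl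
  have hM : IsUnit (!![(0 : ZMod 2), 1, 1; 1, 0, 1; 0, 0, 1] : Matrix (Fin 3) (Fin 3) (ZMod 2)) :=
    IsUnit.of_mul_eq_one (!![(0 : ZMod 2), 1, 1; 1, 0, 1; 0, 0, 1]) (by decide +kernel)
  obtain ⟨g, hg⟩ := exists_act hc hM
  have h1 : K.img g 2 = 8 := vec_inj _ (img_spec g (by decide)).1 8 (by decide)
    ((hg 2 (by decide)).symm.trans (by decide +kernel))
  have h2 : K.img g 34 = 34 := vec_inj _ (img_spec g (by decide)).1 34 (by decide)
    ((hg 34 (by decide)).symm.trans (by decide +kernel))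
  refine ⟨g, g.2, ?_, ?_⟩
  · have := (img_spec g (by decide : (34 : ℕ) ∈ Vlist)).2
    rw [h2] at this
    exact this.symm
  · rw [h0, h7, ← h1, (img_spec g (by decide : (2 : ℕ) ∈ Vlist)).2]

end Setup

end CfsgHSSylow
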