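import Cfsg.Agent.Lib.HSSylow.Code

/-!
Small kernel checks: labels, orders of centralizers, a functional on the coded group.
-/

set_option autoImplicit false
set_option maxRecDepth 100000
set_option maxHeartbeats 4000000
set_option Elab.async false

namespace CfsgHSSylow

/-- The values of a homomorphism onto the group of order two, one bit each. -/
def phiT : ℕ := 13407807929942597098847186273910239236969444018900783322580063136098668673514857287274768220802268387129003177701362428774192761570871467260109520434626560

/-- The homomorphism onto the group of order two. -/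
noncomputable def phiS (x : ℕ) : ℕ := Nat.mod (Nat.shiftRight phiT x) (nat_lit 2)

/-- The order of the centralizer of an element. -/
noncomputable def cCard (x : ℕ) : ℕ := ((List.range 512).filter fun h => Nat.beq (mulS h x) (mulS x h)).length

theorem phi_hom : ((List.range 512).all fun x => (List.range 512).all fun y =>
    Nat.beq (phiS (mulS x y)) (Nat.mod (Nat.add (phiS x) (phiS y)) 2)) = true := by decide +kernel

theorem phi_vals : ([0, 1, 6, 7, 8].all fun a => Nat.beq (phiS (rp a)) 0) = true ∧
    ([2, 3, 4, 5].all fun a => Nat.beq (phiS (rp a)) 1) = true ∧ phiS 0 = 0 := by decide +kernel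

theorem lab_inv : ((List.range 512).all fun x => Nat.beq x 0 || !(Nat.beq (mulS x x) 0) || Nat.blt (labS x) 9) = true ∧
    ((List.range 512).all fun x => !(Nat.beq (mulS x x) 34) || (Nat.ble 9 (labS x) && Nat.blt (labS x) 16)) = true := by
  decide +kernel

theorem lab_reps : ((List.range 16).all fun a => Nat.beq (labS (rp a)) a && Nat.blt (rp a) 512 && !(Nat.beq (rp a) 0) &&
    Nat.beq (mulS (rp a) (rp a)) (if Nat.blt a 9 then 0 else 34)) = true := by decide +kernel

theorem z_central : ((List.range 512).all fun x => Nat.beq (mulS x 34) (mulS 34 x)) = true ∧ rp 8 = 34 ∧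
    ((List.range 512).all fun x => !(Nat.beq (labS x) 8) || Nat.beq x 34) = true := by decide +kernel

theorem card_reps : ((List.range 16).map fun a => cCard (rp a)) =
    [256, 64, 32, 32, 32, 32, 64, 128, 512, 256, 256, 128, 32, 32, 64, 64] := by decide +kernel

end CfsgHSSylow
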