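import Cfsg.Agent.Lib.HSSylow.Rel
import Cfsg.Agent.Lib.HSSylow.SmallChecks
import Mathlib.GroupTheory.Sylow

/-!
Fusion in a group having the coded group as a Sylow 2-subgroup: extremal elements.
-/

set_option autoImplicit false

namespace CfsgHSSylow

open Subgroup

attribute [local irreducible] mulS invS labS conS phiS

/-- A group with the coded group as a Sylow 2-subgroup. -/
structure Setup (G : Type*) [Group G] where
  /-- the copy of the coded group -/
  ι : Emb G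
  /-- the Sylow subgroup -/
  S : Sylow 2 G
  range_eq : ι.range = (S : Subgroup G)

namespace Setup

variable {G : Type*} [Group G] (K : Setup G)

theorem e_mem {x : ℕ} (hx : x < 512) : K.ι.e x ∈ (K.S : Subgroup G) := K.range_eq ▸ K.ι.e_mem hx

theorem exists_code {g : G} (hg : g ∈ (K.S : Subgroup G)) : ∃ x < 512, K.ι.e x = g :=
  K.ι.mem_range.mp (K.range_eq ▸ hg)

/-- The central involution. -/
def z : G := K.ι.e 34

theorem e_rp8 : K.ι.e (rp 8) = K.z := by rw [z_central.2.1]; rfl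

theorem z_comm {s : G} (hs : s ∈ (K.S : Subgroup G)) : Commute s K.z := by
  obtain ⟨x, hx, rfl⟩ := K.exists_code hs
  exact (K.ι.commute_iff hx (by norm_num)).mpr
    (Nat.eq_of_beq_eq_true (List.all_eq_true.mp z_central.1 x (List.mem_range.mpr hx)))

theorem orderOf_e {x : ℕ} (hx : x < 512) (h0 : x ≠ 0) (h : mulS x x = 0) : orderOf (K.ι.e x) = 2 :=
  orderOf_eq_prime (by rw [pow_two, ← K.ι.map_mul hx hx, h, K.ι.map_zero])
    fun e => h0 (K.ι.inj hx (by norm_num) (e.trans K.ι.map_zero.symm))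

theorem orderOf_rp {a : ℕ} (ha : a < 9) : orderOf (K.ι.e (rp a)) = 2 := by
  have h := List.all_eq_true.mp lab_reps a (List.mem_range.mpr (by omega))
  simp only [Bool.and_eq_true, Nat.beq_eq, Nat.blt_eq, Bool.not_eq_true', if_pos ha] at h
  exact K.orderOf_e h.1.1.2 (fun e => by simp [e] at h) h.2

theorem orderOf_z : orderOf K.z = 2 := K.e_rp8 ▸ K.orderOf_rp (by norm_num)

/-- Every 2-subgroup of the centralizer inside `H` moves into the Sylow subgroup there. -/
def Ext (H : Subgroup G) (v : G) : Prop :=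
  ∀ Q : Subgroup G, IsPGroup 2 Q → Q ≤ H → (∀ q ∈ Q, Commute q v) →
    ∃ c ∈ H, Commute c v ∧ ∀ q ∈ Q, c * q * c⁻¹ ∈ (K.S : Subgroup G)

variable {K}

theorem Ext.conj {H : Subgroup G} {v s : G} (h : K.Ext H v) (hs : s ∈ (K.S : Subgroup G)) (hsH : s ∈ H) :
    K.Ext H (s * v * s⁻¹) := by
  intro Q hQ hQH hQv
  obtain ⟨c, hc, hcv, hin⟩ := h (Q.map (MulAut.conj s⁻¹).toMonoidHom) (hQ.map _) (by
    rintro _ ⟨q, hq, rfl⟩
    exact mul_mem (mul_mem (inv_mem hsH) (hQH hq)) (inv_mem (inv_mem hsH))) (by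
    rintro _ ⟨q, hq, rfl⟩
    have := (hQv q hq).map (MulAut.conj s⁻¹).toMonoidHom
    simpa [MulAut.conj_apply, mul_assoc] using this)
  refine ⟨s * c * s⁻¹, mul_mem (mul_mem hsH hc) (inv_mem hsH), ?_, fun q hq => ?_⟩
  · simpa using hcv.map (MulAut.conj s).toMonoidHom
  · have h1 := mul_mem (mul_mem hs (hin _ ⟨q, hq, rfl⟩)) (inv_mem hs)
    convert h1 using 1
    simp only [MulEquiv.coe_toMonoidHom, MulAut.conj_apply]
    group

/-- A conjugation onto an extremal element carries the centralizer along. -/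
theorem sends_of_ext {H : Subgroup G} (hS : (K.S : Subgroup G) ≤ H) {x y : ℕ} (hx : x < 512) (hy : y < 512)
    {g : G} (hg : g ∈ H) (h : g * K.ι.e x * g⁻¹ = K.ι.e y) (hext : K.Ext H (K.ι.e y)) :
    ∃ g' ∈ H, Sends K.ι g' x y := by
  obtain ⟨c, hc, hcv, hin⟩ := hext
    (((K.S : Subgroup G) ⊓ centralizer ({K.ι.e x} : Set G)).map (MulAut.conj g).toMonoidHom)
    ((K.S.isPGroup'.to_le inf_le_left).map _) (by
      rintro _ ⟨q, hq, rfl⟩
      exact mul_mem (mul_mem hg (hS hq.1)) (inv_mem hg)) (by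
      rintro _ ⟨q, hq, rfl⟩
      rw [← h]
      exact (show Commute q (K.ι.e x) from mem_centralizer_singleton_iff.mp hq.2).map (MulAut.conj g).toMonoidHom)
  have e1 : c * g * K.ι.e x * (c * g)⁻¹ = K.ι.e y := by
    rw [show c * g * K.ι.e x * (c * g)⁻¹ = c * (g * K.ι.e x * g⁻¹) * c⁻¹ by group, h, hcv.eq, mul_inv_cancel_right]
  refine ⟨c * g, mul_mem hc hg, e1, fun k hk hkx => ?_⟩
  have hk' := (K.ι.commute_iff hk hx).mpr hkx
  obtain ⟨m, hm, em⟩ := K.exists_code (hin (g * K.ι.e k * g⁻¹)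
    ⟨K.ι.e k, ⟨K.e_mem hk, mem_centralizer_singleton_iff.mpr hk'.eq⟩, rfl⟩)
  have e2 : c * g * K.ι.e k * (c * g)⁻¹ = K.ι.e m := by rw [em]; group
  refine ⟨m, hm, (K.ι.commute_iff hm hy).mp ?_, e2⟩
  rw [← e2, ← e1]
  exact hk'.map (MulAut.conj (c * g)).toMonoidHom

/-- Such a conjugation gives a smaller centralizer. -/
theorem card_le_of_sends {g : G} {x y : ℕ} (h : Sends K.ι g x y) : cCard x ≤ cCard y := by
  classical
  choose f hf using h.2
  rw [cCard, cCard, ← List.toFinset_card_of_nodup (List.nodup_range.filter _),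
    ← List.toFinset_card_of_nodup (List.nodup_range.filter _)]
  refine Finset.card_le_card_of_injOn (fun k => if hk : k < 512 ∧ mulS k x = mulS x k then f k hk.1 hk.2 else 0) ?_ ?_
  · intro k hk
    simp only [List.coe_toFinset, Set.mem_setOf_eq, List.mem_filter, List.mem_range, Nat.beq_eq] at hk ⊢
    rw [dif_pos hk]
    exact ⟨(hf k hk.1 hk.2).1, (hf k hk.1 hk.2).2.1⟩
  · intro a ha b hb e
    simp only [List.coe_toFinset, Set.mem_setOf_eq, List.mem_filter, List.mem_range, Nat.beq_eq] at ha hb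
    simp only [dif_pos ha, dif_pos hb] at e
    have h1 := (hf a ha.1 ha.2).2.2
    rw [e, ← (hf b hb.1 hb.2).2.2] at h1
    exact K.ι.inj ha.1 hb.1 ((MulAut.conj g).injective h1)

/-- An element is conjugate to an extremal one. -/
theorem exists_ext [Finite G] {H : Subgroup G} (hS : (K.S : Subgroup G) ≤ H) {x : ℕ} (hx : x < 512) :
    ∃ y < 512, ∃ g ∈ H, g * K.ι.e x * g⁻¹ = K.ι.e y ∧ K.Ext H (K.ι.e y) := by
  haveI : Fact (Nat.Prime 2) := ⟨Nat.prime_two⟩
  set C : Subgroup G := H ⊓ centralizer ({K.ι.e x} : Set G) with hC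
  set Q₀ : Subgroup G := (K.S : Subgroup G) ⊓ centralizer ({K.ι.e x} : Set G)
  have hQ₀ : Q₀ ≤ C := inf_le_inf_right _ hS
  obtain ⟨T, hT⟩ := ((K.S.isPGroup'.to_le inf_le_left : IsPGroup 2 Q₀).of_equiv
    (subgroupOfEquivOfLe hQ₀).symm).exists_le_sylow
  have hTH : (T : Subgroup C).map C.subtype ≤ H := (map_subtype_le _).trans inf_le_left
  obtain ⟨U, hU⟩ := ((T.isPGroup'.map C.subtype).of_equiv (subgroupOfEquivOfLe hTH).symm).exists_le_sylow
  obtain ⟨h, hh⟩ := MulAction.exists_smul_eq H U (K.S.subtype hS)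
  have hin : ∀ q ∈ (T : Subgroup C).map C.subtype, (h : G) * q * (h : G)⁻¹ ∈ (K.S : Subgroup G) := by
    intro q hq
    have h2 : h * ⟨q, hTH hq⟩ * h⁻¹ ∈ ((h • U : Sylow 2 H) : Subgroup H) := by
      rw [Sylow.smul_def, Sylow.pointwise_smul_def]
      exact ⟨_, hU (mem_subgroupOf.mpr hq), rfl⟩
    rw [hh] at h2
    exact h2
  have hxT : K.ι.e x ∈ (T : Subgroup C).map C.subtype := by
    have hm : K.ι.e x ∈ Q₀ := ⟨K.e_mem hx, mem_centralizer_singleton_iff.mpr rfl⟩
    exact ⟨⟨_, hQ₀ hm⟩, hT (mem_subgroupOf.mpr hm), rfl⟩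
  obtain ⟨y, hy, ey⟩ := K.exists_code (hin _ hxT)
  refine ⟨y, hy, h, h.2, ey.symm, fun Q hQ hQH hQv => ?_⟩
  rw [ey] at hQv
  set Q' := Q.map (MulAut.conj (h : G)⁻¹).toMonoidHom with hQ'
  have hQC : Q' ≤ C := by
    rintro _ ⟨q, hq, rfl⟩
    refine ⟨H.mul_mem (H.mul_mem (H.inv_mem h.2) (hQH hq)) (H.inv_mem (H.inv_mem h.2)), mem_centralizer_singleton_iff.mpr ?_⟩
    have := ((hQv q hq).map (MulAut.conj (h : G)⁻¹).toMonoidHom).eq
    simpa [MulAut.conj_apply, mul_assoc] using this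
  obtain ⟨R, hR⟩ := ((hQ.map _ : IsPGroup 2 Q').of_equiv (subgroupOfEquivOfLe hQC).symm).exists_le_sylow
  obtain ⟨k, hk⟩ := MulAction.exists_smul_eq C R T
  refine ⟨h * k * (h : G)⁻¹, mul_mem (mul_mem h.2 k.2.1) (inv_mem h.2), ?_, fun q hq => ?_⟩
  · rw [ey]
    exact (show Commute (k : G) (K.ι.e x) from mem_centralizer_singleton_iff.mp k.2.2).map
      (MulAut.conj (h : G)).toMonoidHom
  · have hq' : (h : G)⁻¹ * q * (h : G) ∈ Q' := ⟨q, hq, by simp⟩
    have h2 : k * ⟨_, hQC hq'⟩ * k⁻¹ ∈ ((k • R : Sylow 2 C) : Subgroup C) := by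
      rw [Sylow.smul_def, Sylow.pointwise_smul_def]
      exact ⟨_, hR (mem_subgroupOf.mpr hq'), rfl⟩
    rw [hk] at h2
    have h3 := hin _ ⟨_, h2, rfl⟩
    convert h3 using 1
    simp [mul_assoc]

/-- A conjugation between centralizers of equal orders can be turned around. -/
theorem sends_symm {g : G} {x y : ℕ} (hx : x < 512) (h : Sends K.ι g x y) (hc : cCard x = cCard y) :
    Sends K.ι g⁻¹ y x := by
  classical
  refine ⟨by rw [← h.1]; group, fun m hm hmy => ?_⟩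
  choose f hf using h.2
  set A := ((List.range 512).filter fun k => Nat.beq (mulS k x) (mulS x k)).toFinset with hA
  set B := ((List.range 512).filter fun k => Nat.beq (mulS k y) (mulS y k)).toFinset with hB
  have hmem : ∀ {v k : ℕ}, k ∈ ((List.range 512).filter fun k => Nat.beq (mulS k v) (mulS v k)).toFinset ↔
      k < 512 ∧ mulS k v = mulS v k := fun {v k} => by simp [Nat.beq_eq]
  obtain ⟨k, hk, hkm⟩ := Finset.surj_on_of_inj_on_of_card_le (s := A) (t := B)
    (fun k hk => f k (hmem.mp hk).1 (hmem.mp hk).2)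
    (fun k hk => hmem.mpr ⟨(hf k (hmem.mp hk).1 (hmem.mp hk).2).1, (hf k (hmem.mp hk).1 (hmem.mp hk).2).2.1⟩)
    (fun a b ha hb e => by
      have h1 := (hf a (hmem.mp ha).1 (hmem.mp ha).2).2.2
      rw [e, ← (hf b (hmem.mp hb).1 (hmem.mp hb).2).2.2] at h1
      exact K.ι.inj (hmem.mp ha).1 (hmem.mp hb).1 ((MulAut.conj g).injective h1))
    (by
      rw [hA, hB, List.toFinset_card_of_nodup (List.nodup_range.filter _),
        List.toFinset_card_of_nodup (List.nodup_range.filter _)]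
      exact hc.ge) m (hmem.mpr ⟨hm, hmy⟩)
  refine ⟨k, (hmem.mp hk).1, (hmem.mp hk).2, ?_⟩
  subst hkm
  rw [← (hf k (hmem.mp hk).1 (hmem.mp hk).2).2.2]
  group

/-- An involution class has an extremal member. -/
theorem ext_label [Finite G] {H : Subgroup G} (hS : (K.S : Subgroup G) ≤ H) {a : ℕ} (ha : a < 9) :
    ∃ b < 9, Rel K.ι H a b ∧ K.Ext H (K.ι.e (rp b)) := by
  obtain ⟨y, hy, g, hg, e, hext⟩ := exists_ext (K := K) hS (rp_lt a)
  have ho : orderOf (K.ι.e y) = 2 := by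
    rw [← e]
    exact ((MulAut.conj g).orderOf_eq _).trans (K.orderOf_rp ha)
  have hy0 : y ≠ 0 := fun h => by simp [h, K.ι.map_zero] at ho
  have hyy : mulS y y = 0 := K.ι.inj (mulS_lt _ _) (by norm_num) (by
    rw [K.ι.map_mul hy hy, K.ι.map_zero, ← pow_two, ← ho, pow_orderOf_eq_one])
  have h := List.all_eq_true.mp lab_inv.1 y (List.mem_range.mpr hy)
  simp only [Bool.or_eq_true, Nat.beq_eq, Bool.not_eq_true', Nat.blt_eq] at h
  have hl : labS y < 9 := by
    rcases h with (h | h) | h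
    · exact absurd h hy0
    · simp [hyy] at h
    · exact h
  obtain ⟨hc, ec⟩ := exists_con (ι := K.ι) hy (by omega : labS y < 16)
  refine ⟨labS y, hl, ?_, ?_⟩
  · refine ⟨(K.ι.e (conS y))⁻¹ * g, mul_mem (inv_mem (hS (K.e_mem hc))) hg, ?_⟩
    rw [show (K.ι.e (conS y))⁻¹ * g * K.ι.e (rp a) * ((K.ι.e (conS y))⁻¹ * g)⁻¹ =
      (K.ι.e (conS y))⁻¹ * (g * K.ι.e (rp a) * g⁻¹) * K.ι.e (conS y) by group, e, ← ec]
    group
  · have := hext.conj (inv_mem (K.e_mem hc)) (hS (inv_mem (K.e_mem hc)))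
    rw [← ec] at this
    convert this using 1
    group

end Setup

end CfsgHSSylow
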