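import Cfsg.Agent.Lib.HSSylow.Local

/-!
The central element of order four is weakly closed in the centralizer of the central involution.
-/

set_option autoImplicit false

namespace CfsgHSSylow

open Subgroup

attribute [local irreducible] mulS invS labS conS inB bitsA bitsV bitsR bitsE cent2

namespace Setup

variable {G : Type*} [Group G] [Finite G] {K : Setup G}

theorem rp34 {a : ℕ} (ha : a < 16) (ha9 : 9 ≤ a) : mulS (rp a) (rp a) = 34 := by
  have h := List.all_eq_true.mp lab_reps a (List.mem_range.mpr ha)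
  simp only [Bool.and_eq_true, Nat.beq_eq, if_neg (by simp [Nat.blt_eq]; omega : ¬ Nat.blt a 9 = true)] at h
  exact h.2

/-- An element with the central involution as square has one of seven labels. -/
theorem lab_of_sq {x : ℕ} (hx : x < 512) (h : mulS x x = 34) : 9 ≤ labS x ∧ labS x < 16 := by
  have h' := List.all_eq_true.mp lab_inv.2 x (List.mem_range.mpr hx)
  simpa [h, Nat.ble_eq, Nat.blt_eq] using h'

theorem exists_ext_nine (hS : (K.S : Subgroup G) ≤ K.CZ := S_le_CZ) : K.Ext K.CZ (K.ι.e (rp 9)) := by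
  obtain ⟨y, hy, g, hg, e, hext⟩ := exists_ext (K := K) hS (rp_lt 9)
  have hyy : mulS y y = 34 := by
    refine K.ι.inj (mulS_lt _ _) (by norm_num) ?_
    rw [K.ι.map_mul hy hy, ← e, conj_mul, ← K.ι.map_mul (rp_lt 9) (rp_lt 9), rp34 (by norm_num) le_rfl]
    show g * K.z * g⁻¹ = K.z
    rw [(CZ_comm g hg).eq, mul_inv_cancel_right]
  obtain ⟨hl9, hl16⟩ := lab_of_sq hy hyy
  obtain ⟨hc, ec⟩ := exists_con (ι := K.ι) hy hl16
  obtain ⟨g', hg', hs⟩ := sends_of_ext (K := K) hS (rp_lt 9) hy hg e hext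
  -- move the image onto the representative
  have hinv := inv_mem (K.e_mem hc)
  have hext' : K.Ext K.CZ (K.ι.e (rp (labS y))) := by
    have := hext.conj hinv (hS hinv)
    rw [← ec] at this
    convert this using 1
    group
  obtain ⟨g'', hg'', hs'⟩ := sends_of_ext (K := K) hS (rp_lt 9) (rp_lt (labS y))
    (mul_mem (hS hinv) hg) (show _ = K.ι.e (rp (labS y)) by
      rw [show (K.ι.e (conS y))⁻¹ * g * K.ι.e (rp 9) * ((K.ι.e (conS y))⁻¹ * g)⁻¹ =
        (K.ι.e (conS y))⁻¹ * (g * K.ι.e (rp 9) * g⁻¹) * K.ι.e (conS y) by group, e, ← ec]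
      group) hext'
  have hk := card_le_of_sends hs'
  rw [card_rp (by norm_num), card_rp hl16] at hk
  have h10 : labS y = 9 ∨ labS y = 10 := by
    revert hk
    generalize labS y = a at hl9 hl16 ⊢
    interval_cases a <;> simp
  rcases h10 with h | h
  · rwa [h] at hext'
  · exfalso
    rw [h] at hs'
    have hsym := sends_symm (K := K) (rp_lt 9) hs' (by rw [card_rp (by norm_num), card_rp (by norm_num)]; rfl)
    obtain ⟨-, -, -, im, hP, -⟩ := c10F.sound c10.1 c10.2 (Nat.zero_lt_succ _) (ι := K.ι) (g := g''⁻¹) hsym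
      (fits_fixed CZ_comm (inv_mem hg'') rfl hsym.1)
    exact Bool.false_ne_true hP

variable [IsSimpleGroup G] (hc : Classes K)

include hc

theorem cross_not {u v : ℕ} (hu : u ∈ [8, 0, 7, 4, 5, 6]) (hv : v ∈ [1, 2, 3]) : ¬ Rel K.ι K.CZ u v := fun h => by
  simp only [List.mem_cons, List.not_mem_nil, or_false] at hu
  rcases hu with rfl | rfl | rfl | rfl | rfl | rfl
  · exact not_rel_top_one hc (by simp) v hv (h.mono le_top)
  · exact not_rel_top_one hc (by simp) v hv (h.mono le_top)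
  · exact not_rel_top_one hc (by simp) v hv (h.mono le_top)
  · exact not_rel_top_six hc (by simp) v hv (h.mono le_top)
  · exact not_rel_top_six hc (by simp) v hv (h.mono le_top)
  · exact not_rel_top_six hc (by simp) v hv (h.mono le_top)

theorem not_rel_nine {q : ℕ} (hq : 10 ≤ q) (hq' : q < 16) : ¬ Rel K.ι K.CZ q 9 := by
  have hext := exists_ext_nine (K := K)
  have hbad : ∀ b ∈ [10, 11, 14, 15], ¬ Rel K.ι K.CZ b 9 := by
    intro b hb h
    simp only [List.mem_cons, List.not_mem_nil, or_false] at hb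
    rcases hb with rfl | rfl | rfl | rfl
    · exact none_of c10 S_le_CZ (a := 10) (b := 9) rfl rfl (Nat.zero_lt_succ _)
        (fun g hg e => fits_fixed CZ_comm hg rfl e) h hext
    · exact none_of c11 S_le_CZ (a := 11) (b := 9) rfl rfl (Nat.zero_lt_succ _)
        (fun g hg e => fits_fixed CZ_comm hg rfl e) h hext
    · exact none_of c14 S_le_CZ (a := 14) (b := 9) rfl rfl (Nat.zero_lt_succ _)
        (fun g hg e => fits_fixed CZ_comm hg rfl e) h hext
    · exact none_of c15 S_le_CZ (a := 15) (b := 9) rfl rfl (Nat.zero_lt_succ _)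
        (fun g hg e => fits_fixed CZ_comm hg rfl e) h hext
  -- the shapes of the options
  have hclash : ∀ q', Rel K.ι K.CZ q' 9 → ∀ p : ℕ × ℕ,
      (p.1 ∈ [8, 0, 7, 4, 5, 6] ∧ p.2 ∈ [1, 2, 3]) ∨ (p.1 ∈ [10, 11, 14, 15] ∧ (p.2 = 9 ∨ p.2 = q')) ∨
      (¬ Rel K.ι ⊤ 6 8 ∧ p.1 ∈ [8, 0, 7] ∧ p.2 ∈ [4, 5, 6]) → ¬ Rel K.ι K.CZ p.1 p.2 := by
    intro q' hq'9 p hp h
    rcases hp with ⟨h1, h2⟩ | ⟨h1, h2⟩ | ⟨h68, h1, h2⟩
    · exact cross_not hc h1 h2 h
    · rcases h2 with h2 | h2 <;> rw [h2] at h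
      · exact hbad _ h1 h
      · exact hbad _ h1 (h.trans hq'9)
    · refine h68 ?_
      have ht := h.mono (le_top : K.CZ ≤ ⊤)
      have a1 : Rel K.ι ⊤ p.1 8 := by
        simp only [List.mem_cons, List.not_mem_nil, or_false] at h1
        rcases h1 with e | e | e <;> rw [e]
        · exact Rel.refl _
        · exact hc.r08
        · exact hc.r78
      have a2 : Rel K.ι ⊤ p.2 6 := by
        simp only [List.mem_cons, List.not_mem_nil, or_false] at h2
        rcases h2 with e | e | e <;> rw [e]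
        · exact hc.r46
        · exact hc.r56
        · exact Rel.refl _
      exact (a2.symm.trans ht.symm).trans a1
  intro h
  interval_cases q
  · exact hbad 10 (by simp) h
  · exact hbad 11 (by simp) h
  · by_cases h68 : Rel K.ι ⊤ 6 8
    · obtain ⟨opt, hopt, hall⟩ := (some_of c50 S_le_CZ (a := 5) (b := 0) rfl rfl (Nat.zero_lt_succ _)
        (fun g hg e => fits_fixed CZ_comm hg rfl e) (xr_zero hc h68 (by simp)) (ext0 hc)).1 _ List.mem_cons_self
      have hsh : ∀ o ∈ c50C.head!, ∃ p ∈ o, (p.1 ∈ [8, 0, 7, 4, 5, 6] ∧ p.2 ∈ [1, 2, 3]) ∨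
          (p.1 ∈ [10, 11, 14, 15] ∧ (p.2 = 9 ∨ p.2 = 12)) := by with_unfolding_all decide +kernel
      obtain ⟨p, hp, hsh⟩ := hsh opt hopt
      exact hclash 12 h p (hsh.imp id Or.inl) (hall p hp)
    · obtain ⟨opt, hopt, hall⟩ := (some_of c12 S_le_CZ (a := 12) (b := 9) rfl rfl (Nat.zero_lt_succ _)
        (fun g hg e => fits_fixed CZ_comm hg rfl e) h hext).1 _ List.mem_cons_self
      have hsh : ∀ o ∈ c12C.head!, ∃ p ∈ o, (p.1 ∈ [8, 0, 7, 4, 5, 6] ∧ p.2 ∈ [1, 2, 3]) ∨
          (p.1 ∈ [10, 11, 14, 15] ∧ (p.2 = 9 ∨ p.2 = 12)) ∨ (p.1 ∈ [8, 0, 7] ∧ p.2 ∈ [4, 5, 6]) := by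
        with_unfolding_all decide +kernel
      obtain ⟨p, hp, hsh⟩ := hsh opt hopt
      exact hclash 12 h p (hsh.imp id (Or.imp id (fun x => ⟨h68, x⟩))) (hall p hp)
  · obtain ⟨opt, hopt, hall⟩ := (some_of c13 S_le_CZ (a := 13) (b := 9) rfl rfl (Nat.zero_lt_succ _)
      (fun g hg e => fits_fixed CZ_comm hg rfl e) h hext).1 _ List.mem_cons_self
    have hsh : ∀ o ∈ c13C.head!, ∃ p ∈ o, (p.1 ∈ [8, 0, 7, 4, 5, 6] ∧ p.2 ∈ [1, 2, 3]) ∨
        (p.1 ∈ [10, 11, 14, 15] ∧ (p.2 = 9 ∨ p.2 = 13)) := by with_unfolding_all decide +kernel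
    obtain ⟨p, hp, hsh⟩ := hsh opt hopt
    exact hclash 13 h p (hsh.imp id Or.inl) (hall p hp)
  · exact hbad 14 (by simp) h
  · exact hbad 15 (by simp) h

/-- The central element of order four is weakly closed. -/
theorem c_isolated {g : G} (hg : g ∈ K.CZ) {x : ℕ} (hx : x < 512) (h : g * K.ι.e 17 * g⁻¹ = K.ι.e x) :
    x = 17 ∨ x = 51 := by
  have h17 : rp 9 = 17 := pair_codes.2.2.2.2.1
  have hxx : mulS x x = 34 := by
    refine K.ι.inj (mulS_lt _ _) (by norm_num) ?_
    rw [K.ι.map_mul hx hx, ← h, conj_mul, ← K.ι.map_mul (by norm_num) (by norm_num), c_lab.2.1]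
    show g * K.z * g⁻¹ = K.z
    rw [(CZ_comm g hg).eq, mul_inv_cancel_right]
  obtain ⟨hl9, hl16⟩ := lab_of_sq hx hxx
  have hr := rel_of_conj (ι := K.ι) (H := K.CZ) (K.range_eq ▸ S_le_CZ) hg (u := 17) (by norm_num) hx
    (by rw [c_lab.2.2.1]; norm_num) hl16 h
  rw [c_lab.2.2.1] at hr
  by_cases hl : labS x = 9
  · have := List.all_eq_true.mp c_lab.1 x (List.mem_range.mpr hx)
    simpa [hl, Nat.beq_eq] using this
  · exact absurd hr.symm (not_rel_nine hc (by omega) hl16)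

end Setup

end CfsgHSSylow
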