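import Cfsg.Agent.Lib.HSSylow.Code
import Cfsg.Agent.Lib.HSType.Base

/-!
Kernel checks of the tables of the Sylow 2-subgroup.
-/

set_option autoImplicit false
set_option maxRecDepth 100000
set_option maxHeartbeats 4000000
set_option Elab.async false

namespace CfsgHSSylow

/-- The code of an element in the split extension by L₃(2). -/
def dcode (x : ℕ) : ℕ := x % 64 + 64 * dl.getD (x / 64) 0

theorem tab_mul0 : ((List.range 128).all fun x => (List.range 512).all fun y => Nat.beq (mulS x y) (mulF x y)) = true := by
  decide +kernel

theorem tab_mul1 : ((List.range 128).all fun x => (List.range 512).all fun y =>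
    Nat.beq (mulS (128 + x) y) (mulF (128 + x) y)) = true := by
  decide +kernel

theorem tab_mul2 : ((List.range 128).all fun x => (List.range 512).all fun y =>
    Nat.beq (mulS (256 + x) y) (mulF (256 + x) y)) = true := by
  decide +kernel

theorem tab_mul3 : ((List.range 128).all fun x => (List.range 512).all fun y =>
    Nat.beq (mulS (384 + x) y) (mulF (384 + x) y)) = true := by
  decide +kernel

theorem tab_act : ((List.range 8).all fun d => (List.range 64).all fun v =>
    Nat.beq (act8 d v) (CfsgHSType.actV (dl.getD d 0) v)) = true := by decide +kernel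

theorem tab_lm : ((List.range 8).all fun d => (List.range 8).all fun e =>
    Nat.beq (dl.getD (lm8 d e) 0) (CfsgHSType.lmul (dl.getD d 0) (dl.getD e 0))) = true := by decide +kernel

theorem tab_vsum : ((List.range 64).all fun a => (List.range 64).all fun b =>
    Nat.beq (Nat.xor (Nat.add (Nat.land a 21) (Nat.land b 21)) (Nat.land (Nat.xor a b) 42))
      (CfsgHSType.vadd a b)) = true := by decide +kernel

theorem tab_inv : ((List.range 512).all fun x => Nat.beq (mulS (invS x) x) 0 && Nat.beq (mulS x (invS x)) 0) = true := by
  decide +kernel

theorem tab_dl : ((List.range 8).all fun d => Nat.blt (dl.getD d 0) 168) = true ∧ dl.getD 0 0 = 0 := by decide +kernel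

theorem tab_con : ((List.range 512).all fun x =>
    if Nat.blt (labS x) 16 then Nat.beq (cjS (conS x) (rp (labS x))) x else true) = true := by decide +kernel

end CfsgHSSylow
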