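import Cfsg.Agent.Lib.HSSylow.RNormal

/-!
The structure of the centralizer of the central involution: it is constrained, and its factor by the subgroup of
order 64 and the odd core acts faithfully on the six sets.
-/

set_option autoImplicit false

namespace CfsgHSSylow

open Subgroup
open Cfsg (pPrimeCore pCore pPrimePCore IsPConstrained)

attribute [local irreducible] mulS invS labS conS inB bitsA bitsV bitsR bitsE cent2 coS

namespace Setup

variable {G : Type*} [Group G] [Finite G] [IsSimpleGroup G] {K : Setup G} (hc : Classes K)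

include hc

/-- The image is its own centralizer in the Sylow subgroup. -/
theorem cent_SH {y : K.Hat} (hy : y ∈ (K.SH : Subgroup K.Hat)) (hcomm : ∀ r ∈ K.RH, y * r = r * y) : y ∈ K.RH := by
  obtain ⟨u, hu, rfl⟩ := mem_SH.mp hy
  refine eH_mem_RH hu ?_
  by_contra hR
  rw [Bool.not_eq_true] at hR
  have h := List.all_eq_true.mp R_cent.1 u (List.mem_range.mpr hu)
  simp only [hR, Bool.false_or, List.any_eq_true, Bool.not_eq_true', List.any_eq_false] at h
  obtain ⟨r, hr, hk⟩ := h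
  have hrR : r < 512 ∧ inB bitsR r = true := by
    refine ⟨by simp only [List.mem_cons, List.not_mem_nil, or_false] at hr; omega, ?_⟩
    exact List.all_eq_true.mp R_cent.2 r (List.mem_cons_of_mem _ hr)
  have e := hcomm _ (eH_mem_RH hrR.1 hrR.2)
  rw [← eH_mul hc hu hrR.1, ← eH_mul hc hrR.1 hu] at e
  set m := mulS (mulS u r) (invS (mulS r u)) with hm
  have hm4 : m ∈ four := by
    refine (eH_eq_one hc (mulS_lt _ _)).mp ?_
    rw [eH_mul hc (mulS_lt _ _) (invS_lt _), e, ← eH_mul hc (mulS_lt _ _) (invS_lt _)]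
    have e' := List.all_eq_true.mp tab_inv (mulS r u) (List.mem_range.mpr (mulS_lt _ _))
    simp only [Bool.and_eq_true, Nat.beq_eq] at e'
    rw [e'.2]
    exact (eH_eq_one hc (by norm_num)).mpr (by simp [four])
  refine hk m hm4 (Nat.beq_eq.mpr ?_)
  refine K.ι.inj (mulS_lt _ _) (mulS_lt _ _) ?_
  rw [K.ι.map_mul (four_lt hm4) (mulS_lt _ _), hm, K.ι.map_mul (mulS_lt _ _) (invS_lt _),
    K.ι.map_inv (mulS_lt _ _), inv_mul_cancel_right]

/-- The image is self-centralizing. -/
theorem cent_RH : centralizer (K.RH : Set K.Hat) = K.RH := by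
  haveI : _root_.Fact (Nat.Prime 2) := ⟨Nat.prime_two⟩
  refine le_antisymm ?_ fun r hr => mem_centralizer_iff.mpr fun s hs => (RH_comm hc hs hr)
  set C := centralizer (K.RH : Set K.Hat) with hC
  haveI := RH_normal hc
  haveI : C.Normal := inferInstance
  obtain ⟨a, ha, ha1⟩ : ∃ a ∈ K.RH, a ≠ 1 := by
    refine (K.RH.bot_or_exists_ne_one).resolve_left fun e => ?_
    have := card_RH hc; rw [e] at this; simp at this
  have hCa : C ≤ centralizer ({a} : Set K.Hat) := centralizer_le (by simpa using ha)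
  have hoc : OddClosed C := (oddClosed_cent hc ha ha1).mono hCa
  haveI : (oddPart C hoc).Normal :=
    ⟨fun x hx g => oddPart_conj hoc (fun k hk => Normal.conj_mem inferInstance k hk g) hx⟩
  have hbot : oddPart C hoc ≤ ⊥ :=
    (CfsgLib.le_pPrimeCore (Nat.coprime_two_right.mpr (odd_card_oddPart hoc))).trans (oddCore_Hat hc).le
  have hC2 : IsPGroup 2 C := fun ⟨x, hx⟩ => by
    obtain ⟨k, m, hm, e⟩ := Nat.exists_eq_two_pow_mul_odd (orderOf_pos x).ne'
    refine ⟨k, Subtype.ext (mem_bot.mp (hbot ⟨pow_mem hx _, hm.of_dvd_nat (orderOf_dvd_of_pow_eq_one ?_)⟩))⟩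
    show (x ^ 2 ^ k) ^ m = 1
    rw [← pow_mul, ← e, pow_orderOf_eq_one]
  obtain ⟨P, hP⟩ := hC2.exists_le_sylow
  obtain ⟨g, hg⟩ := MulAction.exists_smul_eq K.Hat P K.SH
  intro x hx
  have hx' : g * x * g⁻¹ ∈ C := Normal.conj_mem inferInstance x hx g
  have hS : g * x * g⁻¹ ∈ (K.SH : Subgroup K.Hat) := by
    rw [← hg, Sylow.smul_def, Sylow.pointwise_smul_def]
    exact ⟨x, hP hx, rfl⟩
  have := cent_SH hc hS fun r hr => (mem_centralizer_iff.mp hx' r hr).symm
  simpa [mul_assoc] using Normal.conj_mem (RH_normal hc) _ this g⁻¹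

theorem mem_normalizer_RH (g : K.Hat) : g ∈ normalizer (K.RH : Set K.Hat) := by
  haveI := RH_normal hc
  rw [normalizer_eq_top K.RH]
  exact mem_top g

omit hc in
/-- The action of the whole reduced centralizer on the six sets. -/
noncomputable def ovAll (hc : Classes K) : K.Hat →* Equiv.Perm (Fin 6) :=
  (ovHom hc).comp ((MonoidHom.id K.Hat).codRestrict _ (mem_normalizer_RH hc))

theorem ker_ovAll : (ovAll hc).ker = K.RH := by
  ext g
  refine ⟨fun h => ?_, fun h => MonoidHom.mem_ker.mpr (ovHom_RH hc (g := ⟨g, mem_normalizer_RH hc g⟩) h)⟩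
  rw [← cent_RH hc]
  exact mem_centralizer_iff.mpr fun r hr => (ovHom_ker hc (MonoidHom.mem_ker.mp h) r hr).symm

omit hc in
/-- The preimage of the image. -/
noncomputable def RO (K : Setup G) : Subgroup K.CZ := K.RH.comap K.red

theorem mem_RO {g : K.CZ} : g ∈ K.RO ↔ ∃ x ∈ K.local'.Rsub, ∃ o ∈ K.oX, x * o = g := by
  constructor
  · intro h
    obtain ⟨x, hx, hR, e⟩ := mem_RH.mp h
    obtain ⟨k, hk, o, ho, eo⟩ := (mem_ker0 hc).mp ((QuotientGroup.eq).mp e)
    refine ⟨K.eX (mulS x k), ?_, o, ho, ?_⟩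
    · exact (e_mem_sub (mulS_lt _ _)).mpr (R_mul hx (four_lt hk) hR (four_R hk))
    · rw [eX_mul hx (four_lt hk), mul_assoc, eo, mul_inv_cancel_left]
  · rintro ⟨_, ⟨x, hx, hR, rfl⟩, o, ho, rfl⟩
    refine mem_RH.mpr ⟨x, hx, hR, ?_⟩
    rw [map_mul, show K.red o = 1 from (QuotientGroup.eq_one_iff o).mpr (by
      rw [ker0_eq hc]; exact mem_sup_right ho), mul_one]

theorem RO_normal : (K.RO).Normal := (RH_normal hc).comap K.red

theorem R_le_RO : K.local'.Rsub ≤ K.RO := fun x hx => (mem_RO hc).mpr ⟨x, hx, 1, one_mem _, mul_one x⟩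

/-- The Frattini argument. -/
theorem frattini (g : K.CZ) :
    ∃ n ∈ normalizer ((K.local'.Rsub : Subgroup K.CZ) : Set K.CZ), ∃ o ∈ K.oX, n * o = g := by
  haveI : _root_.Fact (Nat.Prime 2) := ⟨Nat.prime_two⟩
  haveI := RO_normal hc
  set R' := K.local'.Rsub.subgroupOf K.RO
  have hR2 : IsPGroup 2 R' :=
    (K.local'.S.isPGroup'.to_le sub_le).of_equiv (subgroupOfEquivOfLe (R_le_RO hc)).symm
  have hidx : ¬ 2 ∣ R'.index := fun h2 => by
    have hd : K.local'.Rsub.relIndex K.RO ∣ Nat.card K.oX := by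
      have e : K.RO = K.local'.Rsub ⊔ K.oX := le_antisymm (fun g hg => by
        obtain ⟨x, hx, o, ho, rfl⟩ := (mem_RO hc).mp hg
        exact mul_mem_sup hx ho) (sup_le (R_le_RO hc) fun o ho =>
          (mem_RO hc).mpr ⟨1, one_mem _, o, ho, one_mul o⟩)
      have hle : K.oX ≤ K.RO := e ▸ le_sup_right
      have e1 := relIndex_mul_relIndex ⊥ K.local'.Rsub K.RO bot_le (R_le_RO hc)
      have e2 := relIndex_mul_relIndex ⊥ K.oX K.RO bot_le hle
      rw [relIndex_bot_left, relIndex_bot_left] at e1 e2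
      obtain ⟨m, hm⟩ := relIndex_dvd_card K.oX K.local'.Rsub
      rw [show K.oX.relIndex K.RO = K.oX.relIndex K.local'.Rsub from e ▸ relIndex_sup_right _ _, ← e1, hm, mul_assoc,
        mul_comm (Nat.card K.oX)] at e2
      refine Dvd.intro_left m (Nat.eq_of_mul_eq_mul_left ?_ e2).symm
      exact Nat.pos_of_ne_zero fun h0 => Nat.card_pos.ne' (by rw [hm, h0, zero_mul])
    exact absurd (odd_oX.of_dvd_nat (h2.trans hd)) (by decide)
  have h := Sylow.normalizer_sup_eq_top (hR2.toSylow hidx)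
  rw [show ((hR2.toSylow hidx : Sylow 2 K.RO) : Subgroup K.RO) = R' from rfl,
    map_subgroupOf_eq_of_le (R_le_RO hc)] at h
  have hg : g ∈ normalizer ((K.local'.Rsub : Subgroup K.CZ) : Set K.CZ) ⊔ K.RO := h.symm ▸ mem_top g
  obtain ⟨n, hn, y, hy, rfl⟩ := mem_sup_of_normal_right.mp hg
  obtain ⟨x, hx, o, ho, rfl⟩ := (mem_RO hc).mp hy
  exact ⟨n * x, mul_mem hn (le_normalizer hx), o, ho, mul_assoc _ _ _⟩

/-- The centralizer of the central involution is constrained. -/
theorem constrained : IsPConstrained 2 K.CZ := by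
  haveI : _root_.Fact (Nat.Prime 2) := ⟨Nat.prime_two⟩
  set L := pPrimePCore 2 K.CZ with hL
  intro P c hc'
  set π := QuotientGroup.mk' K.oX with hπ
  haveI := RO_normal hc
  haveI : (K.RO.map π).Normal := Normal.map inferInstance π (QuotientGroup.mk'_surjective _)
  have hRπ : IsPGroup 2 (K.RO.map π) := by
    refine ((K.local'.S.isPGroup'.to_le sub_le : IsPGroup 2 K.local'.Rsub).map π).to_le ?_
    rintro _ ⟨g, hg, rfl⟩
    obtain ⟨x, hx, o, ho, rfl⟩ := (mem_RO hc).mp hg
    rw [map_mul, show π o = 1 from (QuotientGroup.eq_one_iff o).mpr ho, mul_one]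
    exact ⟨x, hx, rfl⟩
  have hROL : K.RO ≤ pPrimePCore 2 K.CZ := fun g hg => CfsgLib.le_pCore hRπ ⟨g, hg, rfl⟩
  set f : L →* K.CZ ⧸ K.oX := π.comp L.subtype with hf
  have hrange : f.range = pCore 2 (K.CZ ⧸ K.oX) := by
    rw [hf, MonoidHom.range_comp, range_subtype]
    exact map_comap_eq_self_of_surjective (QuotientGroup.mk'_surjective _) _
  have hPtop : (P : Subgroup L).map f.rangeRestrict = ⊤ := by
    have h2 : IsPGroup 2 f.range := hrange ▸ CfsgLib.isPGroup_pCore 2
    have e := Sylow.coe_mapSurjective f.rangeRestrict_surjective P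
    obtain ⟨n, hn⟩ := IsPGroup.iff_card.mp h2
    rw [← e, ← index_eq_one]
    refine Nat.eq_one_of_dvd_coprimes ((Nat.coprime_two_left.mpr (Nat.odd_iff.mpr
      (Nat.two_dvd_ne_zero.mp (Sylow.mapSurjective f.rangeRestrict_surjective P).not_dvd_index))).pow_left n) ?_ dvd_rfl
    rw [← hn]
    exact index_dvd_card _
  have hcomm : ∀ x ∈ K.local'.Rsub, Commute (π c) (π x) := by
    intro x hx
    obtain ⟨y, hy, ey⟩ : (⟨f ⟨x, hROL (R_le_RO hc hx)⟩, ⟨_, rfl⟩⟩ : f.range) ∈ (P : Subgroup L).map f.rangeRestrict :=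
      hPtop ▸ mem_top _
    have e : π (y : K.CZ) = π x := congrArg Subtype.val ey
    rw [← e]
    exact (show Commute c (y : K.CZ) from ((mem_centralizer_iff.mp hc') _ ⟨y, hy, rfl⟩).symm).map π
  have hr : K.red c ∈ centralizer (K.RH : Set K.Hat) := by
    refine mem_centralizer_iff.mpr ?_
    rintro _ ⟨x, hx, rfl⟩
    rw [← map_mul, ← map_mul]
    refine ((QuotientGroup.eq).mpr ?_ : K.red (x * c) = K.red (c * x))
    rw [ker0_eq hc]
    exact mem_sup_right ((QuotientGroup.eq).mp (show π (x * c) = π (c * x) by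
      rw [map_mul, map_mul, (hcomm x hx).eq]))
  rw [cent_RH hc] at hr
  exact hROL hr

end Setup

end CfsgHSSylow
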