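import Cfsg.Agent.Lib.HSSylow.Checks

/-!
Groups containing a copy of the coded Sylow 2-subgroup.
-/

set_option autoImplicit false

namespace CfsgHSSylow

attribute [local irreducible] mulS invS act8 lm8

theorem mulS_lt (x y : ℕ) : mulS x y < 512 := by
  unfold mulS
  exact Nat.mod_lt _ (by norm_num)

theorem invS_lt (x : ℕ) : invS x < 512 := by
  unfold invS
  exact Nat.mod_lt _ (by norm_num)

theorem cjS_lt (g x : ℕ) : cjS g x < 512 := mulS_lt _ _

/-- An injective homomorphism of the coded group. -/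
structure Emb (G : Type*) [Group G] where
  /-- the element of a code -/
  e : ℕ → G
  map_mul : ∀ {x y : ℕ}, x < 512 → y < 512 → e (mulS x y) = e x * e y
  inj : ∀ {x y : ℕ}, x < 512 → y < 512 → e x = e y → x = y

namespace Emb

variable {G : Type*} [Group G] (ι : Emb G)

theorem map_zero : ι.e 0 = 1 := by
  have h := ι.map_mul (x := 0) (y := 0) (by norm_num) (by norm_num)
  rw [show mulS 0 0 = 0 by with_unfolding_all decide +kernel] at h
  simpa using h

theorem map_inv {x : ℕ} (hx : x < 512) : ι.e (invS x) = (ι.e x)⁻¹ := by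
  have h := List.all_eq_true.mp tab_inv x (List.mem_range.mpr hx)
  rw [Bool.and_eq_true] at h
  refine eq_inv_of_mul_eq_one_left ?_
  rw [← ι.map_mul (invS_lt x) hx, Nat.eq_of_beq_eq_true h.1, ι.map_zero]

theorem map_cj {g x : ℕ} (hg : g < 512) (hx : x < 512) : ι.e (cjS g x) = ι.e g * ι.e x * (ι.e g)⁻¹ := by
  rw [cjS, ι.map_mul (mulS_lt _ _) (invS_lt _), ι.map_mul hg hx, ι.map_inv hg]

theorem eq_iff {x y : ℕ} (hx : x < 512) (hy : y < 512) : ι.e x = ι.e y ↔ x = y :=
  ⟨ι.inj hx hy, fun h => h ▸ rfl⟩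

theorem commute_iff {x y : ℕ} (hx : x < 512) (hy : y < 512) :
    Commute (ι.e x) (ι.e y) ↔ mulS x y = mulS y x := by
  rw [Commute, SemiconjBy, ← ι.map_mul hx hy, ← ι.map_mul hy hx, ι.eq_iff (mulS_lt _ _) (mulS_lt _ _)]

/-- The image of the coded group. -/
def range : Subgroup G where
  carrier := {g | ∃ x < 512, ι.e x = g}
  one_mem' := ⟨0, by norm_num, ι.map_zero⟩
  mul_mem' := by
    rintro _ _ ⟨x, hx, rfl⟩ ⟨y, hy, rfl⟩
    exact ⟨_, mulS_lt x y, ι.map_mul hx hy⟩
  inv_mem' := by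
    rintro _ ⟨x, hx, rfl⟩
    exact ⟨_, invS_lt x, ι.map_inv hx⟩

theorem mem_range {g : G} : g ∈ ι.range ↔ ∃ x < 512, ι.e x = g := Iff.rfl

theorem e_mem {x : ℕ} (hx : x < 512) : ι.e x ∈ ι.range := ⟨x, hx, rfl⟩

theorem card_range : Nat.card ↥ι.range = 512 := by
  rw [← Nat.card_fin 512]
  refine (Nat.card_congr (Equiv.ofBijective (fun x : Fin 512 => (⟨ι.e x, ι.e_mem x.2⟩ : ↥ι.range)) ⟨?_, ?_⟩)).symm
  · intro x y h
    exact Fin.ext (ι.inj x.2 y.2 (congrArg Subtype.val h))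
  · rintro ⟨_, x, hx, rfl⟩
    exact ⟨⟨x, hx⟩, rfl⟩

/-- Compose with an injective homomorphism. -/
def map {H : Type*} [Group H] (f : G →* H) (hf : Function.Injective f) : Emb H where
  e x := f (ι.e x)
  map_mul hx hy := (congrArg f (ι.map_mul hx hy)).trans (_root_.map_mul f _ _)
  inj hx hy h := ι.inj hx hy (hf h)

end Emb

end CfsgHSSylow
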