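import Cfsg.Agent.Lib.HSSylow.Emb

/-!
Search for the possible images of generators of a centralizer under a conjugation inside a group.
-/

set_option autoImplicit false

namespace CfsgHSSylow

open CfsgLib.CosetEnum (force)

/-- The value of a word in a list of elements. -/
noncomputable def evS (w : List ℕ) (im : List ℕ) : ℕ :=
  w.foldl (fun a i => force (im.getD i 0) fun v => force a fun a => mulS a v) 0

/-- The tests have the same answers on two lists. -/
noncomputable def okT (gs : List ℕ) (ts : List (List ℕ × List ℕ)) (im : List ℕ) : Bool :=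
  ts.all fun p => (Nat.beq (evS p.1 im) (evS p.2 im)) == (Nat.beq (evS p.1 gs) (evS p.2 gs))

/-- The powers of two elements vanish together. -/
noncomputable def ordOK (g h : ℕ) : Bool :=
  force (mulS g g) fun g2 => force (mulS h h) fun h2 =>
    (Nat.beq g 0 == Nat.beq h 0) && (Nat.beq g2 0 == Nat.beq h2 0) &&
      (Nat.beq (mulS g2 g2) 0 == Nat.beq (mulS h2 h2) 0)

/-- A level: candidates, tests, elements trying to lower the candidate. -/
structure Lev where
  /-- the candidates -/
  cand : List ℕ
  /-- the tests -/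
  ts : List (List ℕ × List ℕ)
  /-- the elements trying to lower a candidate -/
  red : List ℕ

/-- An element can be lowered keeping the earlier images. -/
noncomputable def lower (im : List ℕ) (red : List ℕ) (h : ℕ) : Bool :=
  red.any fun s => force s fun s => Nat.blt (cjS s h) h && Nat.blt s 512 &&
    im.all fun v => Nat.beq (mulS s v) (mulS v s)

/-- The search. -/
noncomputable def srch (gs : List ℕ) (P : List ℕ → Bool) : List Lev → List ℕ → Bool
  | [], im => P im
  | L :: Ls, im => L.cand.all fun h => force h fun h =>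
      !okT gs L.ts (im ++ [h]) || lower im L.red h || srch gs P Ls (im ++ [h])

/-- The candidate lists are complete. -/
noncomputable def complete (gs : List ℕ) (y : ℕ) : List Lev → ℕ → Bool
  | [], _ => true
  | L :: Ls, k => ((List.range 512).all fun h => !(Nat.beq (mulS h y) (mulS y h)) || !ordOK (gs.getD k 0) h ||
      L.cand.elem h) && complete gs y Ls (k + 1)

/-- A certified search: generators, first images, levels. -/
structure Srch where
  /-- the generators of the centralizer -/
  gs : List ℕ
  /-- the first images -/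
  fi : List ℕ
  /-- the levels -/
  lev : List Lev

/-- All possible images satisfy the property. -/
noncomputable def Srch.check (F : Srch) (P : List ℕ → Bool) : Bool :=
  F.gs.all (fun h => Nat.blt h 512 && Nat.beq (mulS h (F.gs.getD 0 0)) (mulS (F.gs.getD 0 0) h)) &&
    F.fi.all (fun h => Nat.blt h 512) &&
    Nat.beq (F.gs.length) (F.fi.length + F.lev.length) && complete F.gs (F.fi.getD 0 0) F.lev F.fi.length &&
    srch F.gs P F.lev F.fi

section Sound

variable {G : Type*} [Group G] (ι : Emb G)

/-- The element `g` maps the centralizer of `x` in the coded group into that of `y`. -/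
def Sends (g : G) (x y : ℕ) : Prop :=
  g * ι.e x * g⁻¹ = ι.e y ∧
    ∀ h < 512, mulS h x = mulS x h → ∃ k < 512, mulS k y = mulS y k ∧ g * ι.e h * g⁻¹ = ι.e k

/-- The element `g` maps the generators to the images. -/
def Fits (g : G) (gs im : List ℕ) : Prop :=
  ∀ i < im.length, g * ι.e (gs.getD i 0) * g⁻¹ = ι.e (im.getD i 0)

variable {ι}

theorem getD_lt {l : List ℕ} (h : ∀ v ∈ l, v < 512) (i : ℕ) : l.getD i 0 < 512 := by
  rcases lt_or_ge i l.length with hi | hi
  · rw [List.getD_eq_getElem _ _ hi]
    exact h _ (List.getElem_mem hi)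
  · rw [List.getD_eq_default _ _ hi]
    norm_num

theorem evS_lt (w im : List ℕ) : evS w im < 512 := by
  induction w using List.reverseRecOn with
  | nil => simp [evS]
  | append_singleton w i _ =>
    simp only [evS, List.foldl_append, List.foldl_cons, List.foldl_nil, CfsgAutL34.Enum.force_eq]
    exact mulS_lt _ _

theorem evS_conj {g : G} {gs im : List ℕ} (hgs : ∀ v ∈ gs, v < 512) (him : ∀ v ∈ im, v < 512)
    (hfit : Fits ι g gs im) {w : List ℕ} (hw : ∀ i ∈ w, i < im.length) :
    g * ι.e (evS w gs) * g⁻¹ = ι.e (evS w im) := by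
  induction w using List.reverseRecOn with
  | nil => simp [evS, ι.map_zero]
  | append_singleton w i ih =>
    have e : ∀ l : List ℕ, evS (w ++ [i]) l = mulS (evS w l) (l.getD i 0) := fun l => by
      simp only [evS, List.foldl_append, List.foldl_cons, List.foldl_nil, CfsgAutL34.Enum.force_eq]
    rw [e, e, ι.map_mul (evS_lt _ _) (getD_lt hgs i), ι.map_mul (evS_lt _ _) (getD_lt him i), ← conj_mul,
      ih fun j hj => hw j (List.mem_append_left _ hj), hfit i (hw i (by simp))]

theorem okT_of_fits {g : G} {gs im : List ℕ} (hgs : ∀ v ∈ gs, v < 512) (him : ∀ v ∈ im, v < 512)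
    (hfit : Fits ι g gs im) {ts : List (List ℕ × List ℕ)}
    (hts : ∀ p ∈ ts, (∀ i ∈ p.1, i < im.length) ∧ ∀ i ∈ p.2, i < im.length) : okT gs ts im = true := by
  refine List.all_eq_true.mpr fun p hp => ?_
  have h1 := evS_conj hgs him hfit (hts p hp).1
  have h2 := evS_conj hgs him hfit (hts p hp).2
  rw [beq_iff_eq, Bool.eq_iff_iff, Nat.beq_eq, Nat.beq_eq, ← ι.eq_iff (evS_lt _ _) (evS_lt _ _),
    ← ι.eq_iff (evS_lt _ _) (evS_lt _ _), ← h1, ← h2]
  exact MulAut.conj g |>.injective.eq_iff

theorem ordOK_of_conj {g : G} {a b : ℕ} (ha : a < 512) (hb : b < 512) (h : g * ι.e a * g⁻¹ = ι.e b) :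
    ordOK a b = true := by
  have key : ∀ {u v : ℕ}, u < 512 → v < 512 → g * ι.e u * g⁻¹ = ι.e v → (Nat.beq u 0 == Nat.beq v 0) = true := by
    intro u v hu hv e
    rw [beq_iff_eq, Bool.eq_iff_iff, Nat.beq_eq, Nat.beq_eq, ← ι.eq_iff hu (by norm_num), ← ι.eq_iff hv (by norm_num),
      ← e, ι.map_zero, conj_eq_one_iff]
  have h2 : g * ι.e (mulS a a) * g⁻¹ = ι.e (mulS b b) := by
    rw [ι.map_mul ha ha, ι.map_mul hb hb, ← conj_mul, h]
  have h4 : g * ι.e (mulS (mulS a a) (mulS a a)) * g⁻¹ = ι.e (mulS (mulS b b) (mulS b b)) := by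
    rw [ι.map_mul (mulS_lt _ _) (mulS_lt _ _), ι.map_mul (mulS_lt _ _) (mulS_lt _ _), ← conj_mul, h2]
  simp only [ordOK, CfsgAutL34.Enum.force_eq, Bool.and_eq_true]
  exact ⟨⟨key ha hb h, key (mulS_lt _ _) (mulS_lt _ _) h2⟩, key (mulS_lt _ _) (mulS_lt _ _) h4⟩

/-- The tests of a level speak about the first `k + 1` generators only. -/
def wfLev : List Lev → ℕ → Bool
  | [], _ => true
  | L :: Ls, k => (L.ts.all fun p => p.1.all (Nat.blt · (k + 1)) && p.2.all (Nat.blt · (k + 1))) && wfLev Ls (k + 1)

theorem srch_sound {gs : List ℕ} {P : List ℕ → Bool} {x y : ℕ} (hy : y < 512) (hgs : ∀ v ∈ gs, v < 512)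
    (hgx : ∀ v ∈ gs, mulS v x = mulS x v) : ∀ (Ls : List Lev) (im : List ℕ) (g : G),
    (∀ v ∈ im, v < 512) → im.getD 0 0 = y → 0 < im.length → im.length + Ls.length = gs.length →
    wfLev Ls im.length = true → complete gs y Ls im.length = true → srch gs P Ls im = true →
    Sends ι g x y → Fits ι g gs im →
    ∃ s < 512, mulS s y = mulS y s ∧ ∃ im' : List ℕ, P im' = true ∧ (∀ v ∈ im', v < 512) ∧
      im'.length = gs.length ∧ im <+: im' ∧ Sends ι (ι.e s * g) x y ∧ Fits ι (ι.e s * g) gs im' := by
  intro Ls
  induction Ls with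
  | nil =>
    intro im g him _ _ hlen _ _ hs hg hfit
    exact ⟨0, by norm_num, by with_unfolding_all exact (ι.commute_iff (by norm_num) hy).mp (by
      rw [ι.map_zero]; exact Commute.one_left _), im, hs, him, by simpa using hlen, List.prefix_rfl,
      by simpa [ι.map_zero] using hg, by simpa [ι.map_zero] using hfit⟩
  | cons L Ls ih =>
    intro im g him hy0 hpos hlen hwf hcomp hs hg hfit
    simp only [wfLev, Bool.and_eq_true, List.all_eq_true, Nat.blt_eq] at hwf
    simp only [complete, Bool.and_eq_true, List.all_eq_true, List.mem_range] at hcomp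
    simp only [srch, CfsgAutL34.Enum.force_eq, List.all_eq_true] at hs
    have hk : im.length < gs.length := by simp at hlen; omega
    let Q : ℕ → Prop := fun h => h < 512 ∧ ∃ s < 512, mulS s y = mulS y s ∧ Sends ι (ι.e s * g) x y ∧
      Fits ι (ι.e s * g) gs (im ++ [h])
    have hmem : gs.getD im.length 0 ∈ gs := by
      rw [List.getD_eq_getElem _ _ hk]
      exact List.getElem_mem hk
    have hQ : ∃ h, Q h := by
      obtain ⟨k, hk', -, e⟩ := hg.2 _ (hgs _ hmem) (hgx _ hmem)
      refine ⟨k, hk', 0, by norm_num, by with_unfolding_all exact (ι.commute_iff (by norm_num) hy).mp (by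
        rw [ι.map_zero]; exact Commute.one_left _), by simpa [ι.map_zero] using hg, fun i hi => ?_⟩
      rw [ι.map_zero, one_mul]
      rcases lt_or_ge i im.length with h | h
      · rw [List.getD_append _ _ _ _ h]; exact hfit i h
      · have : i = im.length := by simp at hi; omega
        subst this
        rw [List.getD_append_right _ _ _ _ le_rfl]
        simpa using e
    classical
    obtain ⟨hh, s, hs', hsy, hgs', hfit'⟩ := Nat.find_spec hQ
    have him' : ∀ v ∈ im ++ [Nat.find hQ], v < 512 := by
      intro v hv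
      rcases List.mem_append.mp hv with h | h
      · exact him v h
      · simpa [List.mem_singleton.mp h] using hh
    have hlast : (im ++ [Nat.find hQ]).getD im.length 0 = Nat.find hQ := by
      rw [List.getD_append_right _ _ _ _ le_rfl]; simp
    have hfk := hfit' im.length (by simp)
    rw [hlast] at hfk
    have hord := ordOK_of_conj (hgs _ hmem) hh hfk
    have hcy : mulS (Nat.find hQ) y = mulS y (Nat.find hQ) := by
      obtain ⟨k, hk', hky, e⟩ := hgs'.2 _ (hgs _ hmem) (hgx _ hmem)
      rw [← ι.inj hk' hh (e.symm.trans hfk)]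
      exact hky
    have hc := hcomp.1 _ hh
    rw [hord, (Nat.beq_eq.mpr hcy : Nat.beq _ _ = true)] at hc
    simp only [Bool.not_true, Bool.false_or, List.elem_iff] at hc
    have := hs _ hc
    simp only [Bool.or_eq_true, Bool.not_eq_true'] at this
    rcases this with (h | h) | h
    · rw [okT_of_fits hgs him' hfit' fun p hp => ?_] at h
      · exact absurd h (by simp)
      have := hwf.1 p hp
      simpa using this
    · simp only [lower, CfsgAutL34.Enum.force_eq, List.any_eq_true, Bool.and_eq_true, Nat.blt_eq,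
        List.all_eq_true, Nat.beq_eq] at h
      obtain ⟨t, -, ⟨hlt, ht⟩, htc⟩ := h
      refine absurd ?_ (Nat.find_min hQ hlt)
      have hty : mulS t y = mulS y t := by
        refine htc y ?_
        rw [← hy0, List.getD_eq_getElem _ _ hpos]
        exact List.getElem_mem hpos
      have hst : mulS (mulS t s) y = mulS y (mulS t s) :=
        (ι.commute_iff (mulS_lt _ _) hy).mp (by
          rw [ι.map_mul ht hs']
          exact ((ι.commute_iff ht hy).mpr hty).mul_left ((ι.commute_iff hs' hy).mpr hsy))
      refine ⟨cjS_lt _ _, mulS t s, mulS_lt _ _, hst, ⟨?_, fun k hk1 hk2 => ?_⟩, fun i hi => ?_⟩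
      · have h1 := hgs'.1
        rw [ι.map_mul ht hs', mul_assoc (ι.e t)]
        generalize ι.e s * g = g' at h1
        rw [show ι.e t * g' * ι.e x * (ι.e t * g')⁻¹ = ι.e t * (g' * ι.e x * g'⁻¹) * (ι.e t)⁻¹ by group, h1,
          ((ι.commute_iff ht hy).mpr hty).eq, mul_inv_cancel_right]
      · obtain ⟨k', hk', hky, e⟩ := hgs'.2 k hk1 hk2
        refine ⟨cjS t k', cjS_lt _ _, (ι.commute_iff (cjS_lt _ _) hy).mp ?_, ?_⟩
        · rw [ι.map_cj ht hk']
          exact ((((ι.commute_iff ht hy).mpr hty).mul_left ((ι.commute_iff hk' hy).mpr hky))).mul_left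
            ((ι.commute_iff ht hy).mpr hty).inv_left
        · rw [ι.map_cj ht hk', ι.map_mul ht hs', ← e]
          group
      · have h1 := hfit' i (by simpa using hi)
        have h3 : (im ++ [cjS t (Nat.find hQ)]).getD i 0 = cjS t ((im ++ [Nat.find hQ]).getD i 0) := by
          rcases lt_or_ge i im.length with h | h
          · rw [List.getD_append _ _ _ _ h, List.getD_append _ _ _ _ h]
            have hv : im.getD i 0 ∈ im := by rw [List.getD_eq_getElem _ _ h]; exact List.getElem_mem h
            refine ι.inj (him _ hv) (cjS_lt _ _) ?_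
            rw [ι.map_cj ht (him _ hv), ((ι.commute_iff ht (him _ hv)).mpr (htc _ hv)).eq, mul_inv_cancel_right]
          · have : i = im.length := by simp at hi; omega
            subst this
            rw [hlast, List.getD_append_right _ _ _ _ le_rfl]
            simp
        rw [h3, ι.map_cj ht (getD_lt him' i), ι.map_mul ht hs', ← h1]
        group
    · have hlen' : (im ++ [Nat.find hQ]).length = im.length + 1 := by simp
      obtain ⟨s2, hs2, hs2y, im', hP, h512, hl, hpre, hS, hF⟩ := ih _ (ι.e s * g) him'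
        (by rw [List.getD_append _ _ _ _ hpos, hy0]) (by simp) (by simp at hlen ⊢; omega)
        (by rw [hlen']; exact hwf.2) (by rw [hlen']; exact hcomp.2) h hgs' hfit'
      refine ⟨mulS s2 s, mulS_lt _ _, ?_, im', hP, h512, hl, (List.prefix_append _ _).trans hpre, ?_, ?_⟩
      · exact (ι.commute_iff (mulS_lt _ _) hy).mp (by
          rw [ι.map_mul hs2 hs']
          exact ((ι.commute_iff hs2 hy).mpr hs2y).mul_left ((ι.commute_iff hs' hy).mpr hsy))
      · rw [ι.map_mul hs2 hs', mul_assoc]; exact hS
      · rw [ι.map_mul hs2 hs', mul_assoc]; exact hF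

/-- The soundness of a certified search. -/
theorem Srch.sound {F : Srch} {P : List ℕ → Bool} (h : F.check P = true) (hwf : wfLev F.lev F.fi.length = true)
    (hpos : 0 < F.fi.length) {g : G} (hg : Sends ι g (F.gs.getD 0 0) (F.fi.getD 0 0))
    (hfit : Fits ι g F.gs F.fi) :
    ∃ s < 512, mulS s (F.fi.getD 0 0) = mulS (F.fi.getD 0 0) s ∧ ∃ im : List ℕ, P im = true ∧
      (∀ v ∈ im, v < 512) ∧ im.length = F.gs.length ∧ F.fi <+: im ∧
      Sends ι (ι.e s * g) (F.gs.getD 0 0) (F.fi.getD 0 0) ∧ Fits ι (ι.e s * g) F.gs im := by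
  simp only [Srch.check, Bool.and_eq_true, List.all_eq_true, Nat.blt_eq, Nat.beq_eq] at h
  obtain ⟨⟨⟨⟨hgs, hfi⟩, hlen⟩, hc⟩, hs⟩ := h
  exact srch_sound (getD_lt hfi 0) (fun v hv => (hgs v hv).1) (fun v hv => (hgs v hv).2) F.lev F.fi g hfi rfl hpos
    hlen.symm hwf hc hs hg hfit

end Sound

end CfsgHSSylow
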