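import Cfsg.Agent.Lib.HSSylow.Code

/-!
An automorphism of the coded group interchanging two classes of involutions.
-/

set_option autoImplicit false
set_option maxRecDepth 100000
set_option maxHeartbeats 4000000
set_option Elab.async false

namespace CfsgHSSylow

/-- The values of the automorphism. -/
def swapT : ℕ := 13071208153770602158035366174411289996882163165731314432078154223376311942265166743537627296941485384133105759606562529113683648903741986967521860554105973924419176287291097229258943340545526386761907083599855595535075308289575689627677040550279715224936643260798360948672554229104449584941959769540141200822157930541862482807839702099731896171247041611546199456021772758145465749549006861139834257195814595990127591669679898996424727174726030400912551838032481587882796717646808498882586588264726713829085895992937351298045560603358420340787735338533430743049567657245954900523428149287171205871607769535571316689035688524624339331271461240593570559583528249133759193765224969221586681978810089612110392866325735054868606728258139301696062734214818553554239599617686589414766482576313120689315984592223805963671878105149501063112909838143254287634189514690056090956397408310381138809375296362815397538586805366769678759205457867818792028349970207829646432036275233060954325878343875368372815055989822111460793615946702150390293690621708389259748796104268161617669235991628423455509538851494652703265598763100786742518105970008165591115959406174900322806526528473739658504330153546645563766496929884697816339172566874645220101544796340483514093766791442317190985476948887524864761861199626520164266327684668021665550867689580988647509352044190342271000399150175592616619828895892835402240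

/-- The values of its inverse. -/
def unswapT : ℕ := 13071208153770602158035366174411289996882163165731314432078154223376311942265166743537627296941485384133105759606562529113683648903741986967521860554105973924419176287291097229258943340545526386761907083599855595535075308289575689627677040550279715224936643260798360948672554229104449584941959769540141200822157930541862482807839702099731896171247041611546199456021772758145465749549006861139834257195814595990127591669679898996424727174726030400912551838032481587882796717646808498882586588264726713829085895992937351298045560603358420340787735338533430743049567657245954900523428149287171205871607769535571316689035688524624339331271461240593570559583528249133759193765224969221586681978810089612110392866325735054868606728258139301696062734214818553554239599617686589414766482576313120689315984592223805963671878105149501063112909838143254287634189514690056090956397408310381138809375296362815397538586805366769678759205457867818792028349970207829646432036275233060954325878343875368372815055989822111460793615946702150390293690621708389259748796104268161617669235991628423455509538851494652703265598763100786742518105970008165591115959406174900322806526528473739658504330153546645563766496929884697816339172566874645220101544796340483514093766791442317190985476948887524864761861199626520164266327684668021665550867689580988647509352044190342271000399150175592616619828895892835402240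

/-- The automorphism. -/
noncomputable def swapS (x : ℕ) : ℕ := Nat.mod (Nat.shiftRight swapT (Nat.mul (nat_lit 9) x)) (nat_lit 512)

/-- The inverse automorphism. -/
noncomputable def unswapS (x : ℕ) : ℕ := Nat.mod (Nat.shiftRight unswapT (Nat.mul (nat_lit 9) x)) (nat_lit 512)

/-- The permutation of the labels. -/
def swL : List ℕ := [0, 1, 2, 4, 3, 5, 6, 7, 8]

theorem swap_hom : ((List.range 512).all fun x => (List.range 512).all fun y =>
    Nat.beq (swapS (mulS x y)) (mulS (swapS x) (swapS y))) = true := by decide +kernel

theorem swap_inv : ((List.range 512).all fun x => Nat.beq (unswapS (swapS x)) x && Nat.beq (swapS (unswapS x)) x) = true := by
  decide +kernel

theorem swap_lab : ((List.range 9).all fun a => Nat.beq (labS (swapS (rp a))) (swL.getD a 0)) = true := by decide +kernel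

end CfsgHSSylow
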