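import Cfsg.Agent.Lib.HSSylow.Basic
import Cfsg.Agent.Lib.HSSylow.FactsA
import Cfsg.Agent.Lib.HSSylow.FactsB
import Cfsg.Agent.Lib.HSSylow.Swap
import Cfsg.Agent.Lib.G2Sylow.Extremal
import Cfsg.Agent.S0215

/-!
The fusion of involutions in a simple group with the coded group as a Sylow 2-subgroup.
-/

set_option autoImplicit false

namespace CfsgHSSylow

open Subgroup
open Cfsg (pPrimeCore)

attribute [local irreducible] mulS invS labS conS phiS cCard swapS unswapS

namespace Setup

variable {G : Type*} [Group G] [Finite G] {K : Setup G} {H : Subgroup G}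

omit [Finite G] in
theorem fits_single {g : G} {gs : List ℕ} {y : ℕ} (h : g * K.ι.e (gs.getD 0 0) * g⁻¹ = K.ι.e y) :
    Fits K.ι g gs [y] := by
  intro i hi
  obtain rfl : i = 0 := by simp at hi; omega
  simpa using h

omit [Finite G] in
theorem fits_fixed (hz : ∀ h ∈ H, Commute h K.z) {g : G} (hg : g ∈ H) {gs : List ℕ} {y : ℕ} (h1 : gs.getD 1 0 = 34)
    (h : g * K.ι.e (gs.getD 0 0) * g⁻¹ = K.ι.e y) : Fits K.ι g gs [y, 34] := by
  intro i hi
  have hi' : i < 2 := by simpa using hi
  interval_cases i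
  · simpa using h
  · rw [h1]
    show g * K.z * g⁻¹ = K.z
    rw [(hz g hg).eq, mul_inv_cancel_right]

omit [Finite G] in
/-- An empty search excludes a conjugation onto an extremal element. -/
theorem none_of {F : Srch} (hF : F.check (fun _ => false) = true ∧ wfLev F.lev F.fi.length = true)
    (hS : (K.S : Subgroup G) ≤ H) {a b : ℕ} (e1 : F.gs.getD 0 0 = rp a) (e2 : F.fi.getD 0 0 = rp b)
    (hpos : 0 < F.fi.length)
    (hfit : ∀ g ∈ H, g * K.ι.e (F.gs.getD 0 0) * g⁻¹ = K.ι.e (F.fi.getD 0 0) → Fits K.ι g F.gs F.fi)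
    (hrel : Rel K.ι H a b) (hext : K.Ext H (K.ι.e (rp b))) : False := by
  obtain ⟨g, hg, e⟩ := hrel
  obtain ⟨g', hg', hs⟩ := sends_of_ext (K := K) hS (rp_lt a) (rp_lt b) hg e hext
  rw [← e1, ← e2] at hs
  obtain ⟨-, -, -, im, hP, -⟩ := F.sound hF.1 hF.2 hpos hs (hfit g' hg' hs.1)
  exact Bool.false_ne_true hP

omit [Finite G] in
/-- A search turns a conjugation onto an extremal element into fused labels. -/
theorem some_of {F : Srch} {W : List (List ℕ)} {cnf : List (List (List (ℕ × ℕ)))} {Q : List ℕ → Bool}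
    (hF : F.check (fun im => cnfOK F.gs W cnf im && Q im) = true ∧ wfLev F.lev F.fi.length = true ∧
      wfCnf F W cnf = true)
    (hS : (K.S : Subgroup G) ≤ H) {a b : ℕ} (e1 : F.gs.getD 0 0 = rp a) (e2 : F.fi.getD 0 0 = rp b)
    (hpos : 0 < F.fi.length)
    (hfit : ∀ g ∈ H, g * K.ι.e (F.gs.getD 0 0) * g⁻¹ = K.ι.e (F.fi.getD 0 0) → Fits K.ι g F.gs F.fi)
    (hrel : Rel K.ι H a b) (hext : K.Ext H (K.ι.e (rp b))) :
    (∀ opts ∈ cnf, ∃ o ∈ opts, ∀ p ∈ o, Rel K.ι H p.1 p.2) ∧ ∃ g ∈ H, ∃ im : List ℕ, Q im = true ∧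
      (∀ v ∈ im, v < 512) ∧ im.length = F.gs.length ∧ F.fi <+: im ∧
      Sends K.ι g (F.gs.getD 0 0) (F.fi.getD 0 0) ∧ Fits K.ι g F.gs im := by
  obtain ⟨g, hg, e⟩ := hrel
  obtain ⟨g', hg', hs⟩ := sends_of_ext (K := K) hS (rp_lt a) (rp_lt b) hg e hext
  rw [← e1, ← e2] at hs
  exact Srch.rels hF.1 hF.2.1 hF.2.2 hpos (K.range_eq ▸ hS) hg' hs (hfit g' hg' hs.1)

/-- An extremal element, from a Sylow condition. -/
theorem ext_of_relIndex {v : G}
    (h : ¬ 2 ∣ ((K.S : Subgroup G) ⊓ centralizer {v}).relIndex (centralizer {v})) : K.Ext ⊤ v := by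
  haveI : _root_.Fact (Nat.Prime 2) := ⟨Nat.prime_two⟩
  intro Q hQ _ hQv
  set C := centralizer ({v} : Set G)
  have hQC : Q ≤ C := fun q hq => mem_centralizer_singleton_iff.mpr (hQv q hq).eq
  have hT : IsPGroup 2 ↥(((K.S : Subgroup G) ⊓ C).subgroupOf C) :=
    (K.S.isPGroup'.to_le inf_le_left).of_equiv (subgroupOfEquivOfLe inf_le_right).symm
  let T : Sylow 2 C := hT.toSylow (by rwa [relIndex] at h)
  obtain ⟨R, hR⟩ := (hQ.of_equiv (subgroupOfEquivOfLe hQC).symm).exists_le_sylow
  obtain ⟨c, hc⟩ := MulAction.exists_smul_eq C R T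
  refine ⟨c, mem_top _, mem_centralizer_singleton_iff.mp c.2, fun q hq => ?_⟩
  have h1 : (⟨q, hQC hq⟩ : C) ∈ (R : Subgroup C) := hR (mem_subgroupOf.mpr hq)
  have h2 : c * ⟨q, hQC hq⟩ * c⁻¹ ∈ ((c • R : Sylow 2 C) : Subgroup C) := by
    rw [Sylow.smul_def, Sylow.pointwise_smul_def]
    exact ⟨_, h1, rfl⟩
  rw [hc] at h2
  exact (mem_subgroupOf.mp h2).1

/-- The central involution is extremal. -/
theorem ext_z (hS : (K.S : Subgroup G) ≤ H) : K.Ext H (K.ι.e (rp 8)) := by
  haveI : _root_.Fact (Nat.Prime 2) := ⟨Nat.prime_two⟩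
  intro Q hQ hQH hQv
  set C : Subgroup G := H ⊓ centralizer ({K.ι.e (rp 8)} : Set G)
  have hQC : Q ≤ C := fun q hq => ⟨hQH hq, mem_centralizer_singleton_iff.mpr (hQv q hq).eq⟩
  have hSC : (K.S : Subgroup G) ≤ C := fun s hs =>
    ⟨hS hs, mem_centralizer_singleton_iff.mpr (by rw [K.e_rp8]; exact (K.z_comm hs).eq)⟩
  obtain ⟨R, hR⟩ := (hQ.of_equiv (subgroupOfEquivOfLe hQC).symm).exists_le_sylow
  obtain ⟨c, hc⟩ := MulAction.exists_smul_eq C R (K.S.subtype hSC)
  refine ⟨c, c.2.1, mem_centralizer_singleton_iff.mp c.2.2, fun q hq => ?_⟩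
  have h2 : c * ⟨q, hQC hq⟩ * c⁻¹ ∈ ((c • R : Sylow 2 C) : Subgroup C) := by
    rw [Sylow.smul_def, Sylow.pointwise_smul_def]
    exact ⟨_, hR (mem_subgroupOf.mpr hq), rfl⟩
  rw [hc] at h2
  exact h2

omit [Finite G] in
theorem phi_eq {x : ℕ} (hx : x < 512) (hl : labS x < 9) : phiS x = phiS (rp (labS x)) := by
  have hcon := List.all_eq_true.mp tab_con x (List.mem_range.mpr hx)
  rw [if_pos (Nat.blt_eq.mpr (by omega : labS x < 16)), Nat.beq_eq] at hcon
  have hc : conS x < 512 := by with_unfolding_all exact Nat.mod_lt _ (by norm_num)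
  have hm : ∀ {a b : ℕ}, a < 512 → b < 512 → phiS (mulS a b) = (phiS a + phiS b) % 2 := fun {a b} ha hb =>
    Nat.eq_of_beq_eq_true (List.all_eq_true.mp (List.all_eq_true.mp phi_hom a (List.mem_range.mpr ha)) b
      (List.mem_range.mpr hb))
  have hinv := List.all_eq_true.mp tab_inv (conS x) (List.mem_range.mpr hc)
  simp only [Bool.and_eq_true, Nat.beq_eq] at hinv
  have h0 := hm hc (invS_lt (conS x))
  rw [hinv.2, phi_vals.2.2] at h0
  have h1 : phiS (rp (labS x)) < 2 := by with_unfolding_all exact Nat.mod_lt _ (by norm_num)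
  have e := hm (mulS_lt (conS x) (rp (labS x))) (invS_lt (conS x))
  rw [← cjS, hcon, hm hc (rp_lt _)] at e
  rw [e]
  omega

variable [IsSimpleGroup G]

theorem not_comm (K : Setup G) : ¬ IsMulCommutative G := fun h => by
  have hne : mulS 64 1 ≠ mulS 1 64 := by with_unfolding_all decide +kernel
  exact hne ((K.ι.commute_iff (by norm_num) (by norm_num)).mp (h.is_comm.comm _ _))

theorem core_eq_bot (K : Setup G) : pPrimeCore 2 G = ⊥ := by
  haveI : (pPrimeCore 2 G).Normal := Subgroup.sSup_normal _ (fun _ h => h.1)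
  refine (IsSimpleGroup.eq_bot_or_eq_top_of_normal (pPrimeCore 2 G) inferInstance).resolve_right fun h => ?_
  have h2 := CfsgLib.card_pPrimeCore_coprime (G := G) 2
  rw [h, card_top, Nat.coprime_two_right] at h2
  have h3 : 2 ∣ Nat.card G := K.orderOf_z ▸ orderOf_dvd_natCard K.z
  exact (Nat.not_even_iff_odd.mpr h2) (even_iff_two_dvd.mpr h3)

/-- The central involution is fused to another involution of the Sylow subgroup. -/
theorem not_isolated (K : Setup G) : ∃ a < 8, Rel K.ι ⊤ a 8 := by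
  by_contra hcon
  push Not at hcon
  have hiso : ∀ g : G, g * K.z * g⁻¹ ∈ (K.S : Subgroup G) → g * K.z * g⁻¹ = K.z := by
    intro g hg
    obtain ⟨x, hx, ex⟩ := K.exists_code hg
    have ho : orderOf (K.ι.e x) = 2 := by rw [ex]; exact ((MulAut.conj g).orderOf_eq _).trans K.orderOf_z
    have hx0 : x ≠ 0 := fun h => by simp [h, K.ι.map_zero] at ho
    have hxx : mulS x x = 0 := K.ι.inj (mulS_lt _ _) (by norm_num) (by
      rw [K.ι.map_mul hx hx, K.ι.map_zero, ← pow_two, ← ho, pow_orderOf_eq_one])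
    have h := List.all_eq_true.mp lab_inv.1 x (List.mem_range.mpr hx)
    simp only [Bool.or_eq_true, Nat.beq_eq, Bool.not_eq_true', Nat.blt_eq] at h
    have hl : labS x < 9 := by
      rcases h with (h | h) | h
      · exact absurd h hx0
      · simp [hxx] at h
      · exact h
    rw [← ex]
    by_cases h8 : labS x = 8
    · have := List.all_eq_true.mp z_central.2.2 x (List.mem_range.mpr hx)
      simp only [Bool.or_eq_true, Nat.beq_eq, Bool.not_eq_true', h8] at this
      rw [this.resolve_left (by simp)]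
      rfl
    · obtain ⟨hc, ec⟩ := exists_con (ι := K.ι) hx (by omega : labS x < 16)
      refine absurd ⟨g⁻¹ * K.ι.e (conS x), mem_top _, ?_⟩ (hcon (labS x) (by omega))
      rw [K.e_rp8, show g⁻¹ * K.ι.e (conS x) * K.ι.e (rp (labS x)) * (g⁻¹ * K.ι.e (conS x))⁻¹ =
        g⁻¹ * (K.ι.e (conS x) * K.ι.e (rp (labS x)) * (K.ι.e (conS x))⁻¹) * g by group, ec, ex]
      group
  obtain ⟨N, hN, hodd, hcomm⟩ := Cfsg.Agent.S0215.result K.S K.z K.orderOf_z (K.e_mem (by norm_num)) hiso
  haveI := hN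
  have hN1 : N = ⊥ := by
    refine (IsSimpleGroup.eq_bot_or_eq_top_of_normal N hN).resolve_right fun h => ?_
    rw [h, card_top] at hodd
    exact (Nat.not_even_iff_odd.mpr hodd) (even_iff_two_dvd.mpr (K.orderOf_z ▸ orderOf_dvd_natCard K.z))
  have hzc : K.z ∈ center G := mem_center_iff.mpr fun g => by
    have := hcomm g
    rw [hN1, mem_bot, mul_inv_eq_one, mul_inv_eq_iff_eq_mul] at this
    exact this.symm
  rcases IsSimpleGroup.eq_bot_or_eq_top_of_normal (center G) inferInstance with h | h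
  · rw [h, mem_bot] at hzc
    have := K.orderOf_z
    simp [hzc] at this
  · exact K.not_comm ⟨⟨fun a b => (mem_center_iff.mp (h ▸ mem_top b : b ∈ center G)) a⟩⟩

/-- The elements with even value of the functional. -/
def evenPart (K : Setup G) : Subgroup G where
  carrier := {g | ∃ x < 512, phiS x = 0 ∧ K.ι.e x = g}
  one_mem' := ⟨0, by norm_num, phi_vals.2.2, K.ι.map_zero⟩
  mul_mem' := by
    rintro _ _ ⟨x, hx, px, rfl⟩ ⟨y, hy, py, rfl⟩
    refine ⟨_, mulS_lt x y, ?_, K.ι.map_mul hx hy⟩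
    rw [Nat.eq_of_beq_eq_true (List.all_eq_true.mp (List.all_eq_true.mp phi_hom x (List.mem_range.mpr hx)) y
      (List.mem_range.mpr hy)), px, py]
  inv_mem' := by
    rintro _ ⟨x, hx, px, rfl⟩
    refine ⟨_, invS_lt x, ?_, K.ι.map_inv hx⟩
    have h := Nat.eq_of_beq_eq_true (List.all_eq_true.mp (List.all_eq_true.mp phi_hom x (List.mem_range.mpr hx))
      (invS x) (List.mem_range.mpr (invS_lt x)))
    have h2 := List.all_eq_true.mp tab_inv x (List.mem_range.mpr hx)
    simp only [Bool.and_eq_true, Nat.beq_eq] at h2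
    rw [h2.2, phi_vals.2.2, px] at h
    have h3 : phiS (invS x) < 2 := by with_unfolding_all exact Nat.mod_lt _ (by norm_num)
    change 0 = (0 + phiS (invS x)) % 2 at h
    omega

/-- Thompson's transfer with an extremal image. -/
theorem transfer (K : Setup G) {a : ℕ} (ha : a ∈ [2, 3, 4, 5]) :
    ∃ b ∈ [0, 1, 6, 7, 8], Rel K.ι ⊤ a b ∧ K.Ext ⊤ (K.ι.e (rp b)) := by
  have ha' : a < 9 ∧ phiS (rp a) = 1 := ⟨by simp at ha; omega,
    Nat.eq_of_beq_eq_true (List.all_eq_true.mp phi_vals.2.1 a ha)⟩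
  let f : ↥(K.S : Subgroup G) →* Multiplicative (ZMod 2) :=
    MonoidHom.mk' (fun s => Multiplicative.ofAdd ((phiS (K.exists_code s.2).choose : ℕ) : ZMod 2)) fun s t => by
      obtain ⟨hx, ex⟩ := (K.exists_code s.2).choose_spec
      obtain ⟨hy, ey⟩ := (K.exists_code t.2).choose_spec
      obtain ⟨hu, eu⟩ := (K.exists_code (s * t).2).choose_spec
      have : (K.exists_code (s * t).2).choose = mulS (K.exists_code s.2).choose (K.exists_code t.2).choose := by
        refine K.ι.inj hu (mulS_lt _ _) ?_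
        rw [eu, K.ι.map_mul hx hy, ex, ey]
        rfl
      show Multiplicative.ofAdd _ = _
      rw [this, Nat.eq_of_beq_eq_true (List.all_eq_true.mp (List.all_eq_true.mp phi_hom _ (List.mem_range.mpr hx)) _
        (List.mem_range.mpr hy)), ← ofAdd_add]
      congr 1
      show (((phiS _ + phiS _) % 2 : ℕ) : ZMod 2) = _
      rw [ZMod.natCast_mod]
      push_cast
      rfl
  have hker : (K.evenPart).subgroupOf (K.S : Subgroup G) = f.ker := by
    ext s
    obtain ⟨hx, ex⟩ := (K.exists_code s.2).choose_spec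
    have hlt : phiS (K.exists_code s.2).choose < 2 := by with_unfolding_all exact Nat.mod_lt _ (by norm_num)
    rw [mem_subgroupOf, MonoidHom.mem_ker]
    show (s : G) ∈ K.evenPart ↔ Multiplicative.ofAdd _ = (1 : Multiplicative (ZMod 2))
    rw [ofAdd_eq_one, ZMod.natCast_eq_zero_iff]
    constructor
    · rintro ⟨x, hx', px, e⟩
      rw [← K.ι.inj hx' hx (e.trans ex.symm), px]
      exact dvd_zero 2
    · exact fun h => ⟨_, hx, Nat.eq_zero_of_dvd_of_lt h hlt, ex⟩
  haveI : (K.evenPart.subgroupOf (K.S : Subgroup G)).Normal := hker ▸ MonoidHom.normal_ker f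
  have hle : K.evenPart ≤ K.S := by
    rintro _ ⟨x, hx, -, rfl⟩
    exact K.e_mem hx
  have hcyc : IsCyclic (↥(K.S : Subgroup G) ⧸ K.evenPart.subgroupOf (K.S : Subgroup G)) := by
    haveI : IsCyclic (Multiplicative (ZMod 2)) := inferInstance
    haveI : IsCyclic ↥f.range := inferInstance
    exact isCyclic_of_surjective ((QuotientGroup.quotientMulEquivOfEq hker).trans
      (QuotientGroup.quotientKerEquivRange f)).symm (MulEquiv.surjective _)
  have hnot : K.ι.e (rp a) ∉ K.evenPart := by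
    rintro ⟨x, hx, px, e⟩
    rw [K.ι.inj hx (rp_lt a) e, ha'.2] at px
    omega
  obtain ⟨g, ⟨x, hx, px, ex⟩, hsyl, -⟩ := CfsgLib.G2Sylow.extremal K.not_comm K.S K.evenPart hle hcyc
    (K.ι.e (rp a)) (K.orderOf_rp ha'.1) (K.e_mem (rp_lt a)) hnot
  rw [← ex] at hsyl
  have hext := ext_of_relIndex (K := K) hsyl
  have ho : orderOf (K.ι.e x) = 2 := by rw [ex]; exact ((MulAut.conj g).orderOf_eq _).trans (K.orderOf_rp ha'.1)
  have hx0 : x ≠ 0 := fun h => by simp [h, K.ι.map_zero] at ho
  have hxx : mulS x x = 0 := K.ι.inj (mulS_lt _ _) (by norm_num) (by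
    rw [K.ι.map_mul hx hx, K.ι.map_zero, ← pow_two, ← ho, pow_orderOf_eq_one])
  have h := List.all_eq_true.mp lab_inv.1 x (List.mem_range.mpr hx)
  simp only [Bool.or_eq_true, Nat.beq_eq, Bool.not_eq_true', Nat.blt_eq] at h
  have hl : labS x < 9 := by
    rcases h with (h | h) | h
    · exact absurd h hx0
    · simp [hxx] at h
    · exact h
  obtain ⟨hc, ec⟩ := exists_con (ι := K.ι) hx (by omega : labS x < 16)
  refine ⟨labS x, ?_, ⟨(K.ι.e (conS x))⁻¹ * g, mem_top _, ?_⟩, ?_⟩
  · have h1 := phi_eq hx hl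
    rw [px] at h1
    have h2 := List.all_eq_true.mp phi_vals.2.1
    by_contra hcon
    have : labS x ∈ [2, 3, 4, 5] := by simp at hcon ⊢; omega
    have := Nat.eq_of_beq_eq_true (h2 _ this)
    omega
  · rw [show (K.ι.e (conS x))⁻¹ * g * K.ι.e (rp a) * ((K.ι.e (conS x))⁻¹ * g)⁻¹ =
      (K.ι.e (conS x))⁻¹ * (g * K.ι.e (rp a) * g⁻¹) * K.ι.e (conS x) by group, ← ex, ← ec]
    group
  · have := hext.conj (inv_mem (K.e_mem hc)) (mem_top _)
    rw [← ec] at this
    convert this using 1
    group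

theorem r08 (K : Setup G) : Rel K.ι ⊤ 0 8 := by
  have hz : K.Ext ⊤ (K.ι.e (rp 8)) := ext_z le_top
  obtain ⟨a, ha, h⟩ := K.not_isolated
  interval_cases a
  · exact h
  · exact (none_of f18 le_top (a := 1) (b := 8) rfl rfl (Nat.zero_lt_succ _) (fun g _ e => fits_single e) h hz).elim
  all_goals
    first
    | (obtain ⟨o, ho, hp⟩ := (some_of f28 le_top (a := 2) (b := 8) rfl rfl (Nat.zero_lt_succ _)
          (fun g _ e => fits_single e) h hz).1 _ (List.mem_cons_of_mem _ List.mem_cons_self)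
       simp only [List.mem_singleton] at ho
       subst ho
       exact hp (0, 8) (by simp))
    | (obtain ⟨o, ho, hp⟩ := (some_of f38 le_top (a := 3) (b := 8) rfl rfl (Nat.zero_lt_succ _)
          (fun g _ e => fits_single e) h hz).1 _ List.mem_cons_self
       simp only [List.mem_singleton] at ho
       subst ho
       exact (hp (0, 3) (by simp)).trans h)
    | (obtain ⟨o, ho, hp⟩ := (some_of f48 le_top (a := 4) (b := 8) rfl rfl (Nat.zero_lt_succ _)
          (fun g _ e => fits_single e) h hz).1 _ List.mem_cons_self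
       simp only [List.mem_singleton] at ho
       subst ho
       exact (hp (0, 4) (by simp)).trans h)
    | (obtain ⟨o, ho, hp⟩ := (some_of f58 le_top (a := 5) (b := 8) rfl rfl (Nat.zero_lt_succ _)
          (fun g _ e => fits_single e) h hz).1 _ List.mem_cons_self
       simp only [List.mem_singleton] at ho
       subst ho
       exact hp (0, 8) (by simp))
    | (obtain ⟨o, ho, hp⟩ := (some_of f68 le_top (a := 6) (b := 8) rfl rfl (Nat.zero_lt_succ _)
          (fun g _ e => fits_single e) h hz).1 _ List.mem_cons_self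
       simp only [List.mem_singleton] at ho
       subst ho
       exact hp (0, 8) (by simp))
    | (obtain ⟨o, ho, hp⟩ := (some_of f78 le_top (a := 7) (b := 8) rfl rfl (Nat.zero_lt_succ _)
          (fun g _ e => fits_single e) h hz).1 _ List.mem_cons_self
       simp only [List.mem_singleton] at ho
       subst ho
       exact hp (0, 8) (by simp))

theorem orientation (K : Setup G) :
    (Rel K.ι ⊤ 1 3 ∧ Rel K.ι ⊤ 4 6) ∨ (Rel K.ι ⊤ 1 4 ∧ Rel K.ι ⊤ 3 6) := by
  obtain ⟨o, ho, hp⟩ := (some_of f08 le_top (a := 0) (b := 8) rfl rfl (Nat.zero_lt_succ _)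
    (fun g _ e => fits_single e) K.r08 (ext_z le_top)).1 _ List.mem_cons_self
  simp only [List.mem_cons, List.not_mem_nil, or_false] at ho
  rcases ho with rfl | rfl
  · exact Or.inl ⟨hp (1, 3) (by simp), hp (4, 6) (by simp)⟩
  · exact Or.inr ⟨hp (1, 4) (by simp), hp (3, 6) (by simp)⟩

/-- The copy composed with the automorphism. -/
noncomputable def swapped (K : Setup G) : Setup G where
  ι :=
    { e := fun x => K.ι.e (swapS x)
      map_mul := fun {x y} hx hy => by
        rw [Nat.eq_of_beq_eq_true (List.all_eq_true.mp (List.all_eq_true.mp swap_hom x (List.mem_range.mpr hx)) y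
          (List.mem_range.mpr hy))]
        exact K.ι.map_mul (by with_unfolding_all exact Nat.mod_lt _ (by norm_num))
          (by with_unfolding_all exact Nat.mod_lt _ (by norm_num))
      inj := fun {x y} hx hy e => by
        have h := K.ι.inj (by with_unfolding_all exact Nat.mod_lt _ (by norm_num))
          (by with_unfolding_all exact Nat.mod_lt _ (by norm_num)) e
        have hu := fun {v : ℕ} (hv : v < 512) => List.all_eq_true.mp swap_inv v (List.mem_range.mpr hv)
        have h1 := hu hx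
        have h2 := hu hy
        simp only [Bool.and_eq_true, Nat.beq_eq] at h1 h2
        rw [← h1.1, h, h2.1] }
  S := K.S
  range_eq := by
    rw [← K.range_eq]
    ext g
    simp only [Emb.mem_range]
    constructor
    · rintro ⟨x, hx, rfl⟩
      exact ⟨_, by with_unfolding_all exact Nat.mod_lt _ (by norm_num), rfl⟩
    · rintro ⟨x, hx, rfl⟩
      have h := List.all_eq_true.mp swap_inv x (List.mem_range.mpr hx)
      simp only [Bool.and_eq_true, Nat.beq_eq] at h
      exact ⟨unswapS x, by with_unfolding_all exact Nat.mod_lt _ (by norm_num), by rw [h.2]⟩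

theorem swapped_rel (K : Setup G) {a b : ℕ} (ha : a < 9) (hb : b < 9)
    (h : Rel K.ι ⊤ (swL.getD a 0) (swL.getD b 0)) : Rel K.swapped.ι ⊤ a b := by
  have key : ∀ {c : ℕ}, c < 9 → ∃ s : G, s * K.ι.e (rp (swL.getD c 0)) * s⁻¹ = K.swapped.ι.e (rp c) := by
    intro c hc
    have hl := Nat.eq_of_beq_eq_true (List.all_eq_true.mp swap_lab c (List.mem_range.mpr hc))
    have hlt : swL.getD c 0 < 9 := by interval_cases c <;> simp [swL]
    obtain ⟨-, e⟩ := exists_con (ι := K.ι) (x := swapS (rp c)) (by with_unfolding_all exact Nat.mod_lt _ (by norm_num))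
      (by rw [hl]; omega)
    rw [hl] at e
    exact ⟨_, e⟩
  obtain ⟨s, hs⟩ := key ha
  obtain ⟨t, ht⟩ := key hb
  obtain ⟨g, -, e⟩ := h
  refine ⟨t * g * s⁻¹, mem_top _, ?_⟩
  rw [← hs, ← ht, ← e]
  group

theorem exists_oriented (K : Setup G) :
    ∃ K' : Setup G, K'.S = K.S ∧ Rel K'.ι ⊤ 1 3 ∧ Rel K'.ι ⊤ 4 6 := by
  rcases K.orientation with h | h
  · exact ⟨K, rfl, h⟩
  · exact ⟨K.swapped, rfl, K.swapped_rel (a := 1) (b := 3) (by norm_num) (by norm_num) h.1,
      K.swapped_rel (a := 4) (b := 6) (by norm_num) (by norm_num) h.2⟩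

/-- The classes of involutions of a simple group with the coded Sylow subgroup. -/
structure Classes (K : Setup G) : Prop where
  r08 : Rel K.ι ⊤ 0 8
  r78 : Rel K.ι ⊤ 7 8
  r13 : Rel K.ι ⊤ 1 3
  r12 : Rel K.ι ⊤ 1 2
  r46 : Rel K.ι ⊤ 4 6
  r56 : Rel K.ι ⊤ 5 6
  n18 : ¬ Rel K.ι ⊤ 1 8
  n16 : ¬ Rel K.ι ⊤ 1 6

theorem classes {K : Setup G} (h13 : Rel K.ι ⊤ 1 3) (h46 : Rel K.ι ⊤ 4 6) : Classes K := by
  have h08 := K.r08
  have hz : K.Ext ⊤ (K.ι.e (rp 8)) := ext_z le_top
  have n18 : ¬ Rel K.ι ⊤ 1 8 := fun h =>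
    none_of f18 le_top (a := 1) (b := 8) rfl rfl (Nat.zero_lt_succ _) (fun g _ e => fits_single e) h hz
  have n1e6 : Rel K.ι ⊤ 1 6 → ¬ K.Ext ⊤ (K.ι.e (rp 6)) := fun h he =>
    none_of f16 le_top (a := 1) (b := 6) rfl rfl (Nat.zero_lt_succ _) (fun g _ e => fits_single e) h he
  have n6e1 : Rel K.ι ⊤ 1 6 → ¬ K.Ext ⊤ (K.ι.e (rp 1)) := fun h he =>
    none_of f61 le_top (a := 6) (b := 1) rfl rfl (Nat.zero_lt_succ _) (fun g _ e => fits_single e) h.symm he
  obtain ⟨b, hb, hr, he⟩ := K.transfer (a := 2) (by simp)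
  have hkey : Rel K.ι ⊤ 1 2 ∧ Rel K.ι ⊤ 7 8 := by
    simp only [List.mem_cons, List.not_mem_nil, or_false] at hb
    rcases hb with rfl | rfl | rfl | rfl | rfl
    · obtain ⟨o, ho, hp⟩ := (some_of f20 le_top (a := 2) (b := 0) rfl rfl (Nat.zero_lt_succ _)
        (fun g _ e => fits_single e) hr he).1 _ List.mem_cons_self
      simp only [List.mem_cons, List.not_mem_nil, or_false] at ho
      refine absurd ?_ n18
      rcases ho with rfl | rfl | rfl | rfl
      · exact ((hp (1, 4) (by simp)).trans (hp (2, 4) (by simp)).symm).trans (hr.trans h08)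
      · exact (h13.trans (hp (2, 3) (by simp)).symm).trans (hr.trans h08)
      · exact ((hp (1, 6) (by simp)).trans (hp (2, 6) (by simp)).symm).trans (hr.trans h08)
      · exact (hp (1, 2) (by simp)).trans (hr.trans h08)
    · obtain ⟨o, ho, hp⟩ := (some_of f21 le_top (a := 2) (b := 1) rfl rfl (Nat.zero_lt_succ _)
        (fun g _ e => fits_single e) hr he).1 _ List.mem_cons_self
      simp only [List.mem_cons, List.not_mem_nil, or_false] at ho
      rcases ho with rfl | rfl | rfl
      · exact ⟨hr.symm, (hp (0, 7) (by simp)).symm.trans h08⟩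
      · exact absurd ((hr.symm.trans (hp (0, 2) (by simp)).symm).trans h08) n18
      · exact absurd ((hp (0, 1) (by simp)).symm.trans h08) n18
    · obtain ⟨o, ho, hp⟩ := (some_of f26 le_top (a := 2) (b := 6) rfl rfl (Nat.zero_lt_succ _)
        (fun g _ e => fits_single e) hr he).1 _ List.mem_cons_self
      simp only [List.mem_cons, List.not_mem_nil, or_false] at ho
      subst ho
      exact absurd he (n1e6 (((hp (1, 5) (by simp)).trans (hp (2, 5) (by simp)).symm).trans hr))
    · have h := (some_of f27 le_top (a := 2) (b := 7) rfl rfl (Nat.zero_lt_succ _)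
        (fun g _ e => fits_single e) hr he).1
      obtain ⟨o, ho, hp⟩ := h _ List.mem_cons_self
      obtain ⟨o', ho', hp'⟩ := h _ (List.mem_cons_of_mem _ List.mem_cons_self)
      simp only [List.mem_cons, List.not_mem_nil, or_false] at ho ho'
      have h12 : Rel K.ι ⊤ 1 2 := by
        rcases ho with rfl | rfl
        · exact hp (1, 2) (by simp)
        · exact (hp (1, 5) (by simp)).trans (hp (2, 5) (by simp)).symm
      refine absurd ?_ n18
      rcases ho' with rfl | rfl | rfl
      · exact (h12.trans (hp' (0, 2) (by simp)).symm).trans h08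
      · exact (hp' (0, 1) (by simp)).symm.trans h08
      · exact (h12.trans hr).trans ((hp' (0, 7) (by simp)).symm.trans h08)
    · obtain ⟨o, ho, hp⟩ := (some_of f28 le_top (a := 2) (b := 8) rfl rfl (Nat.zero_lt_succ _)
        (fun g _ e => fits_single e) hr he).1 _ List.mem_cons_self
      simp only [List.mem_cons, List.not_mem_nil, or_false] at ho
      refine absurd ?_ n18
      rcases ho with rfl | rfl
      · exact ((hp (1, 4) (by simp)).trans (hp (2, 4) (by simp)).symm).trans hr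
      · exact (h13.trans (hp (2, 3) (by simp)).symm).trans hr
  obtain ⟨h12, h78⟩ := hkey
  obtain ⟨b, hb, hr, he⟩ := K.transfer (a := 5) (by simp)
  have h56 : Rel K.ι ⊤ 5 6 := by
    simp only [List.mem_cons, List.not_mem_nil, or_false] at hb
    rcases hb with rfl | rfl | rfl | rfl | rfl
    · obtain ⟨o, ho, hp⟩ := (some_of f50 le_top (a := 5) (b := 0) rfl rfl (Nat.zero_lt_succ _)
        (fun g _ e => fits_single e) hr he).1 _ List.mem_cons_self
      simp only [List.mem_cons, List.not_mem_nil, or_false] at ho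
      rcases ho with rfl | rfl | rfl | rfl
      · exact hp (5, 6) (by simp)
      · exact (hp (4, 5) (by simp)).symm.trans h46
      · exact absurd ((h13.trans (hp (3, 5) (by simp))).trans (hr.trans h08)) n18
      · exact absurd ((hp (1, 5) (by simp)).trans (hr.trans h08)) n18
    · obtain ⟨o, ho, hp⟩ := (some_of f51 le_top (a := 5) (b := 1) rfl rfl (Nat.zero_lt_succ _)
        (fun g _ e => fits_single e) hr he).1 _ List.mem_cons_self
      simp only [List.mem_cons, List.not_mem_nil, or_false] at ho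
      subst ho
      exact absurd he (n6e1 (h12.trans (hp (2, 6) (by simp))))
    · exact hr
    · obtain ⟨o, ho, hp⟩ := (some_of f57 le_top (a := 5) (b := 7) rfl rfl (Nat.zero_lt_succ _)
        (fun g _ e => fits_single e) hr he).1 _ List.mem_cons_self
      simp only [List.mem_cons, List.not_mem_nil, or_false] at ho
      rcases ho with rfl | rfl
      · exact hp (5, 6) (by simp)
      · exact absurd (h12.trans ((hp (2, 5) (by simp)).trans (hr.trans h78))) n18
    · obtain ⟨o, ho, hp⟩ := (some_of f58 le_top (a := 5) (b := 8) rfl rfl (Nat.zero_lt_succ _)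
        (fun g _ e => fits_single e) hr he).1 _ (List.mem_cons_of_mem _ List.mem_cons_self)
      simp only [List.mem_cons, List.not_mem_nil, or_false] at ho
      rcases ho with rfl | rfl
      · exact (hp (4, 5) (by simp)).symm.trans h46
      · exact absurd ((h13.trans (hp (3, 5) (by simp))).trans hr) n18
  refine ⟨h08, h78, h13, h12, h46, h56, n18, fun h => ?_⟩
  obtain ⟨e, he9, hre, hee⟩ := ext_label (K := K) (H := ⊤) le_top (a := 1) (by norm_num)
  have hcard := card_reps
  have key : ∀ c < 9, Rel K.ι ⊤ c e → cCard (rp c) ≤ cCard (rp e) := fun c _ hce => by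
    obtain ⟨g, hg, eg⟩ := hce
    obtain ⟨g', -, hs⟩ := sends_of_ext (K := K) le_top (rp_lt c) (rp_lt e) hg eg hee
    exact card_le_of_sends hs
  have hk := key 1 (by norm_num) hre
  have hget : ∀ c < 16, cCard (rp c) =
      [256, 64, 32, 32, 32, 32, 64, 128, 512, 256, 256, 128, 32, 32, 64, 64].getD c 0 := fun c hc => by
    rw [← hcard, List.getD_eq_getElem _ _ (by simpa using hc)]
    simp
  rw [hget 1 (by norm_num), hget e (by omega)] at hk
  interval_cases e
  · exact n18 (hre.trans h08)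
  · exact n6e1 h hee
  all_goals first | simp at hk; done | skip
  · exact n1e6 h hee
  · exact n18 (hre.trans h78)
  · exact n18 hre

end Setup

end CfsgHSSylow
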