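import Cfsg.Agent.Lib.HSSylow.Constrained
import Cfsg.Agent.Lib.SolvSF.Minimal

/-!
The signalizer functor on the elementary layer and Aschbacher's criterion: the odd core of the centralizer of the
central involution is trivial, and the classes of labels 4, 5, 6 fuse to the central involution.
-/

set_option autoImplicit false

namespace CfsgHSSylow

open Subgroup
open Cfsg (pPrimeCore IsElementaryAbelian)
open CfsgLib.CharTwoEarly (core core_le odd_core core_comm conj_mem_core)
open CfsgLib.Bender.TwoClosed (mem_normalizer_of_conj)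

attribute [local irreducible] mulS invS labS conS inB bitsA bitsV bitsR bitsE cent2 coS

theorem R_comm_layer : ((List.range 512).all fun x => !inB bitsR x ||
    [2, 8, 10].any fun u => Nat.beq (mulS x u) (mulS u x)) = true := by with_unfolding_all decide +kernel

theorem lab_times_z : ((List.range 512).all fun x =>
    !([0, 4, 5, 6, 7].any (Nat.beq (labS x))) || [0, 4, 5, 6, 7].any (Nat.beq (labS (mulS 34 x)))) = true ∧
    ((List.range 512).all fun x => !(Nat.beq (labS x) 8) || Nat.beq x 34) = true := by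
  with_unfolding_all decide +kernel

/-- Conjugation carries the core of a centralizer along. -/
theorem core_conj {G : Type*} [Group G] [Finite G] {t y : G} (g : G) (hy : y ∈ core t) :
    g * y * g⁻¹ ∈ core (g * t * g⁻¹) := by
  set C' := centralizer ({g * t * g⁻¹} : Set G) with hC'
  set N := ((core t).map (MulAut.conj g).toMonoidHom).subgroupOf C'
  have hle : (core t).map (MulAut.conj g).toMonoidHom ≤ C' := by
    rintro _ ⟨w, hw, rfl⟩
    exact mem_centralizer_singleton_iff.mpr (CfsgLib.Bender.Q.conj_comm (core_comm hw))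
  have hodd : Odd (Nat.card N) := by
    rw [Nat.card_congr (subgroupOfEquivOfLe hle).toEquiv]
    exact (odd_core t).of_dvd_nat (card_map_dvd _ _)
  haveI : N.Normal := ⟨fun x hx c => by
    obtain ⟨w, hw, e⟩ := mem_subgroupOf.mp hx
    have hc := mem_centralizer_singleton_iff.mp c.2
    refine mem_subgroupOf.mpr ⟨g⁻¹ * c * g * w * (g⁻¹ * c * g)⁻¹, conj_mem_core ?_ hw, ?_⟩
    · have := CfsgLib.Bender.Q.conj_comm (g := g⁻¹) hc
      simpa [mul_assoc] using this
    · rw [show ((c * x * c⁻¹ : C') : G) = c * (x : G) * (c : G)⁻¹ by simp, ← e]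
      simp [mul_assoc]⟩
  exact ⟨⟨g * y * g⁻¹, hle ⟨y, hy, rfl⟩⟩,
    CfsgLib.le_pPrimeCore (Nat.coprime_two_right.mpr hodd) (mem_subgroupOf.mpr ⟨y, hy, rfl⟩), rfl⟩

namespace Setup

variable {G : Type*} [Group G] [Finite G] [IsSimpleGroup G] {K : Setup G} (hc : Classes K)

include hc

/-- An element is in the class of the central involution when it is a conjugate of it. -/
theorem layer_class {v : G} (hv : v ∈ K.Vsub) (hv1 : v ≠ 1) : ∃ g : G, g * K.z * g⁻¹ = v := by
  obtain ⟨x, hx, hT, rfl⟩ := hv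
  obtain ⟨g, -, e⟩ := layer_move hc (V_cases hx hT) (fun h => hv1 (by rw [h, K.ι.map_zero]))
  exact ⟨g⁻¹, by rw [← e]; group⟩

/-- Balance at conjugates of the central involution. -/
theorem balance_class {f t : G} (hf : ∃ g : G, g * K.z * g⁻¹ = f) (ht : t * t = 1) (htf : Commute t f) {y : G}
    (hy : y ∈ core t) (hyf : Commute y f) : y ∈ core f := by
  obtain ⟨g, rfl⟩ := hf
  have e1 : Commute (g⁻¹ * t * g) K.z := by
    simpa [mul_assoc] using htf.map (MulAut.conj g⁻¹).toMonoidHom
  have e2 : Commute (g⁻¹ * y * g) K.z := by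
    simpa [mul_assoc] using hyf.map (MulAut.conj g⁻¹).toMonoidHom
  have h := CfsgLib.CharTwoEarly.balance (f := K.z) (constrained hc)
    (t := g⁻¹ * t * g⁻¹⁻¹) (by rw [conj_mul, ht, mul_one, mul_inv_cancel]) (by simpa using e1.eq)
    (core_conj g⁻¹ hy) (by simpa using e2.eq)
  simpa [mul_assoc] using core_conj g h

/-- The representatives of the classes of the central involution fuse in the local subgroups. -/
theorem rel_eight {M : Subgroup G} (hX : K.CZ ≤ M) (hN : K.NV ≤ M) {a : ℕ} (ha : a < 9)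
    (h : Rel K.ι ⊤ a 8) : Rel K.ι M a 8 := by
  have hlayer : ∀ {c w : ℕ}, w ∈ Vlist → w ≠ 0 → rp c = w → Rel K.ι K.NV c 8 := by
    intro c w hw hw0 e
    obtain ⟨g, hg, eg⟩ := layer_move hc hw hw0
    exact ⟨g, hg, by rw [e, K.e_rp8]; exact eg⟩
  obtain ⟨p0, -, -, p7, -, -, -⟩ := pair_codes
  have h0 : Rel K.ι K.NV 0 8 := hlayer (w := 2) (by simp [Vlist]) (by norm_num) p0
  have h7 : Rel K.ι K.NV 7 8 := hlayer (w := 8) (by simp [Vlist]) (by norm_num) p7
  have h68 : a ∈ [4, 5, 6] → Rel K.ι ⊤ 6 8 := by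
    intro ha'
    simp only [List.mem_cons, List.not_mem_nil, or_false] at ha'
    rcases ha' with rfl | rfl | rfl
    · exact hc.r46.symm.trans h
    · exact hc.r56.symm.trans h
    · exact h
  interval_cases a
  · exact h0.mono hN
  · exact absurd h hc.n18
  · exact absurd (hc.r12.trans h) hc.n18
  · exact absurd (hc.r13.trans h) hc.n18
  · have h6 : Rel K.ι K.NV 4 6 := by
      obtain ⟨o, ho, hp⟩ := (some_of f08 S_le_normalizer_V (a := 0) (b := 8) rfl rfl (Nat.zero_lt_succ _)
        (fun g _ e => fits_single e) h0 (ext_z S_le_normalizer_V)).1 _ List.mem_cons_self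
      simp only [List.mem_cons, List.not_mem_nil, or_false] at ho
      rcases ho with rfl | rfl
      · exact hp (4, 6) (by simp)
      · exact absurd (((hp (1, 4) (by simp)).mono le_top).trans hc.r46) hc.n16
    exact ((h6.mono hN).trans ((xr_zero hc (h68 (by simp)) (a := 6) (by simp)).mono hX)).trans (h0.mono hN)
  · exact ((xr_zero hc (h68 (by simp)) (a := 5) (by simp)).mono hX).trans (h0.mono hN)
  · exact ((xr_zero hc (h68 (by simp)) (a := 6) (by simp)).mono hX).trans (h0.mono hN)
  · exact h7.mono hN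
  · exact Rel.refl 8

/-- A coded conjugate of the central involution. -/
theorem lab_class {x : ℕ} (hx : x < 512) {g : G} (h : g * K.z * g⁻¹ = K.ι.e x) :
    labS x < 9 ∧ Rel K.ι ⊤ (labS x) 8 ∧ mulS x x = 0 ∧ x ≠ 0 := by
  have hzz : K.z * K.z = 1 := by rw [← pow_two, ← K.orderOf_z, pow_orderOf_eq_one]
  have hxx : mulS x x = 0 := by
    refine K.ι.inj (mulS_lt _ _) (by norm_num) ?_
    rw [K.ι.map_mul hx hx, K.ι.map_zero, ← h, conj_mul, hzz, mul_one, mul_inv_cancel]
  have hx0 : x ≠ 0 := fun e => by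
    rw [e, K.ι.map_zero, conj_eq_one_iff] at h
    have := K.orderOf_z
    rw [h, orderOf_one] at this
    norm_num at this
  have hl := lab_invol hx hx0 hxx
  have h8 : K.ι.e (rp 8) = K.z := K.e_rp8
  have hr := rel_of_conj (ι := K.ι) (H := ⊤) le_top (mem_top g) (rp_lt 8) hx (by rw [lab_rp (by norm_num)]; norm_num)
    (by omega) (by rw [h8]; exact h)
  rw [lab_rp (by norm_num)] at hr
  exact ⟨hl, hr.symm, hxx, hx0⟩

/-- The centralizer of the central involution and the normalizer of the layer generate the group. -/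
theorem gen_top : K.CZ ⊔ K.NV = ⊤ := by
  by_contra hM
  set M := K.CZ ⊔ K.NV with hMdef
  have hX : K.CZ ≤ M := le_sup_left
  have hN : K.NV ≤ M := le_sup_right
  have hSM : (K.S : Subgroup G) ≤ M := S_le_CZ.trans hX
  have hzz : K.z * K.z = 1 := by rw [← pow_two, ← K.orderOf_z, pow_orderOf_eq_one]
  have hzS : K.z ∈ (K.S : Subgroup G) := K.e_mem (x := 34) (by norm_num)
  have hfix : ∀ g : G, g * K.z * g⁻¹ ∈ M → g ∈ M := by
    intro g hg
    obtain ⟨m, hm, hmS⟩ := CfsgLib.Bender.Q.exists_conj_sylow hSM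
      (CfsgLib.AfterFT.CoreSep.zpowers_two (show g * K.z * g⁻¹ * (g * K.z * g⁻¹) = 1 by
        rw [conj_mul, hzz, mul_one, mul_inv_cancel]))
      (zpowers_le.mpr hg)
    obtain ⟨x, hx, ex⟩ := K.exists_code (hmS _ (mem_zpowers _))
    have hk : m * g * K.z * (m * g)⁻¹ = K.ι.e x := by rw [ex]; group
    obtain ⟨hl, hr, -, -⟩ := lab_class hc hx hk
    obtain ⟨h, hh, eh⟩ := rel_eight hc hX hN hl hr
    obtain ⟨hcon, ec⟩ := exists_con (ι := K.ι) hx (by omega : labS x < 16)
    rw [K.e_rp8] at eh
    set u := h * (K.ι.e (conS x))⁻¹ * (m * g) with hu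
    have huz : u * K.z * u⁻¹ = K.z := by
      rw [hu, show h * (K.ι.e (conS x))⁻¹ * (m * g) * K.z * (h * (K.ι.e (conS x))⁻¹ * (m * g))⁻¹ =
        h * ((K.ι.e (conS x))⁻¹ * (m * g * K.z * (m * g)⁻¹) * K.ι.e (conS x)) * h⁻¹ by group, hk, ← ec,
        show (K.ι.e (conS x))⁻¹ * (K.ι.e (conS x) * K.ι.e (rp (labS x)) * (K.ι.e (conS x))⁻¹) * K.ι.e (conS x) =
          K.ι.e (rp (labS x)) by group, eh]
    have huM : u ∈ M := hX (mem_CZ.mpr (mul_inv_eq_iff_eq_mul.mp huz))
    have h1 : h * (K.ι.e (conS x))⁻¹ * m ∈ M := mul_mem (mul_mem hh (inv_mem (hSM (K.e_mem hcon)))) hm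
    have := mul_mem (inv_mem h1) huM
    simpa [hu, mul_assoc] using this
  have hcrit : CfsgLib.Bender.Q.Crit M (conjugatesOf K.z) := by
    refine CfsgLib.Bender.Q.crit_class hM K.orderOf_z (hSM hzS) ⟨K.S, hzS, fun s hs => K.z_comm hs⟩ hfix ?_
    intro g hgz hne w hw
    set v := g * K.z * g⁻¹ with hv
    have hSX : (K.S : Subgroup G) ≤ K.CZ := S_le_CZ
    obtain ⟨c, hcX, hcS⟩ := CfsgLib.Bender.Q.exists_conj_sylow hSX
      (CfsgLib.AfterFT.CoreSep.zpowers_two (show v * v = 1 by rw [hv, conj_mul, hzz, mul_one, mul_inv_cancel]))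
      (zpowers_le.mpr (mem_CZ.mpr hgz.symm))
    obtain ⟨x, hx, ex⟩ := K.exists_code (hcS _ (mem_zpowers _))
    have hk : c * g * K.z * (c * g)⁻¹ = K.ι.e x := by rw [ex, hv]; group
    obtain ⟨hl, hr, hxx, hx0⟩ := lab_class hc hx hk
    have hcz : c * K.z * c⁻¹ = K.z := by rw [(mem_CZ.mp hcX).eq, mul_inv_cancel_right]
    have hx34 : x ≠ 34 := fun e => hne (by
      rw [e] at ex
      have : c * v * c⁻¹ = c * K.z * c⁻¹ := by rw [hcz, ← ex]; rfl
      exact (MulAut.conj c).injective this)
    -- the product is in the class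
    have hprod : ∃ k : G, k * K.z * k⁻¹ = K.z * K.ι.e x := by
      have h34 : (34 : ℕ) < 512 := by norm_num
      by_cases h68 : Rel K.ι ⊤ 6 8
      · have hl' : labS x ∈ [0, 4, 5, 6, 7] := by
          interval_cases h : labS x
          · simp
          · exact absurd hr hc.n18
          · exact absurd (hc.r12.trans hr) hc.n18
          · exact absurd (hc.r13.trans hr) hc.n18
          · simp
          · simp
          · simp
          · simp
          · refine absurd ?_ hx34
            have := List.all_eq_true.mp lab_times_z.2 x (List.mem_range.mpr hx)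
            simpa [h, Nat.beq_eq] using this
        have h' := List.all_eq_true.mp lab_times_z.1 x (List.mem_range.mpr hx)
        simp only [Bool.or_eq_true, Bool.not_eq_true', List.any_eq_false, List.any_eq_true, Nat.beq_eq] at h'
        obtain ⟨a, ha, ea⟩ := h'.resolve_left fun hno => hno _ hl' rfl
        obtain ⟨hcon, ec⟩ := exists_con (ι := K.ι) (mulS_lt 34 x) (by
          rw [ea]; simp only [List.mem_cons, List.not_mem_nil, or_false] at ha; omega)
        have ha8 : Rel K.ι ⊤ a 8 := by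
          simp only [List.mem_cons, List.not_mem_nil, or_false] at ha
          rcases ha with rfl | rfl | rfl | rfl | rfl
          · exact hc.r08
          · exact hc.r46.trans h68
          · exact hc.r56.trans h68
          · exact h68
          · exact hc.r78
        obtain ⟨k, -, ek⟩ := ha8
        rw [K.e_rp8] at ek
        refine ⟨K.ι.e (conS (mulS 34 x)) * k⁻¹, ?_⟩
        rw [show K.z * K.ι.e x = K.ι.e (mulS 34 x) from (K.ι.map_mul h34 hx).symm, ← ec, ea, ← ek]
        group
      · have hV : inB bitsV x = true := by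
          refine V_lab hx ?_
          interval_cases h : labS x
          · simp
          · exact absurd hr hc.n18
          · exact absurd (hc.r12.trans hr) hc.n18
          · exact absurd (hc.r13.trans hr) hc.n18
          · exact absurd (hc.r46.symm.trans hr) h68
          · exact absurd (hc.r56.symm.trans hr) h68
          · exact absurd hr h68
          · simp
          · simp
        refine layer_class hc (mul_mem z_mem_V ((e_mem_sub hx).mpr hV)) fun e => hx34 ?_
        refine K.ι.inj hx h34 ((inv_eq_of_mul_eq_one_right e).symm.trans ?_)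
        exact inv_eq_of_mul_eq_one_right hzz
    obtain ⟨k, hk'⟩ := hprod
    have hkM : k ∈ M := hfix k (by
      rw [hk']; exact mul_mem (hSM hzS) (hSM (K.e_mem hx)))
    have hcM : c ∈ M := hX hcX
    have hprod' : c * (K.z * v) * c⁻¹ = k * K.z * k⁻¹ := by
      rw [hk', show c * (K.z * v) * c⁻¹ = c * K.z * c⁻¹ * (c * v * c⁻¹) by group, hcz, ex]
    have hmem : k⁻¹ * c * w * (k⁻¹ * c)⁻¹ ∈ M := hX (mem_CZ.mpr (by
      have h1 := (show Commute w (K.z * v) from mem_centralizer_singleton_iff.mp hw).map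
        (MulAut.conj (k⁻¹ * c)).toMonoidHom
      simp only [MulEquiv.coe_toMonoidHom, MulAut.conj_apply] at h1
      rwa [show k⁻¹ * c * (K.z * v) * (k⁻¹ * c)⁻¹ = k⁻¹ * (c * (K.z * v) * c⁻¹) * k by group, hprod',
        show k⁻¹ * (k * K.z * k⁻¹) * k = K.z by group] at h1))
    have h2 := mul_mem (mul_mem (inv_mem (mul_mem (inv_mem hkM) hcM)) hmem) (mul_mem (inv_mem hkM) hcM)
    simpa [mul_assoc] using h2
  have hse := CfsgLib.Bender.Q.stronglyEmbedded_of_crit CfsgLib.Bender.Q.theoremQ hcrit
  refine hc.n18 ?_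
  obtain ⟨g, e⟩ := isConj_iff.mp (CfsgLib.StrongEmb.all_isConj hse (K.orderOf_rp (a := 1) (by norm_num)) K.orderOf_z)
  exact ⟨g, mem_top g, by rw [K.e_rp8]; exact e⟩

/-- The odd core of the centralizer is trivial and the classes of labels 4, 5, 6 fuse to the central involution. -/
theorem trivial_core : K.oX = ⊥ ∧ Rel K.ι ⊤ 6 8 := by
  haveI : _root_.Fact (Nat.Prime 2) := ⟨Nat.prime_two⟩
  have htop : ∀ {M : Subgroup G}, K.CZ ≤ M → K.NV ≤ M → M = ⊤ := fun h1 h2 =>
    top_le_iff.mp ((gen_top hc).symm.le.trans (sup_le h1 h2))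
  have hclass : ∀ a ∈ K.Vsub, a ≠ 1 → ∃ g : G, g * K.z * g⁻¹ = a := fun a => layer_class hc
  obtain ⟨hWp, -⟩ := Cfsg.Agent.S0217.result (p := 2) K.Vsub (fun a ha b hb => (A_commute (V_le_A ha) (V_le_A hb)).eq)
    (fun a ha => by rw [pow_two]; exact V_sq ha) (by rw [card_V]; norm_num) (fun a => core a)
    (fun a _ _ => core_le a) (fun a _ _ h => absurd ((odd_core a).of_dvd_nat h) (by decide))
    (fun a ha _ b hb x hx => conj_mem_core (A_commute (V_le_A hb) (V_le_A ha)).eq hx)
    (fun a _ _ => Cfsg.Agent.S0205.result (odd_core a))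
    (fun a ha _ b hb hb1 x hx => balance_class hc (hclass b hb hb1) (V_sq ha) (A_commute (V_le_A ha) (V_le_A hb))
      hx.1 (mem_centralizer_singleton_iff.mp hx.2))
  set W := ⨆ a : {a : G // a ∈ K.Vsub ∧ a ≠ 1}, core (a : G) with hW
  have hWodd : Odd (Nat.card W) := Nat.odd_iff.mpr (Nat.two_dvd_ne_zero.mp hWp)
  have hle : ∀ a ∈ K.Vsub, a ≠ 1 → core a ≤ W := fun a ha ha1 =>
    le_iSup (fun a : {a : G // a ∈ K.Vsub ∧ a ≠ 1} => core (a : G)) ⟨a, ha, ha1⟩
  have hz1 : K.z ≠ 1 := fun e => by
    have := K.orderOf_z; rw [e, orderOf_one] at this; norm_num at this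
  have hNV : K.NV ≤ normalizer (W : Set G) := fun g hg => by
    refine mem_normalizer_of_conj fun x hx => ?_
    have h : W ≤ W.comap (MulAut.conj g).toMonoidHom := iSup_le fun a y hy =>
      hle _ ((mem_normalizer_iff.mp hg _).mp a.2.1) (fun h => a.2.2 (conj_eq_one_iff.mp h)) (core_conj g hy)
    exact h hx
  -- the image of the subgroup of order 64
  have himage : ∀ {n : K.CZ}, n ∈ normalizer ((K.local'.Rsub : Subgroup K.CZ) : Set K.CZ) → ∀ v ∈ K.Vsub,
      ∃ x < 512, inB bitsR x = true ∧ (n : G) * v * (n : G)⁻¹ = K.ι.e x := by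
    intro n hn v hv
    obtain ⟨y, hy, hT, rfl⟩ := hv
    have hyR : inB bitsR y = true := by
      have h : [0, 2, 8, 10, 32, 34, 40, 42].all (fun v => inB bitsR v) = true := by
        with_unfolding_all decide +kernel
      exact List.all_eq_true.mp h y (V_cases hy hT)
    obtain ⟨x, hx, hR, e⟩ := (mem_normalizer_iff.mp hn (K.eX y)).mp ((e_mem_sub hy).mpr hyR)
    refine ⟨x, hx, hR, ?_⟩
    have e' := congrArg Subtype.val e
    rw [Subgroup.coe_mul, Subgroup.coe_mul, Subgroup.coe_inv, coe_eX hy] at e'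
    rw [← e', show ((K.local'.ι.e x : K.CZ) : G) = K.ι.e x from coe_eX hx]
  have hXW : K.CZ ≤ normalizer (W : Set G) := by
    intro g hg
    obtain ⟨n, hn, o, ho, e⟩ := frattini hc (⟨g, hg⟩ : K.CZ)
    rw [show g = (n : G) * o from (congrArg Subtype.val e).symm]
    refine mul_mem (mem_normalizer_of_conj fun y hy => ?_)
      (le_normalizer (hle K.z z_mem_V hz1 (show (o : G) ∈ core K.z from ⟨o, ho, rfl⟩)))
    have h : W ≤ W.comap (MulAut.conj (n : G)).toMonoidHom := iSup_le fun a y hy => by
      obtain ⟨x, hx, hR, hw⟩ := himage hn a a.2.1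
      have h1 : core ((n : G) * a * (n : G)⁻¹) ≤ W := by
        set w := (n : G) * a * (n : G)⁻¹ with hwdef
        have hw2 : w * w = 1 := by rw [hwdef, conj_mul, V_sq a.2.1, mul_one, mul_inv_cancel]
        set A := K.Vsub ⊓ centralizer ({w} : Set G) with hA
        have hAea : IsElementaryAbelian 2 A :=
          ⟨⟨⟨fun p q => Subtype.ext (A_commute (V_le_A p.2.1) (V_le_A q.2.1)).eq⟩⟩,
            fun p hp => by rw [pow_two]; exact V_sq hp.1⟩
        have hR' := List.all_eq_true.mp R_comm_layer x (List.mem_range.mpr hx)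
        simp only [hR, Bool.not_true, Bool.false_or, List.any_eq_true, Nat.beq_eq] at hR'
        obtain ⟨u, hu, hxu⟩ := hR'
        have hu' : u < 512 ∧ inB bitsV u = true ∧ u ≠ 0 ∧ u ≠ 34 := by
          simp only [List.mem_cons, List.not_mem_nil, or_false] at hu
          rcases hu with rfl | rfl | rfl <;> exact ⟨(V_mem (by simp)).1, (V_mem (by simp)).2, by norm_num, by norm_num⟩
        have huA : K.ι.e u ∈ A := ⟨(e_mem_sub hu'.1).mpr hu'.2.1, mem_centralizer_singleton_iff.mpr (by
          rw [hw]; exact ((K.ι.commute_iff hu'.1 hx).mpr hxu.symm).eq)⟩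
        have hzA : K.z ∈ A := ⟨z_mem_V, mem_centralizer_singleton_iff.mpr (by
          rw [hw]; exact (K.z_comm (K.e_mem hx)).symm.eq)⟩
        have hcard : 2 < Nat.card A := by
          haveI : Fintype A := Fintype.ofFinite A
          rw [Nat.card_eq_fintype_card]
          refine Fintype.two_lt_card_iff.mpr ⟨1, ⟨_, hzA⟩, ⟨_, huA⟩, ?_, ?_, ?_⟩
          · exact fun e => hz1 (congrArg Subtype.val e).symm
          · exact fun e => hu'.2.2.1 (K.ι.inj hu'.1 (by norm_num) ((congrArg Subtype.val e).symm.trans K.ι.map_zero.symm))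
          · exact fun e => hu'.2.2.2 (K.ι.inj hu'.1 (by norm_num) (congrArg Subtype.val e).symm)
        refine CfsgLib.SolvSF.gen_le (p := 2) hAea hcard
          (fun h => absurd ((odd_core w).of_dvd_nat h) (by decide))
          (fun p hp => mem_normalizer_of_conj fun q hq => conj_mem_core (mem_centralizer_singleton_iff.mp hp.2) hq)
          fun p hp hp1 q hq => hle p hp.1 hp1 ?_
        exact balance_class hc (hclass p hp.1 hp1) hw2
          (show Commute p w from mem_centralizer_singleton_iff.mp hp.2).symm hq.1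
          (mem_centralizer_singleton_iff.mp hq.2)
      exact h1 (core_conj _ hy)
    exact h hy
  have hWbot : W = ⊥ := by
    haveI := normalizer_eq_top_iff.mp (htop hXW hNV)
    refine (‹W.Normal›).eq_bot_or_eq_top.resolve_right fun e => ?_
    rw [e, card_top] at hWodd
    have := orderOf_dvd_natCard (K.z : G)
    rw [K.orderOf_z] at this
    exact absurd (hWodd.of_dvd_nat this) (by decide)
  have hoX : K.oX = ⊥ := by
    refine eq_bot_iff.mpr fun o ho => mem_bot.mpr (Subtype.ext ?_)
    have h := hle K.z z_mem_V hz1 (show (o : G) ∈ core K.z from ⟨o, ho, rfl⟩)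
    rw [hWbot] at h
    exact mem_bot.mp h
  refine ⟨hoX, ?_⟩
  by_contra h68
  have hXN : K.CZ ≤ K.NV := by
    intro g hg
    obtain ⟨n, hn, o, ho, e⟩ := frattini hc (⟨g, hg⟩ : K.CZ)
    rw [hoX, mem_bot] at ho
    rw [ho, mul_one] at e
    rw [show g = (n : G) from (congrArg Subtype.val e).symm]
    refine mem_normalizer_of_conj fun v hv => ?_
    rcases eq_or_ne v 1 with rfl | hv1
    · simp
    obtain ⟨x, hx, -, hw⟩ := himage hn v hv
    rw [hw]
    refine (e_mem_sub hx).mpr (V_lab hx ?_)
    obtain ⟨k, rfl⟩ := layer_class hc hv hv1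
    obtain ⟨hl, hr, -, -⟩ := lab_class hc hx (g := (n : G) * k) (by rw [← hw]; group)
    interval_cases h : labS x
    · simp
    · exact absurd hr hc.n18
    · exact absurd (hc.r12.trans hr) hc.n18
    · exact absurd (hc.r13.trans hr) hc.n18
    · exact absurd (hc.r46.symm.trans hr) h68
    · exact absurd (hc.r56.symm.trans hr) h68
    · exact absurd hr h68
    · simp
    · simp
  haveI := normalizer_eq_top_iff.mp (htop hXN le_rfl)
  rcases (‹(K.Vsub).Normal›).eq_bot_or_eq_top with e | e
  · exact hz1 (mem_bot.mp (e ▸ z_mem_V))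
  · exact not_comm K ⟨⟨fun a b => (A_commute (V_le_A (e ▸ mem_top a)) (V_le_A (e ▸ mem_top b))).eq⟩⟩

end Setup

end CfsgHSSylow
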