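import Cfsg.Agent.Lib.HSSylow.Code

/-!
Kernel checks for the centralizers of pairs of commuting involutions.
-/

set_option autoImplicit false
set_option maxRecDepth 100000
set_option maxHeartbeats 4000000
set_option Elab.async false

namespace CfsgHSSylow

/-- The centralizer of the code two, as a list. -/
noncomputable def cent2 : List ℕ := (List.range 512).filter fun a => Nat.beq (mulS a 2) (mulS 2 a)

theorem isol_pair : ((List.range 512).all fun y => !(Nat.beq (mulS y y) 0) || !(Nat.beq (mulS y 2) (mulS 2 y)) ||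
    [0, 2, 32, 34, 8, 10, 40, 42].any (Nat.beq y) || [1, 2, 3].any (Nat.beq (labS y)) ||
    cent2.any fun a => Nat.beq (mulS a y) (mulS y a) && cent2.any fun b =>
      Nat.beq (mulS b y) (mulS y b) && !(Nat.beq (mulS a b) (mulS b a))) = true := by decide +kernel

theorem isol_five : ((List.range 512).all fun y => !(Nat.beq (mulS y 64) (mulS 64 y)) ||
    !(Nat.beq (labS y) 0 || Nat.beq (labS y) 7) ||
    [0, 34, 64, mulS 34 64].any fun k => Nat.beq y (mulS k 8)) = true ∧ mulS 64 8 = mulS 8 64 ∧
    ([0, 34, 64, mulS 34 64].any (Nat.beq 8)) = false := by decide +kernel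

theorem isol_six : ((List.range 512).all fun y => !(Nat.beq (mulS y 256) (mulS 256 y)) ||
    !(Nat.beq (labS y) 0 || Nat.beq (labS y) 7) ||
    [0, 34, 256, mulS 34 256].any fun k => Nat.beq y (mulS k 2)) = true ∧ mulS 256 2 = mulS 2 256 ∧
    ([0, 34, 256, mulS 34 256].any (Nat.beq 2)) = false := by decide +kernel

theorem pair_codes : rp 0 = 2 ∧ rp 5 = 64 ∧ rp 6 = 256 ∧ rp 7 = 8 ∧ rp 9 = 17 ∧ mulS 2 34 = 32 ∧
    ([0, 2, 32, 34].map fun u => mulS u 8) = [8, 10, 40, 42] := by decide +kernel

end CfsgHSSylow
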