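import Cfsg.Agent.Lib.PLocal.Constrained
import Cfsg.Agent.Lib.Basic
import Cfsg.Agent.S0215
import Mathlib.GroupTheory.Transfer

/-!
Subgroups in which the elements of odd order are closed under products.
-/

set_option autoImplicit false

namespace CfsgHSSylow

open Subgroup

variable {G : Type*} [Group G]

/-- Products of elements of odd order have odd order. -/
def OddClosed (K : Subgroup G) : Prop :=
  ∀ a ∈ K, ∀ b ∈ K, Odd (orderOf a) → Odd (orderOf b) → Odd (orderOf (a * b))

theorem OddClosed.mono {K L : Subgroup G} (h : OddClosed L) (hle : K ≤ L) : OddClosed K :=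
  fun a ha b hb => h a (hle ha) b (hle hb)

theorem OddClosed.map_inj {H : Type*} [Group H] {K : Subgroup G} (h : OddClosed K) {f : G →* H}
    (hf : Function.Injective f) : OddClosed (K.map f) := by
  rintro _ ⟨a, ha, rfl⟩ _ ⟨b, hb, rfl⟩ oa ob
  rw [← map_mul, orderOf_injective f hf]
  rw [orderOf_injective f hf] at oa ob
  exact h a ha b hb oa ob

theorem OddClosed.conj {K : Subgroup G} (h : OddClosed K) (g : G) :
    OddClosed (K.map (MulAut.conj g).toMonoidHom) :=
  h.map_inj (MulAut.conj g).injective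

/-- An element of odd order of an image is the image of an element of odd order. -/
theorem exists_odd_lift [Finite G] {H : Type*} [Group H] (f : G →* H) {K : Subgroup G} {y : H} (hy : y ∈ K.map f)
    (ho : Odd (orderOf y)) : ∃ x ∈ K, Odd (orderOf x) ∧ f x = y := by
  obtain ⟨x, hx, rfl⟩ := hy
  obtain ⟨k, m, hm, e⟩ := Nat.exists_eq_two_pow_mul_odd (orderOf_pos x).ne'
  have hcop : (2 ^ k).Coprime (orderOf (f x)) := (Nat.coprime_two_left.mpr ho).pow_left k
  obtain ⟨j, hj⟩ := exists_pow_eq_self_of_coprime (x := f x) hcop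
  refine ⟨(x ^ 2 ^ k) ^ j, pow_mem (pow_mem hx _) _, ?_, by rw [map_pow, map_pow, hj]⟩
  refine hm.of_dvd_nat (orderOf_dvd_of_pow_eq_one ?_)
  rw [← pow_mul, ← pow_mul, show 2 ^ k * (j * m) = 2 ^ k * m * j by ring, ← e, pow_mul, pow_orderOf_eq_one, one_pow]

theorem OddClosed.map [Finite G] {H : Type*} [Group H] {K : Subgroup G} (h : OddClosed K) (f : G →* H) :
    OddClosed (K.map f) := by
  intro a ha b hb oa ob
  obtain ⟨a', ha', oa', rfl⟩ := exists_odd_lift f ha oa
  obtain ⟨b', hb', ob', rfl⟩ := exists_odd_lift f hb ob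
  rw [← map_mul]
  exact (h a' ha' b' hb' oa' ob').of_dvd_nat (orderOf_map_dvd f _)

/-- The elements of odd order of such a subgroup. -/
def oddPart [Finite G] (K : Subgroup G) (h : OddClosed K) : Subgroup G where
  carrier := {g | g ∈ K ∧ Odd (orderOf g)}
  one_mem' := ⟨one_mem K, by simp⟩
  mul_mem' := fun {a b} ha hb => ⟨mul_mem ha.1 hb.1, h a ha.1 b hb.1 ha.2 hb.2⟩
  inv_mem' := fun {a} ha => ⟨inv_mem ha.1, by rw [orderOf_inv]; exact ha.2⟩

theorem mem_oddPart [Finite G] {K : Subgroup G} {h : OddClosed K} {g : G} :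
    g ∈ oddPart K h ↔ g ∈ K ∧ Odd (orderOf g) := Iff.rfl

theorem oddPart_le [Finite G] {K : Subgroup G} (h : OddClosed K) : oddPart K h ≤ K := fun _ hg => hg.1

theorem odd_card_of_odd_elements [Finite G] {O : Subgroup G} (h : ∀ g ∈ O, Odd (orderOf g)) :
    Odd (Nat.card O) := by
  refine Nat.not_even_iff_odd.mp fun he => ?_
  obtain ⟨x, hx⟩ := exists_prime_orderOf_dvd_card' (G := O) 2 (hp := ⟨Nat.prime_two⟩) (even_iff_two_dvd.mp he)
  have := h x x.2
  rw [orderOf_coe, hx] at this
  exact (by decide : ¬ Odd 2) this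

theorem odd_card_oddPart [Finite G] {K : Subgroup G} (h : OddClosed K) : Odd (Nat.card (oddPart K h)) :=
  odd_card_of_odd_elements fun _ hg => hg.2

theorem oddPart_conj [Finite G] {K : Subgroup G} (h : OddClosed K) {g : G} (hg : ∀ k ∈ K, g * k * g⁻¹ ∈ K) {x : G}
    (hx : x ∈ oddPart K h) : g * x * g⁻¹ ∈ oddPart K h :=
  ⟨hg x hx.1, by rw [show g * x * g⁻¹ = MulAut.conj g x from rfl, (MulAut.conj g).orderOf_eq]; exact hx.2⟩

/-- An abelian Sylow subgroup with central action of its normalizer. -/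
theorem oddClosed_of_burnside [Finite G] (P : Sylow 2 G)
    (hP : normalizer ((P : Subgroup G) : Set G) ≤ centralizer ((P : Subgroup G) : Set G)) :
    OddClosed (⊤ : Subgroup G) := by
  haveI : _root_.Fact (Nat.Prime 2) := ⟨Nat.prime_two⟩
  have hc := MonoidHom.ker_transferSylow_isComplement' P hP
  have hker : ∀ g : G, g ∈ (MonoidHom.transferSylow P hP).ker ↔ Odd (orderOf g) := by
    intro g
    constructor
    · intro hg
      have hdvd := MonoidHom.not_dvd_card_ker_transferSylow P hP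
      exact (Nat.odd_iff.mpr (Nat.two_dvd_ne_zero.mp hdvd)).of_dvd_nat (orderOf_dvd_natCard _ hg)
    · intro ho
      rw [MonoidHom.mem_ker, ← orderOf_eq_one_iff]
      obtain ⟨k, hk⟩ := IsPGroup.iff_orderOf.mp P.2 (MonoidHom.transferSylow P hP g)
      rw [hk]
      have hd := orderOf_map_dvd (MonoidHom.transferSylow P hP) g
      rw [hk] at hd
      rcases Nat.eq_zero_or_pos k with hk0 | hk0
      · rw [hk0, pow_zero]
      · exact absurd (ho.of_dvd_nat ((dvd_pow_self 2 hk0.ne').trans hd)) (by decide)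
  intro a _ b _ oa ob
  exact (hker _).mp (mul_mem ((hker a).mpr oa) ((hker b).mpr ob))

/-- Odd elements of a group with a central 2-subgroup with odd index. -/
theorem oddClosed_central [Finite G] {Z : Subgroup G} (hZ : Z ≤ center G) (h2 : IsPGroup 2 Z)
    (hodd : Odd Z.index) : OddClosed (⊤ : Subgroup G) := by
  have key : ∀ a : G, Odd (orderOf a) ↔ a ^ Z.index = 1 := by
    intro a
    refine ⟨fun ha => ?_, fun h => hodd.of_dvd_nat (orderOf_dvd_of_pow_eq_one h)⟩
    haveI : Z.Normal := ⟨fun z hz g => by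
      rw [(mem_center_iff.mp (hZ hz) g), mul_inv_cancel_right]; exact hz⟩
    have hm : a ^ Z.index ∈ Z := pow_index_mem Z a
    obtain ⟨k, hk⟩ := IsPGroup.iff_orderOf.mp h2 ⟨_, hm⟩
    rw [Subgroup.orderOf_mk] at hk
    have hd : orderOf (a ^ Z.index) ∣ orderOf a := orderOf_pow_dvd _
    rw [hk] at hd
    rcases Nat.eq_zero_or_pos k with hk0 | hk0
    · rw [hk0, pow_zero, orderOf_eq_one_iff] at hk; exact hk
    · exact absurd (ha.of_dvd_nat ((dvd_pow_self 2 hk0.ne').trans hd)) (by decide)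
  haveI : Z.Normal := ⟨fun z hz g => by rw [(mem_center_iff.mp (hZ hz) g), mul_inv_cancel_right]; exact hz⟩
  intro a _ b _ oa ob
  rw [key] at oa ob ⊢
  have hcomm : ∀ x : G, x ^ Z.index ∈ center G := fun x => hZ (pow_index_mem Z x)
  have hfin : (center G).index ∣ Z.index := Subgroup.index_dvd_of_le hZ
  obtain ⟨n, hn⟩ := hfin
  have hf := map_mul (MonoidHom.transferCenterPow G) a b
  have e : ∀ x : G, x ^ (center G).index = ((MonoidHom.transferCenterPow G x : center G) : G) := fun x => rfl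
  have hm := congrArg Subtype.val (congrArg (fun u : center G => u ^ n) hf)
  push_cast at hm
  rw [← e, ← e, ← e, (show Commute (a ^ (center G).index) (b ^ (center G).index) from
      (mem_center_iff.mp (e a ▸ ((MonoidHom.transferCenterPow G a).2)) _).symm).mul_pow, ← pow_mul, ← pow_mul,
    ← pow_mul, ← hn, oa, ob, one_mul] at hm
  exact hm

/-- If an involution is isolated modulo a central 2-subgroup and its centralizer has the property, so does the
group. -/
theorem oddClosed_of_isolated [Finite G] (P : Sylow 2 G) {Z : Subgroup G} (hZ : Z ≤ center G)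
    (h2 : IsPGroup 2 Z) {v : G} (hv : v * v = 1) (hvP : v ∈ (P : Subgroup G)) (hvZ : v ∉ Z)
    (hiso : ∀ g : G, g * v * g⁻¹ ∈ (P : Subgroup G) → g * v * g⁻¹ * v⁻¹ ∈ Z)
    (hC : OddClosed (centralizer ({v} : Set G))) : OddClosed (⊤ : Subgroup G) := by
  haveI : _root_.Fact (Nat.Prime 2) := ⟨Nat.prime_two⟩
  haveI hZn : Z.Normal := ⟨fun z hz g => by rw [(mem_center_iff.mp (hZ hz) g), mul_inv_cancel_right]; exact hz⟩
  have hZP : Z ≤ (P : Subgroup G) := by
    obtain ⟨Q, hQ⟩ := h2.exists_le_sylow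
    obtain ⟨g, hg⟩ := MulAction.exists_smul_eq G Q P
    intro z hz
    rw [← hg, Sylow.smul_def, Sylow.pointwise_smul_def]
    exact ⟨z, hQ hz, by simp [(mem_center_iff.mp (hZ hz) g)]⟩
  set π := QuotientGroup.mk' Z with hπ
  have hπs : Function.Surjective π := QuotientGroup.mk'_surjective Z
  have hov : orderOf (π v) = 2 := orderOf_eq_prime (by rw [pow_two, ← map_mul, hv, map_one])
    fun h => hvZ ((QuotientGroup.eq_one_iff v).mp h)
  obtain ⟨N₁, hN₁, hodd₁, hcomm⟩ := Cfsg.Agent.S0215.result (Sylow.mapSurjective hπs P) (π v) hov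
    ((Sylow.coe_mapSurjective hπs P).ge ⟨v, hvP, rfl⟩) (by
      intro g hg
      obtain ⟨g, rfl⟩ := hπs g
      rw [← map_inv, ← map_mul, ← map_mul] at hg ⊢
      obtain ⟨p, hp, hpe⟩ : π (g * v * g⁻¹) ∈ (P : Subgroup G).map π := (Sylow.coe_mapSurjective hπs P).le hg
      have hmem : g * v * g⁻¹ ∈ (P : Subgroup G) := by
        have := mul_mem hp (hZP ((QuotientGroup.eq (a := p) (b := g * v * g⁻¹)).mp hpe))
        rwa [mul_inv_cancel_left] at this
      refine (QuotientGroup.eq_one_iff _).mpr (hiso g hmem) |> fun h => ?_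
      exact mul_inv_eq_one.mp (by rw [← map_inv, ← map_mul]; exact h))
  haveI := hN₁
  set N : Subgroup G := N₁.comap π with hN
  haveI : N.Normal := hN₁.comap π
  have hZN : Z ≤ N := fun z hz => by
    rw [hN, mem_comap, show π z = 1 from (QuotientGroup.eq_one_iff z).mpr hz]; exact one_mem _
  have hidx : Odd (Z.subgroupOf N).index := by
    have h1 : (Z.subgroupOf N).index = Z.relIndex N := rfl
    rw [h1, show Z = π.ker from (QuotientGroup.ker_mk' Z).symm, relIndex_ker, hN, map_comap_eq_self_of_surjective hπs]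
    exact hodd₁
  have hNc : OddClosed N := by
    have h := oddClosed_central (G := N) (Z := Z.subgroupOf N)
      (fun z hz => mem_center_iff.mpr fun g => Subtype.ext (mem_center_iff.mp (hZ hz) g))
      (h2.of_equiv (subgroupOfEquivOfLe hZN).symm) hidx
    have := h.map_inj N.subtype_injective
    rwa [← MonoidHom.range_eq_map, range_subtype] at this
  set O := oddPart N hNc with hO
  haveI hOn : O.Normal := ⟨fun x hx g => oddPart_conj hNc (fun k hk => Normal.conj_mem inferInstance k hk g) hx⟩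
  have hOodd : Odd (Nat.card O) := odd_card_oddPart hNc
  set ρ := QuotientGroup.mk' O with hρ
  -- odd elements commute with `v` modulo `O`
  have hcent : ∀ k : G, Odd (orderOf k) → ρ v * ρ k = ρ k * ρ v := by
    intro k hk
    obtain ⟨w, hw⟩ : ∃ w, w = v * k * v⁻¹ * k⁻¹ := ⟨_, rfl⟩
    have hwN : w ∈ N := by
      rw [hN, mem_comap, hw, map_mul, map_mul, map_mul, map_inv, map_inv]
      exact hcomm (π k)
    obtain ⟨j, m, hm, e⟩ := Nat.exists_eq_two_pow_mul_odd (orderOf_pos w).ne'
    have hwm : orderOf (w ^ m) ∣ 2 ^ j := orderOf_dvd_of_pow_eq_one (by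
      rw [← pow_mul, mul_comm, ← e, pow_orderOf_eq_one])
    have hw2 : Odd (orderOf (w ^ 2 ^ j)) := hm.of_dvd_nat (orderOf_dvd_of_pow_eq_one (by
      rw [← pow_mul, ← e, pow_orderOf_eq_one]))
    have hsplit : ρ w ^ 2 ^ j = 1 := by
      rw [← map_pow]
      exact (QuotientGroup.eq_one_iff _).mpr ⟨pow_mem hwN _, hw2⟩
    have hwc : ∀ g : G, ρ w * ρ g = ρ g * ρ w := by
      intro g
      obtain ⟨r, hr⟩ : ∃ r, r = g * w * g⁻¹ * w⁻¹ := ⟨_, rfl⟩
      have hrN : r ∈ N := hr ▸ mul_mem (Normal.conj_mem inferInstance w hwN g) (inv_mem hwN)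
      have hzm : w ^ (Z.subgroupOf N).index ∈ Z := by
        haveI : (Z.subgroupOf N).Normal := hZn.subgroupOf N
        have := pow_index_mem (Z.subgroupOf N) (⟨w, hwN⟩ : N)
        exact mem_subgroupOf.mp this
      have hcentral : ρ (w ^ (Z.subgroupOf N).index) * ρ g = ρ g * ρ (w ^ (Z.subgroupOf N).index) := by
        rw [← map_mul, ← map_mul, mem_center_iff.mp (hZ hzm) g]
      have hd : Nat.Coprime (Z.subgroupOf N).index (orderOf (ρ w)) := by
        refine Nat.Coprime.coprime_dvd_right (orderOf_dvd_of_pow_eq_one hsplit) ?_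
        exact (Nat.coprime_two_right.mpr hidx).pow_right j
      obtain ⟨i, hi⟩ := exists_pow_eq_self_of_coprime hd
      rw [← hi, ← map_pow]
      exact ((show Commute (ρ (w ^ (Z.subgroupOf N).index)) (ρ g) from hcentral).pow_left i).eq
    have e1 : ρ v * ρ k * (ρ v)⁻¹ = ρ w * ρ k := by
      rw [← map_inv, ← map_mul, ← map_mul, ← map_mul, hw]; congr 1; group
    have e2 : (ρ w * ρ k) ^ orderOf k = 1 := by
      rw [← e1, conj_pow, ← map_pow, pow_orderOf_eq_one, map_one, mul_one, mul_inv_cancel]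
    rw [(show Commute (ρ w) (ρ k) from hwc k).mul_pow, ← map_pow, ← map_pow, pow_orderOf_eq_one, map_one, mul_one,
      map_pow] at e2
    have hw1 : ρ w = 1 := by
      rw [← orderOf_eq_one_iff]
      exact Nat.eq_one_of_dvd_coprimes ((Nat.coprime_two_left.mpr hk).pow_left j)
        (orderOf_dvd_of_pow_eq_one hsplit) (orderOf_dvd_of_pow_eq_one e2)
    rw [hw1, one_mul, mul_inv_eq_iff_eq_mul] at e1
    exact e1
  have hPv : IsPGroup 2 (zpowers v) := P.isPGroup'.to_le (zpowers_le.mpr hvP)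
  have hlift : ∀ k : G, Odd (orderOf k) → ρ k ∈ (centralizer ({v} : Set G)).map ρ := by
    intro k hk
    have h1 : ρ k ∈ centralizer (((zpowers v).map ρ : Subgroup (G ⧸ O)) : Set (G ⧸ O)) := by
      refine mem_centralizer_iff.mpr ?_
      rintro _ ⟨x, ⟨i, rfl⟩, rfl⟩
      rw [map_zpow]
      exact ((show Commute (ρ v) (ρ k) from hcent k hk).zpow_left i).eq
    rw [← CfsgLib.PLocal.map_centralizer_eq O (Nat.coprime_two_right.mpr hOodd) hPv] at h1
    obtain ⟨c, hc, ec⟩ := h1
    exact ⟨c, mem_centralizer_singleton_iff.mpr ((mem_centralizer_iff.mp hc v (mem_zpowers v)).symm), ec⟩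
  intro a _ b _ oa ob
  have h := hC.map ρ (ρ a) (hlift a oa) (ρ b) (hlift b ob) (oa.of_dvd_nat (orderOf_map_dvd ρ a))
    (ob.of_dvd_nat (orderOf_map_dvd ρ b))
  rw [← map_mul] at h
  obtain ⟨r, hr⟩ : ∃ r, r = orderOf (ρ (a * b)) := ⟨_, rfl⟩
  rw [← hr] at h
  have hmem : (a * b) ^ r ∈ O := by
    rw [← QuotientGroup.eq_one_iff]
    show ρ _ = 1
    rw [map_pow, hr, pow_orderOf_eq_one]
  have h2' := (mem_oddPart.mp hmem).2
  refine (h.mul h2').of_dvd_nat (orderOf_dvd_of_pow_eq_one ?_)
  rw [pow_mul, pow_orderOf_eq_one]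

end CfsgHSSylow
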