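import Cfsg.Agent.Lib.HSSylow.Auto
import Cfsg.Agent.Lib.HSSylow.FactsC
import Cfsg.Agent.Lib.HSSylow.FactsD
import Cfsg.Agent.Lib.HSSylow.LocalChecks
import Cfsg.Agent.Lib.HSSylow.OddClosed

/-!
Fusion inside the centralizer of the central involution, and the centralizers of pairs of involutions.
-/

set_option autoImplicit false

namespace CfsgHSSylow

open Subgroup

attribute [local irreducible] mulS invS labS conS inB bitsA bitsV bitsR bitsE cent2

theorem sq_sq : ((List.range 64).all fun x => Nat.beq (mulS (mulS x x) (mulS x x)) 0) = true := by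
  with_unfolding_all decide +kernel

namespace Setup

variable {G : Type*} [Group G] {K : Setup G}

/-- The centralizer of the central involution. -/
abbrev CZ (K : Setup G) : Subgroup G := centralizer ({K.z} : Set G)

theorem mem_CZ {g : G} : g ∈ K.CZ ↔ Commute g K.z := by
  rw [mem_centralizer_singleton_iff]; rfl

theorem CZ_comm : ∀ h ∈ K.CZ, Commute h K.z := fun _ h => mem_CZ.mp h

theorem S_le_CZ : (K.S : Subgroup G) ≤ K.CZ := fun _ hs => mem_CZ.mpr (K.z_comm hs)

theorem lab_rp {a : ℕ} (ha : a < 16) : labS (rp a) = a := by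
  have h := List.all_eq_true.mp lab_reps a (List.mem_range.mpr ha)
  simp only [Bool.and_eq_true, Nat.beq_eq] at h
  exact h.1.1.1

theorem rel_CZ_eight {a : ℕ} (ha : a < 9) (h : Rel K.ι K.CZ a 8) : a = 8 := by
  obtain ⟨g, hg, e⟩ := h
  rw [K.e_rp8] at e
  have h1 : g * K.ι.e (rp a) * g⁻¹ = g * K.z * g⁻¹ := by
    rw [e, (CZ_comm g hg).eq, mul_inv_cancel_right]
  have h2 := K.ι.inj (rp_lt a) (by norm_num) ((MulAut.conj g).injective h1)
  rw [← lab_rp (a := a) (by omega), h2, ← z_central.2.1, lab_rp (by norm_num)]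

theorem card_rp {a : ℕ} (ha : a < 16) :
    cCard (rp a) = [256, 64, 32, 32, 32, 32, 64, 128, 512, 256, 256, 128, 32, 32, 64, 64].getD a 0 := by
  rw [← card_reps, List.getD_eq_getElem _ _ (by simpa using ha)]
  simp

theorem card_le_of_rel {H : Subgroup G} (hS : (K.S : Subgroup G) ≤ H) {a b : ℕ} (hr : Rel K.ι H a b)
    (he : K.Ext H (K.ι.e (rp b))) : cCard (rp a) ≤ cCard (rp b) := by
  obtain ⟨g, hg, e⟩ := hr
  obtain ⟨g', -, hs⟩ := sends_of_ext (K := K) hS (rp_lt a) (rp_lt b) hg e he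
  exact card_le_of_sends hs

theorem mem_V_of_three {g : G} (h2 : Commute g (K.ι.e 2)) (h8 : Commute g (K.ι.e 8)) (h34 : Commute g K.z) :
    ∀ v ∈ K.Vsub, Commute g v := by
  have hone : Commute g (K.ι.e 0) := by rw [K.ι.map_zero]; exact Commute.one_right g
  have hsel : ∀ (t : ℕ) (p : Prop) [Decidable p], Commute g (K.ι.e t) → Commute g (K.ι.e (if p then 0 else t)) := by
    intro t p _ h
    split_ifs <;> assumption
  have h32 : Commute g (K.ι.e 32) := by
    rw [← pair_codes.2.2.2.2.2.1, K.ι.map_mul (by norm_num) (by norm_num)]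
    exact h2.mul_right h34
  rintro _ ⟨x, hx, hT, rfl⟩
  have hlt : ∀ (t : ℕ) (p : Prop) [Decidable p], t < 512 → (if p then 0 else t) < 512 := fun t p _ h => by
    split_ifs <;> omega
  rw [vec_span x (V_cases hx hT), K.ι.map_mul (mulS_lt _ _) (hlt 32 _ (by norm_num)),
    K.ι.map_mul (hlt 2 _ (by norm_num)) (hlt 8 _ (by norm_num))]
  exact ((hsel 2 _ h2).mul_right (hsel 8 _ h8)).mul_right (hsel 32 _ h32)

variable [Finite G]

/-- The Sylow subgroup of the centralizer of an extremal element. -/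
theorem exists_sylow_of_ext {H : Subgroup G} (hS : (K.S : Subgroup G) ≤ H) {v : G} (hext : K.Ext H v) :
    ∃ P : Sylow 2 ↥(H ⊓ centralizer ({v} : Set G)),
      ∀ x : ↥(H ⊓ centralizer ({v} : Set G)), x ∈ (P : Subgroup _) ↔ (x : G) ∈ (K.S : Subgroup G) := by
  set C := H ⊓ centralizer ({v} : Set G) with hC
  set T : Subgroup C := (K.S : Subgroup G).subgroupOf C
  have hT : IsPGroup 2 T := by
    have h1 : IsPGroup 2 (T.map C.subtype) :=
      K.S.isPGroup'.to_le (by rintro _ ⟨x, hx, rfl⟩; exact hx)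
    exact h1.of_equiv (T.equivMapOfInjective C.subtype C.subtype_injective).symm
  obtain ⟨R, hR⟩ := hT.exists_le_sylow
  obtain ⟨c, hc, hcv, hin⟩ := hext ((R : Subgroup C).map C.subtype) (R.isPGroup'.map _)
    ((map_subtype_le _).trans inf_le_left) (by
      rintro _ ⟨x, -, rfl⟩
      exact mem_centralizer_singleton_iff.mp x.2.2)
  have hcC : c ∈ C := ⟨hc, mem_centralizer_singleton_iff.mpr hcv⟩
  have hle : (R : Subgroup C).map (MulAut.conj (⟨c, hcC⟩ : C)).toMonoidHom ≤ T := by
    rintro _ ⟨x, hx, rfl⟩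
    exact mem_subgroupOf.mpr (hin _ ⟨x, hx, rfl⟩)
  have heq : (R : Subgroup C) = T := by
    refine (eq_of_le_of_card_ge hR ?_).symm
    rw [Nat.card_congr ((R : Subgroup C).equivMapOfInjective (MulAut.conj (⟨c, hcC⟩ : C)).toMonoidHom (MulAut.conj (⟨c, hcC⟩ : C)).injective).toEquiv]
    exact card_le_of_le hle
  exact ⟨R, fun x => by rw [heq]; exact mem_subgroupOf⟩

/-- The centralizer of the layer. -/
theorem oddClosed_CV : OddClosed (centralizer (K.Vsub : Set G)) ∧
    ∀ Q : Subgroup G, IsPGroup 2 Q → Q ≤ centralizer (K.Vsub : Set G) → ∀ a ∈ Q, ∀ b ∈ Q, Commute a b := by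
  haveI : _root_.Fact (Nat.Prime 2) := ⟨Nat.prime_two⟩
  set C := centralizer (K.Vsub : Set G) with hC
  have hCN : C ≤ K.NV := fun g hg => mem_normalizer_iff.mpr fun v => ⟨fun hv => by
    rw [(mem_centralizer_iff.mp hg v hv).symm, mul_inv_cancel_right]; exact hv, fun hv => by
    have := mem_centralizer_iff.mp hg _ hv
    have e : v = g * v * g⁻¹ := by
      calc v = g⁻¹ * (g * v * g⁻¹) * g := by group
        _ = g⁻¹ * ((g * v * g⁻¹) * g) := by group
        _ = g⁻¹ * (g * (g * v * g⁻¹)) := by rw [this]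
        _ = _ := by group
    rwa [e]⟩
  have hAC : K.Asub ≤ C := fun a ha => mem_centralizer_iff.mpr fun v hv => (A_commute (V_le_A hv) ha).eq
  -- moving 2-subgroups into A
  have hmove : ∀ Q : Subgroup G, IsPGroup 2 Q → Q ≤ C → ∃ n ∈ K.NV, ∀ q ∈ Q, n * q * n⁻¹ ∈ K.Asub := by
    intro Q hQ hQC
    obtain ⟨R, hR⟩ := (hQ.of_equiv (subgroupOfEquivOfLe (hQC.trans hCN)).symm).exists_le_sylow
    obtain ⟨n, hn⟩ := MulAction.exists_smul_eq K.NV R (K.S.subtype S_le_normalizer_V)
    refine ⟨n, n.2, fun q hq => ?_⟩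
    have h2 : n * ⟨q, hCN (hQC hq)⟩ * n⁻¹ ∈ ((n • R : Sylow 2 K.NV) : Subgroup K.NV) := by
      rw [Sylow.smul_def, Sylow.pointwise_smul_def]
      exact ⟨_, hR (mem_subgroupOf.mpr hq), rfl⟩
    rw [hn] at h2
    refine mem_A_of_centralizes h2 fun v hv => ?_
    have hv' : (n : G)⁻¹ * v * n ∈ K.Vsub := by
      have := (mem_normalizer_iff.mp (inv_mem n.2) v).mp hv
      simpa using this
    have := (show Commute q ((n : G)⁻¹ * v * n) from (mem_centralizer_iff.mp (hQC hq) _ hv').symm).map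
      (MulAut.conj (n : G)).toMonoidHom
    simpa [mul_assoc] using this
  have hab : ∀ Q : Subgroup G, IsPGroup 2 Q → Q ≤ C → ∀ a ∈ Q, ∀ b ∈ Q, Commute a b := by
    intro Q hQ hQC a ha b hb
    obtain ⟨n, -, hn⟩ := hmove Q hQ hQC
    exact (MulAut.conj n).injective (by
      rw [map_mul, map_mul]; exact (A_commute (hn a ha) (hn b hb)).eq)
  refine ⟨?_, hab⟩
  set AC := K.Asub.subgroupOf C
  have hA2 : IsPGroup 2 AC :=
    (K.S.isPGroup'.to_le sub_le).of_equiv (subgroupOfEquivOfLe hAC).symm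
  obtain ⟨P, hP⟩ := hA2.exists_le_sylow
  have hPA : (P : Subgroup C) = AC := by
    refine (eq_of_le_of_card_ge hP ?_).symm
    obtain ⟨n, -, hn⟩ := hmove _ (P.isPGroup'.map C.subtype) (map_subtype_le _)
    rw [Nat.card_congr (subgroupOfEquivOfLe hAC).toEquiv, ← card_map_of_injective C.subtype_injective,
      Nat.card_congr (((P : Subgroup C).map C.subtype).equivMapOfInjective (MulAut.conj n).toMonoidHom (MulAut.conj n).injective).toEquiv]
    exact card_le_of_le (by rintro _ ⟨q, hq, rfl⟩; exact hn q hq)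
  have htop := oddClosed_of_burnside (G := C) P (by
    intro x hx
    rw [mem_centralizer_iff]
    suffices hsuf : ∀ a ∈ (P : Subgroup C), Commute x a by exact fun a ha => (hsuf a ha).eq.symm
    obtain ⟨k, m, hm, e⟩ := Nat.exists_eq_two_pow_mul_odd (orderOf_pos x).ne'
    intro a ha
    -- the 2-part
    have h2 : Commute (x ^ m) a := by
      have hpow : IsPGroup 2 (zpowers (x ^ m)) := by
        refine IsPGroup.of_card (n := (2 ^ k).factorization 2) ?_
        have hd : orderOf (x ^ m) ∣ 2 ^ k := orderOf_dvd_of_pow_eq_one (by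
          rw [← pow_mul, mul_comm, ← e, pow_orderOf_eq_one])
        rw [Nat.card_zpowers, Nat.Prime.factorization_pow Nat.prime_two, Finsupp.single_eq_same]
        have hm' : orderOf (x ^ m) = 2 ^ k := by
          rw [orderOf_pow' _ hm.pos.ne', e, Nat.gcd_mul_left_left, Nat.mul_div_cancel _ hm.pos]
        exact hm'
      have hsup : IsPGroup 2 ↥(zpowers (x ^ m) ⊔ (P : Subgroup C)) :=
        hpow.to_sup_of_normal_right' P.isPGroup' (zpowers_le.mpr (pow_mem hx m))
      have := P.3 hsup le_sup_right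
      have hxP : x ^ m ∈ (P : Subgroup C) := this ▸ mem_sup_left (mem_zpowers _)
      rw [hPA] at hxP ha
      exact Subtype.ext (A_commute (mem_subgroupOf.mp hxP) (mem_subgroupOf.mp ha)).eq
    -- the odd part
    have h1 : Commute (x ^ 2 ^ k) a := by
      obtain ⟨y, hy⟩ : ∃ y, y = x ^ 2 ^ k := ⟨_, rfl⟩
      have hyN : y ∈ normalizer ((P : Subgroup C) : Set C) := hy ▸ pow_mem hx _
      have hyo : (y : G) ^ m = 1 := by
        rw [← SubmonoidClass.coe_pow, hy, ← pow_mul, ← e, pow_orderOf_eq_one, OneMemClass.coe_one]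
      rw [← hy]
      rw [hPA] at ha
      have haA : (a : G) ∈ K.Asub := mem_subgroupOf.mp ha
      have hw : (y : G) * a * (y : G)⁻¹ ∈ K.Asub := by
        have := (mem_normalizer_iff.mp hyN a).mp (by rw [hPA]; exact ha)
        rw [hPA, mem_subgroupOf] at this
        exact this
      obtain ⟨w, hwdef⟩ : ∃ w, w = (y : G) * a * (y : G)⁻¹ * (a : G)⁻¹ := ⟨_, rfl⟩
      have hwA : w ∈ K.Asub := hwdef ▸ mul_mem hw (inv_mem haA)
      have ha2 : (a : G) * a ∈ K.Vsub := by
        obtain ⟨p, hp, hT, ep⟩ := haA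
        rw [← ep, ← K.ι.map_mul hp hp]
        have hpA := (A_iff hp).1.mp hT
        refine (e_mem_sub (mulS_lt _ _)).mpr ((A_iff (mulS_lt _ _)).2.1.mpr ⟨?_, ?_⟩)
        · refine (A_iff (mulS_lt _ _)).1.mp ((closed_spec closedA).2.2 p hp hT p hp hT)
        · exact Nat.eq_of_beq_eq_true (List.all_eq_true.mp sq_sq p (List.mem_range.mpr hpA))
      have hw2 : w * w = 1 := by
        have hc : (y : G) * ((a : G) * a) * (y : G)⁻¹ = (a : G) * a := by
          rw [(mem_centralizer_iff.mp y.2 _ ha2).symm, mul_inv_cancel_right]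
        have hwa : (y : G) * a * (y : G)⁻¹ = w * a := by rw [hwdef]; group
        rw [← conj_mul, hwa] at hc
        have hcomm := (A_commute hwA haA).eq
        calc w * w = w * a * (w * a) * ((a : G) * a)⁻¹ := by
              rw [show w * (a : G) * (w * a) = w * (a * w) * a by group, ← hcomm]; group
          _ = 1 := by rw [hc, mul_inv_cancel]
      have hwV : w ∈ K.Vsub := by
        obtain ⟨p, hp, hT, ep⟩ := hwA
        rw [← ep] at hw2 ⊢
        rw [← K.ι.map_mul hp hp, ← K.ι.map_zero] at hw2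
        exact (e_mem_sub hp).mpr ((A_iff hp).2.1.mpr ⟨(A_iff hp).1.mp hT, K.ι.inj (mulS_lt _ _) (by norm_num) hw2⟩)
      have hyw : Commute (y : G) w := (mem_centralizer_iff.mp y.2 _ hwV).symm
      have hiter : ∀ n : ℕ, (y : G) ^ n * a * ((y : G) ^ n)⁻¹ = w ^ n * a := by
        intro n
        induction n with
        | zero => simp
        | succ n ih =>
          rw [pow_succ' (y : G), show (y : G) * (y : G) ^ n * a * ((y : G) * (y : G) ^ n)⁻¹ = y * ((y : G) ^ n * a * ((y : G) ^ n)⁻¹) * (y : G)⁻¹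
            by group, ih, ← mul_assoc, (hyw.pow_right n).eq, mul_assoc (w ^ n), mul_assoc (w ^ n),
            show (y : G) * a * (y : G)⁻¹ = w * a by rw [hwdef]; group, ← mul_assoc, ← pow_succ]
      have hwm : w ^ m = 1 := by
        have := hiter m
        rw [hyo] at this
        simpa using this.symm
      have hw1 : w = 1 := by
        obtain ⟨j, hj⟩ := hm
        rw [hj, pow_succ, pow_mul, pow_two, hw2, one_pow, one_mul] at hwm
        exact hwm
      rw [hw1, eq_comm, mul_inv_eq_one, mul_inv_eq_iff_eq_mul] at hwdef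
      exact Subtype.ext hwdef
    have hg : Int.gcd ((2 ^ k : ℕ) : ℤ) (m : ℤ) = 1 := by
      rw [Int.gcd_natCast_natCast]
      exact (Nat.coprime_two_left.mpr hm).pow_left k
    have hb := Int.gcd_eq_gcd_ab ((2 ^ k : ℕ) : ℤ) (m : ℤ)
    rw [hg] at hb
    have : x = (x ^ 2 ^ k) ^ Int.gcdA ((2 ^ k : ℕ) : ℤ) (m : ℤ) * (x ^ m) ^ Int.gcdB ((2 ^ k : ℕ) : ℤ) (m : ℤ) := by
      rw [← zpow_natCast x (2 ^ k), ← zpow_natCast x m, ← zpow_mul, ← zpow_mul, ← zpow_add, ← hb]
      simp
    rw [this]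
    exact (h1.zpow_left _).mul_left (h2.zpow_left _))
  have := htop.map_inj C.subtype_injective
  rwa [← MonoidHom.range_eq_map, range_subtype] at this

/-- An involution isolated modulo the central involution and another one. -/
theorem oddClosed_pair {w u : ℕ} (hw : w < 512) (hu : u < 512) (hww : mulS w w = 0) (huu : mulS u u = 0)
    (hext : K.Ext K.CZ (K.ι.e w)) (hwu : mulS w u = mulS u w) (hu' : u ∉ [0, 34, w, mulS 34 w])
    (hiso : ∀ g : G, g ∈ K.CZ → Commute g (K.ι.e w) → ∀ y < 512, mulS y w = mulS w y →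
      g * K.ι.e u * g⁻¹ = K.ι.e y → ∃ k ∈ [0, 34, w, mulS 34 w], y = mulS k u)
    (hC : OddClosed (K.CZ ⊓ centralizer ({K.ι.e w} : Set G) ⊓ centralizer ({K.ι.e u} : Set G))) :
    OddClosed (K.CZ ⊓ centralizer ({K.ι.e w} : Set G)) := by
  haveI : _root_.Fact (Nat.Prime 2) := ⟨Nat.prime_two⟩
  set C := K.CZ ⊓ centralizer ({K.ι.e w} : Set G) with hCdef
  obtain ⟨P, hP⟩ : ∃ P : Sylow 2 C, ∀ x : C, x ∈ (P : Subgroup C) ↔ (x : G) ∈ (K.S : Subgroup G) :=
    exists_sylow_of_ext (K := K) S_le_CZ hext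
  have h34 : (34 : ℕ) < 512 := by norm_num
  have hzz : K.z * K.z = 1 := by rw [← pow_two, ← K.orderOf_z, pow_orderOf_eq_one]
  have hw2 : K.ι.e w * K.ι.e w = 1 := by rw [← K.ι.map_mul hw hw, hww, K.ι.map_zero]
  have hwz : Commute (K.ι.e w) K.z := K.z_comm (K.e_mem hw)
  let Zg : Subgroup G :=
    { carrier := {g | ∃ k ∈ [0, 34, w, mulS 34 w], K.ι.e k = g}
      one_mem' := ⟨0, by simp, K.ι.map_zero⟩
      mul_mem' := by
        rintro _ _ ⟨a, ha, rfl⟩ ⟨b, hb, rfl⟩
        have key : ∀ g : G, (g = 1 ∨ g = K.z ∨ g = K.ι.e w ∨ g = K.z * K.ι.e w) →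
            ∃ k ∈ [0, 34, w, mulS 34 w], K.ι.e k = g := by
          rintro g (rfl | rfl | rfl | rfl)
          · exact ⟨0, by simp, K.ι.map_zero⟩
          · exact ⟨34, by simp, rfl⟩
          · exact ⟨w, by simp, rfl⟩
          · exact ⟨mulS 34 w, by simp, K.ι.map_mul h34 hw⟩
        have val : ∀ k ∈ [0, 34, w, mulS 34 w],
            K.ι.e k = 1 ∨ K.ι.e k = K.z ∨ K.ι.e k = K.ι.e w ∨ K.ι.e k = K.z * K.ι.e w := by
          intro k hk
          simp only [List.mem_cons, List.not_mem_nil, or_false] at hk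
          rcases hk with rfl | rfl | rfl | rfl
          · exact Or.inl K.ι.map_zero
          · exact Or.inr (Or.inl rfl)
          · exact Or.inr (Or.inr (Or.inl rfl))
          · exact Or.inr (Or.inr (Or.inr (K.ι.map_mul h34 hw)))
        refine key _ ?_
        have e1 : K.ι.e w * K.z = K.z * K.ι.e w := hwz.eq
        have e2 : K.z * (K.z * K.ι.e w) = K.ι.e w := by rw [← mul_assoc, hzz, one_mul]
        have e3 : K.ι.e w * (K.z * K.ι.e w) = K.z := by rw [← mul_assoc, e1, mul_assoc, hw2, mul_one]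
        rcases val a ha with h | h | h | h <;> rcases val b hb with h' | h' | h' | h' <;> rw [h, h'] <;>
          simp [hzz, hw2, e1, e2, e3, mul_assoc]
      inv_mem' := by
        rintro _ ⟨a, ha, rfl⟩
        refine ⟨a, ha, (inv_eq_of_mul_eq_one_right ?_).symm⟩
        simp only [List.mem_cons, List.not_mem_nil, or_false] at ha
        rcases ha with rfl | rfl | rfl | rfl
        · rw [K.ι.map_zero, one_mul]
        · exact hzz
        · exact hw2
        · rw [K.ι.map_mul h34 hw]
          show K.z * K.ι.e w * (K.z * K.ι.e w) = 1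
          rw [mul_assoc, ← mul_assoc (K.ι.e w), hwz.eq, mul_assoc K.z (K.ι.e w), hw2, mul_one, hzz] }
  have hk512 : ∀ k ∈ [0, 34, w, mulS 34 w], k < 512 := by
    intro k hk
    simp only [List.mem_cons, List.not_mem_nil, or_false] at hk
    rcases hk with h | h | h | h <;> rw [h] <;> first | exact hw | exact mulS_lt _ _ | norm_num
  have hZcomm : ∀ g ∈ C, ∀ x ∈ Zg, Commute g x := by
    intro g hg
    rintro _ ⟨k, hk, rfl⟩
    have h1 := mem_CZ.mp hg.1
    have h2 : Commute g (K.ι.e w) := mem_centralizer_singleton_iff.mp hg.2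
    simp only [List.mem_cons, List.not_mem_nil, or_false] at hk
    rcases hk with rfl | rfl | rfl | rfl
    · rw [K.ι.map_zero]; exact Commute.one_right g
    · exact h1
    · exact h2
    · rw [K.ι.map_mul h34 hw]; exact h1.mul_right h2
  have hZS : Zg ≤ (K.S : Subgroup G) := by
    rintro _ ⟨k, hk, rfl⟩
    exact K.e_mem (hk512 k hk)
  have hZC : Zg ≤ C := fun x hx => ⟨S_le_CZ (hZS hx), mem_centralizer_singleton_iff.mpr (by
    obtain ⟨k, hk, rfl⟩ := hx
    exact (hZcomm (K.ι.e w) ⟨S_le_CZ (K.e_mem hw), mem_centralizer_singleton_iff.mpr rfl⟩ _ ⟨k, hk, rfl⟩).eq.symm)⟩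
  have huC : K.ι.e u ∈ C := ⟨S_le_CZ (K.e_mem hu), mem_centralizer_singleton_iff.mpr
    ((K.ι.commute_iff hu hw).mpr hwu.symm).eq⟩
  have htop := oddClosed_of_isolated (G := C) P (Z := Zg.subgroupOf C)
    (fun x hx => mem_center_iff.mpr fun g => Subtype.ext (hZcomm g g.2 _ hx).eq)
    ((K.S.isPGroup'.to_le hZS).of_equiv (subgroupOfEquivOfLe hZC).symm)
    (v := ⟨K.ι.e u, huC⟩)
    (Subtype.ext (by show K.ι.e u * K.ι.e u = 1; rw [← K.ι.map_mul hu hu, huu, K.ι.map_zero]))
    ((hP _).mpr (K.e_mem hu))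
    (fun h => by
      obtain ⟨k, hk, e⟩ := mem_subgroupOf.mp h
      exact hu' (K.ι.inj (hk512 k hk) hu e ▸ hk))
    (fun g hg => by
      have hgS := (hP _).mp hg
      obtain ⟨y, hy, ey⟩ := K.exists_code hgS
      have hyC : Commute (K.ι.e y) (K.ι.e w) := by
        rw [ey]; exact mem_centralizer_singleton_iff.mp (g * ⟨K.ι.e u, huC⟩ * g⁻¹).2.2
      obtain ⟨k, hk, rfl⟩ := hiso g g.2.1 (mem_centralizer_singleton_iff.mp g.2.2) y hy
        ((K.ι.commute_iff hy hw).mp hyC) ey.symm
      refine mem_subgroupOf.mpr ⟨k, hk, ?_⟩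
      rw [K.ι.map_mul (hk512 k hk) hu] at ey
      show K.ι.e k = (g : G) * K.ι.e u * (g : G)⁻¹ * (K.ι.e u)⁻¹
      simp only [Subgroup.coe_mul, Subgroup.coe_inv] at ey
      rw [← ey, mul_inv_cancel_right])
    (by
      intro a ha b hb oa ob
      have mk : ∀ c : C, c ∈ centralizer ({(⟨K.ι.e u, huC⟩ : C)} : Set C) →
          (c : G) ∈ C ⊓ centralizer ({K.ι.e u} : Set G) := fun c hc =>
        ⟨c.2, mem_centralizer_singleton_iff.mpr (congrArg Subtype.val (mem_centralizer_singleton_iff.mp hc))⟩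
      have h := hC a (mk a ha) b (mk b hb) (by rwa [orderOf_coe]) (by rwa [orderOf_coe])
      rw [← Subgroup.coe_mul, orderOf_coe] at h
      exact h)
  have := htop.map_inj C.subtype_injective
  rwa [← MonoidHom.range_eq_map, range_subtype] at this

variable [IsSimpleGroup G] (hc : Classes K)

include hc

theorem xr70 : Rel K.ι K.CZ 7 0 := by
  obtain ⟨g, -, hgz, hg⟩ := exists_fix_move hc
  exact Rel.symm ⟨g, mem_CZ.mpr (mul_inv_eq_iff_eq_mul.mp hgz), hg⟩

omit hc in
theorem not_rel_top_one {a : ℕ} (hc : Classes K) (ha : a ∈ [0, 7, 8]) (b : ℕ) (hb : b ∈ [1, 2, 3]) :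
    ¬ Rel K.ι ⊤ a b := by
  intro h
  have h1 : Rel K.ι ⊤ b 1 := by
    simp only [List.mem_cons, List.not_mem_nil, or_false] at hb
    rcases hb with rfl | rfl | rfl
    · exact Rel.refl _
    · exact hc.r12.symm
    · exact hc.r13.symm
  refine hc.n18 ((h.trans h1).symm.trans ?_)
  simp only [List.mem_cons, List.not_mem_nil, or_false] at ha
  rcases ha with rfl | rfl | rfl
  · exact hc.r08
  · exact hc.r78
  · exact Rel.refl _

omit hc in
theorem not_rel_top_six {a : ℕ} (hc : Classes K) (ha : a ∈ [4, 5, 6]) (b : ℕ) (hb : b ∈ [1, 2, 3]) :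
    ¬ Rel K.ι ⊤ a b := by
  intro h
  have h1 : Rel K.ι ⊤ b 1 := by
    simp only [List.mem_cons, List.not_mem_nil, or_false] at hb
    rcases hb with rfl | rfl | rfl
    · exact Rel.refl _
    · exact hc.r12.symm
    · exact hc.r13.symm
  refine hc.n16 ((h.trans h1).symm.trans ?_)
  simp only [List.mem_cons, List.not_mem_nil, or_false] at ha
  rcases ha with rfl | rfl | rfl
  · exact hc.r46
  · exact hc.r56
  · exact Rel.refl _

/-- The four classes are closed in the centralizer of the central involution. -/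
theorem closed_CZ {a b : ℕ} (ha : a ∈ [0, 5, 6, 7]) (hb : b < 9) (h : Rel K.ι K.CZ a b) : b ∈ [0, 5, 6, 7] := by
  have ha9 : a < 9 := by simp at ha; omega
  have htop : ∀ {c d : ℕ}, Rel K.ι K.CZ c d → Rel K.ι ⊤ c d := fun h => h.mono le_top
  have hn : b ∉ [1, 2, 3] := by
    intro hb'
    simp only [List.mem_cons, List.not_mem_nil, or_false] at ha
    rcases ha with rfl | rfl | rfl | rfl
    · exact not_rel_top_one hc (by simp) b hb' (htop h)
    · exact not_rel_top_six hc (by simp) b hb' (htop h)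
    · exact not_rel_top_six hc (by simp) b hb' (htop h)
    · exact not_rel_top_one hc (by simp) b hb' (htop h)
  have h8 : b ≠ 8 := fun e => by
    subst e
    have := rel_CZ_eight ha9 h
    simp [this] at ha
  have h4 : b ≠ 4 := by
    rintro rfl
    obtain ⟨e, he9, hre, hee⟩ := ext_label (K := K) (H := K.CZ) S_le_CZ (a := 4) (by norm_num)
    have hz1 : ∀ {F : Srch}, F.gs.getD 1 0 = 34 → ∀ {y : ℕ}, F.fi = [y, 34] → ∀ g ∈ K.CZ,
        g * K.ι.e (F.gs.getD 0 0) * g⁻¹ = K.ι.e (F.fi.getD 0 0) → Fits K.ι g F.gs F.fi := by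
      intro F h1 y hy g hg e
      rw [hy] at e ⊢
      exact fits_fixed CZ_comm hg h1 (by simpa using e)
    by_cases he4 : e = 4
    · subst he4
      have hk := card_le_of_rel (K := K) S_le_CZ h hee
      rw [card_rp (by omega : a < 16), card_rp (by norm_num)] at hk
      simp only [List.mem_cons, List.not_mem_nil, or_false] at ha
      rcases ha with rfl | rfl | rfl | rfl <;> simp at hk
      exact none_of x54 S_le_CZ (a := 5) (b := 4) rfl rfl (Nat.zero_lt_succ _) (hz1 rfl rfl) h hee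
    · have hr : Rel K.ι K.CZ a e := h.trans hre
      have hne : e ∉ [1, 2, 3] := by
        intro hb'
        exact not_rel_top_six hc (a := 4) (by simp) e hb' (htop hre)
      have he8 : e ≠ 8 := fun e' => by
        subst e'
        simp [rel_CZ_eight (by norm_num : (4 : ℕ) < 9) hre] at *
      simp only [List.mem_cons, List.not_mem_nil, or_false, not_or] at hne
      interval_cases e
      · exact none_of x40 S_le_CZ (a := 4) (b := 0) rfl rfl (Nat.zero_lt_succ _) (hz1 rfl rfl) hre hee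
      all_goals first | omega | skip
      · exact none_of x45 S_le_CZ (a := 4) (b := 5) rfl rfl (Nat.zero_lt_succ _) (hz1 rfl rfl) hre hee
      · exact none_of x46 S_le_CZ (a := 4) (b := 6) rfl rfl (Nat.zero_lt_succ _) (hz1 rfl rfl) hre hee
      · exact none_of x47 S_le_CZ (a := 4) (b := 7) rfl rfl (Nat.zero_lt_succ _) (hz1 rfl rfl) hre hee
  simp only [List.mem_cons, List.not_mem_nil, or_false] at hn ⊢
  omega

theorem ext0 : K.Ext K.CZ (K.ι.e (rp 0)) := by
  obtain ⟨e, he9, hre, hee⟩ := ext_label (K := K) (H := K.CZ) S_le_CZ (a := 0) (by norm_num)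
  have hk := card_le_of_rel (K := K) S_le_CZ hre hee
  rw [card_rp (by norm_num), card_rp (by omega)] at hk
  have he : e ∈ [0, 5, 6, 7] := closed_CZ hc (by simp) he9 hre
  simp only [List.mem_cons, List.not_mem_nil, or_false] at he
  rcases he with rfl | rfl | rfl | rfl <;> first | exact hee | simp at hk

/-- The centralizer of the central involution and its neighbour in the layer. -/
theorem oddClosed_U : OddClosed (K.CZ ⊓ centralizer ({K.ι.e (rp 0)} : Set G)) := by
  obtain ⟨p0, -, -, p7, -, p32, pv⟩ := pair_codes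
  rw [p0]
  refine oddClosed_pair (w := 2) (u := 8) (by norm_num) (by norm_num) (by with_unfolding_all decide +kernel)
    (by with_unfolding_all decide +kernel) (p0 ▸ ext0 hc) (by with_unfolding_all decide +kernel)
    (by with_unfolding_all decide +kernel) ?_ ?_
  · intro g hg hgw y hy hy2 he
    have hyy : mulS y y = 0 := by
      refine K.ι.inj (mulS_lt _ _) (by norm_num) ?_
      rw [K.ι.map_mul hy hy, ← he, conj_mul, ← K.ι.map_mul (by norm_num) (by norm_num),
        show mulS 8 8 = 0 by with_unfolding_all decide +kernel, K.ι.map_zero, mul_one, mul_inv_cancel]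
    have hy0 : y ≠ 0 := fun h0 => by
      rw [h0, K.ι.map_zero, conj_eq_one_iff, ← K.ι.map_zero] at he
      exact absurd (K.ι.inj (by norm_num) (by norm_num) he) (by norm_num)
    have h := List.all_eq_true.mp isol_pair y (List.mem_range.mpr hy)
    simp only [hyy, hy2, Nat.beq_refl, Bool.not_true, Bool.false_or, Bool.or_eq_true, List.any_eq_true,
      Bool.and_eq_true, Bool.not_eq_true', Nat.beq_eq] at h
    rcases h with (⟨k, hk, hyk⟩ | ⟨k, hk, hl⟩) | ⟨a, ha, hay, b, hb, hby, hab⟩
    · subst hyk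
      have hfix : ∀ {u : ℕ}, u < 512 → Commute g (K.ι.e u) → g * K.ι.e 8 * g⁻¹ = K.ι.e u → u = 8 := by
        intro u hu hcom e
        have : g * K.ι.e 8 * g⁻¹ = g * K.ι.e u * g⁻¹ := by rw [e, hcom.eq, mul_inv_cancel_right]
        exact (K.ι.inj (by norm_num) hu ((MulAut.conj g).injective this)).symm
      have hg34 : Commute g (K.ι.e 34) := mem_CZ.mp hg
      have hg32 : Commute g (K.ι.e 32) := by
        rw [← p32, K.ι.map_mul (by norm_num) (by norm_num)]; exact hgw.mul_right hg34
      simp only [List.map_cons, List.map_nil, List.cons.injEq, and_true] at pv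
      simp only [List.mem_cons, List.not_mem_nil, or_false] at hk
      rcases hk with rfl | rfl | rfl | rfl | rfl | rfl | rfl | rfl
      · exact absurd rfl hy0
      · exact absurd (hfix hy hgw he) (by norm_num)
      · exact absurd (hfix hy hg32 he) (by norm_num)
      · exact absurd (hfix hy hg34 he) (by norm_num)
      · exact ⟨0, by simp, pv.1.symm⟩
      · exact ⟨2, by simp, pv.2.1.symm⟩
      · exact ⟨mulS 34 2, by simp, by
          rw [show mulS 34 2 = 32 by with_unfolding_all decide +kernel]; exact pv.2.2.1.symm⟩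
      · exact ⟨34, by simp, pv.2.2.2.symm⟩
    · exfalso
      have hl16 : labS y < 16 := by rw [hl]; simp at hk; omega
      have := rel_of_conj (ι := K.ι) (H := ⊤) le_top (mem_top g) (u := 8) (by norm_num) hy
        (by rw [← p7, lab_rp (by norm_num)]; norm_num) hl16 he
      rw [← p7, lab_rp (by norm_num)] at this
      exact not_rel_top_one hc (a := 7) (by simp) _ (by rw [hl]; exact hk) this
    · exfalso
      simp only [cent2, List.mem_filter, List.mem_range, Nat.beq_eq] at ha hb
      set Q : Subgroup G := (((K.S : Subgroup G) ⊓ centralizer ({K.ι.e 2} : Set G)) ⊓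
        centralizer ({K.ι.e y} : Set G)).map (MulAut.conj g⁻¹).toMonoidHom
      have hQC : Q ≤ centralizer (K.Vsub : Set G) := by
        rintro _ ⟨q, ⟨⟨hqS, hq2⟩, hqy⟩, rfl⟩
        refine mem_centralizer_iff.mpr fun v hv => (mem_V_of_three ?_ ?_ ?_ v hv).eq.symm
        · have := (show Commute q (K.ι.e 2) from mem_centralizer_singleton_iff.mp hq2).map
            (MulAut.conj g⁻¹).toMonoidHom
          have e2 : g⁻¹ * K.ι.e 2 * g = K.ι.e 2 := by rw [mul_assoc, ← hgw.eq, inv_mul_cancel_left]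
          simpa [e2] using this
        · have := (show Commute q (K.ι.e y) from mem_centralizer_singleton_iff.mp hqy).map
            (MulAut.conj g⁻¹).toMonoidHom
          have e8 : g⁻¹ * K.ι.e y * g = K.ι.e 8 := by rw [← he]; group
          simpa [e8] using this
        · have := (K.z_comm hqS).map (MulAut.conj g⁻¹).toMonoidHom
          have e34 : g⁻¹ * K.z * g = K.z := by rw [mul_assoc, ← (mem_CZ.mp hg).eq, inv_mul_cancel_left]
          simpa [e34] using this
      have hmem : ∀ c < 512, mulS c 2 = mulS 2 c → mulS c y = mulS y c → g⁻¹ * K.ι.e c * g⁻¹⁻¹ ∈ Q := fun c hc512 h1 h2 =>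
        ⟨K.ι.e c, ⟨⟨K.e_mem hc512, mem_centralizer_singleton_iff.mpr ((K.ι.commute_iff hc512 (by norm_num)).mpr h1).eq⟩,
          mem_centralizer_singleton_iff.mpr ((K.ι.commute_iff hc512 hy).mpr h2).eq⟩, rfl⟩
      have hcm := oddClosed_CV.2 Q ((K.S.isPGroup'.to_le (inf_le_left.trans inf_le_left)).map _) hQC _
        (hmem a ha.1 ha.2 hay) _ (hmem b hb.1 hb.2 hby)
      rw [Commute, SemiconjBy, conj_mul, conj_mul] at hcm
      have h2 := (K.ι.commute_iff ha.1 hb.1).mp (mul_left_cancel (mul_right_cancel hcm))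
      simp [h2] at hab
  · refine OddClosed.mono oddClosed_CV.1 fun g hg => mem_centralizer_iff.mpr fun v hv =>
      (mem_V_of_three (mem_centralizer_singleton_iff.mp hg.1.2) (mem_centralizer_singleton_iff.mp hg.2)
        (mem_CZ.mp hg.1.1) v hv).eq.symm

omit hc in
/-- Conjugate centralizers share the property. -/
theorem oddClosed_of_rel {a b : ℕ} (h : Rel K.ι K.CZ a b)
    (ho : OddClosed (K.CZ ⊓ centralizer ({K.ι.e (rp b)} : Set G))) :
    OddClosed (K.CZ ⊓ centralizer ({K.ι.e (rp a)} : Set G)) := by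
  obtain ⟨g, hg, e⟩ := h
  refine (ho.conj g⁻¹).mono fun x hx => ⟨g * x * g⁻¹, ⟨K.CZ.mul_mem (K.CZ.mul_mem hg hx.1) (K.CZ.inv_mem hg), ?_⟩, by simp [mul_assoc]⟩
  refine mem_centralizer_singleton_iff.mpr ?_
  rw [← e]
  exact ((show Commute x (K.ι.e (rp a)) from mem_centralizer_singleton_iff.mp hx.2).map
    (MulAut.conj g).toMonoidHom).eq

/-- When the other classes fuse to the central involution the four classes are one class locally. -/
theorem xr_zero (h68 : Rel K.ι ⊤ 6 8) {a : ℕ} (ha : a ∈ [0, 5, 6, 7]) : Rel K.ι K.CZ a 0 := by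
  have hz : K.Ext ⊤ (K.ι.e (rp 8)) := ext_z le_top
  obtain ⟨h, hh, hh0, hhz⟩ := exists_swap hc
  have key : ∀ {c : ℕ}, (∃ g : G, g * K.ι.e (rp c) * g⁻¹ = K.z ∧ ∃ v < 512, labS v = 0 ∧ g * K.z * g⁻¹ = K.ι.e v) →
      Rel K.ι K.CZ c 0 := by
    rintro c ⟨g, hg, v, hv, hlv, hgz⟩
    obtain ⟨hs, es⟩ := exists_con (ι := K.ι) hv (by omega : labS v < 16)
    rw [hlv] at es
    obtain ⟨s, hs', es'⟩ : ∃ s, Commute s K.z ∧ s * K.ι.e v * s⁻¹ = K.ι.e (rp 0) :=
      ⟨(K.ι.e (conS v))⁻¹, (K.z_comm (K.e_mem hs)).inv_left, by rw [← es]; group⟩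
    have a1 : s * g * K.ι.e (rp c) * (s * g)⁻¹ = K.z := by
      rw [show s * g * K.ι.e (rp c) * (s * g)⁻¹ = s * (g * K.ι.e (rp c) * g⁻¹) * s⁻¹ by group, hg, hs'.eq,
        mul_inv_cancel_right]
    have a2 : s * g * K.z * (s * g)⁻¹ = K.ι.e (rp 0) := by
      rw [show s * g * K.z * (s * g)⁻¹ = s * (g * K.z * g⁻¹) * s⁻¹ by group, hgz, es']
    refine ⟨h * (s * g), mem_CZ.mpr (mul_inv_eq_iff_eq_mul.mp ?_), ?_⟩
    · rw [show h * (s * g) * K.z * (h * (s * g))⁻¹ = h * (s * g * K.z * (s * g)⁻¹) * h⁻¹ by group, a2, hh0]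
    · rw [show h * (s * g) * K.ι.e (rp c) * (h * (s * g))⁻¹ = h * (s * g * K.ι.e (rp c) * (s * g)⁻¹) * h⁻¹ by group,
        a1, hhz]
  simp only [List.mem_cons, List.not_mem_nil, or_false] at ha
  rcases ha with rfl | rfl | rfl | rfl
  · exact Rel.refl _
  · refine key ?_
    obtain ⟨-, g, -, im, hQ, h512, hlen, -, hsend, hfit⟩ := some_of f58 le_top (a := 5) (b := 8) rfl rfl
      (Nat.zero_lt_succ _) (fun g _ e => fits_single e) (hc.r56.trans h68) hz
    simp only [lab0, Nat.beq_eq] at hQ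
    refine ⟨g, hsend.1.trans K.e_rp8, _, evS_lt _ _, hQ, ?_⟩
    rw [← evS_conj (gs := f58F.gs) ?_ h512 hfit ?_, f58_zword]
    · rfl
    · with_unfolding_all decide
    · rw [hlen]; with_unfolding_all decide
  · refine key ?_
    obtain ⟨-, g, -, im, hQ, h512, hlen, -, hsend, hfit⟩ := some_of f68 le_top (a := 6) (b := 8) rfl rfl
      (Nat.zero_lt_succ _) (fun g _ e => fits_single e) h68 hz
    simp only [lab0, Nat.beq_eq] at hQ
    refine ⟨g, hsend.1.trans K.e_rp8, _, evS_lt _ _, hQ, ?_⟩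
    rw [← evS_conj (gs := f68F.gs) ?_ h512 hfit ?_, f68_zword]
    · rfl
    · with_unfolding_all decide
    · rw [hlen]; with_unfolding_all decide
  · exact xr70 hc

/-- The centralizers of the involutions of the four classes in the centralizer of the central involution. -/
theorem oddClosed_four {a : ℕ} (ha : a ∈ [0, 5, 6, 7]) :
    OddClosed (K.CZ ⊓ centralizer ({K.ι.e (rp a)} : Set G)) := by
  by_cases h68 : Rel K.ι ⊤ 6 8
  · exact oddClosed_of_rel (xr_zero hc h68 ha) (oddClosed_U hc)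
  obtain ⟨p0, p5, p6, p7, -, -, -⟩ := pair_codes
  have h07 : ∀ c ∈ [0, 7], OddClosed (K.CZ ⊓ centralizer ({K.ι.e (rp c)} : Set G)) := by
    intro c hc'
    simp only [List.mem_cons, List.not_mem_nil, or_false] at hc'
    rcases hc' with rfl | rfl
    · exact oddClosed_U hc
    · exact oddClosed_of_rel (xr70 hc) (oddClosed_U hc)
  have ha9 : a < 9 := by simp at ha; omega
  obtain ⟨e, he9, hre, hee⟩ := ext_label (K := K) (H := K.CZ) S_le_CZ ha9
  refine oddClosed_of_rel hre ?_
  have he := closed_CZ hc ha he9 hre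
  have hgood : ∀ {y : ℕ}, y < 512 → ∀ {g : G}, g ∈ K.CZ → ∀ {c : ℕ}, c ∈ [0, 7] →
      g * K.ι.e (rp c) * g⁻¹ = K.ι.e y → (Nat.beq (labS y) 0 || Nat.beq (labS y) 7) = true := by
    intro y hy g hg c hc' e
    have hc9 : c < 9 := by simp at hc'; omega
    have ho : orderOf (K.ι.e y) = 2 := by rw [← e]; exact ((MulAut.conj g).orderOf_eq _).trans (K.orderOf_rp hc9)
    have hy0 : y ≠ 0 := fun h => by simp [h, K.ι.map_zero] at ho
    have hyy : mulS y y = 0 := K.ι.inj (mulS_lt _ _) (by norm_num) (by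
      rw [K.ι.map_mul hy hy, K.ι.map_zero, ← pow_two, ← ho, pow_orderOf_eq_one])
    have h := List.all_eq_true.mp lab_inv.1 y (List.mem_range.mpr hy)
    simp only [Bool.or_eq_true, Nat.beq_eq, Bool.not_eq_true', Nat.blt_eq] at h
    have hl : labS y < 9 := by
      rcases h with (h | h) | h
      · exact absurd h hy0
      · simp [hyy] at h
      · exact h
    have hr := rel_of_conj (ι := K.ι) (H := K.CZ) (K.range_eq ▸ S_le_CZ) hg (rp_lt c) hy
      (by rw [lab_rp (by omega)]; omega) (by omega) e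
    rw [lab_rp (by omega)] at hr
    have hm := closed_CZ hc (by simp at hc' ⊢; omega) hl hr
    have hc8 : Rel K.ι ⊤ c 8 := by
      simp only [List.mem_cons, List.not_mem_nil, or_false] at hc'
      rcases hc' with rfl | rfl
      · exact hc.r08
      · exact hc.r78
    simp only [List.mem_cons, List.not_mem_nil, or_false] at hm
    rcases hm with h | h | h | h <;> rw [h] at hr ⊢
    · rfl
    · exact absurd ((hc.r56.symm.trans (hr.symm.mono le_top)).trans hc8) h68
    · exact absurd ((hr.symm.mono le_top).trans hc8) h68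
    · rfl
  simp only [List.mem_cons, List.not_mem_nil, or_false] at he
  rcases he with rfl | rfl | rfl | rfl
  · exact h07 0 (by simp)
  · rw [p5] at hee ⊢
    refine oddClosed_pair (w := 64) (u := 8) (by norm_num) (by norm_num) (by with_unfolding_all decide +kernel)
      (by with_unfolding_all decide +kernel) hee isol_five.2.1 (by with_unfolding_all decide +kernel) ?_ ?_
    · intro g hg _ y hy hyw e
      have h := List.all_eq_true.mp isol_five.1 y (List.mem_range.mpr hy)
      simp only [hyw, Nat.beq_refl, Bool.not_true, Bool.false_or, hgood hy hg (c := 7) (by simp) (p7 ▸ e),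
        List.any_eq_true, Nat.beq_eq] at h
      exact h
    · refine (h07 7 (by simp)).mono fun x hx => ⟨hx.1.1, p7 ▸ hx.2⟩
  · rw [p6] at hee ⊢
    refine oddClosed_pair (w := 256) (u := 2) (by norm_num) (by norm_num) (by with_unfolding_all decide +kernel)
      (by with_unfolding_all decide +kernel) hee isol_six.2.1 (by with_unfolding_all decide +kernel) ?_ ?_
    · intro g hg _ y hy hyw e
      have h := List.all_eq_true.mp isol_six.1 y (List.mem_range.mpr hy)
      simp only [hyw, Nat.beq_refl, Bool.not_true, Bool.false_or, hgood hy hg (c := 0) (by simp) (p0 ▸ e),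
        List.any_eq_true, Nat.beq_eq] at h
      exact h
    · refine (h07 0 (by simp)).mono fun x hx => ⟨hx.1.1, p0 ▸ hx.2⟩
  · exact h07 7 (by simp)

end Setup

end CfsgHSSylow
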