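import Cfsg.Agent.Lib.HSType.ModelChecks
import Cfsg.Agent.Lib.HSSylow.Checks

/-!
Kernel checks of the coded group among the permutations of one hundred points.
-/

set_option autoImplicit false
set_option maxRecDepth 100000
set_option maxHeartbeats 4000000
set_option Elab.async false

namespace CfsgHSSylow

open CfsgHSType (imgCodes wOf permEq)

theorem model_sift : ((List.range 6).all fun k =>
    CfsgPC.sift 100 CfsgLeech.Models.hsChain (imgCodes.getD k 0)) = true := by decide +kernel

theorem model_faith : ((List.range 512).all fun x => Nat.beq x 0 || !(permEq (wOf (dcode x)) [])) = true := by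
  decide +kernel

theorem model_words : ((List.range 512).all fun x => Nat.blt (dcode x) 10752 &&
    (wOf (dcode x)).all fun k => Nat.blt k 6) = true := by decide +kernel

theorem model_cancel : ((List.range 512).all fun x => (List.range 512).all fun y =>
    Nat.beq (mulS (mulS x (invS y)) y) x) = true := by decide +kernel

theorem model_unit : dcode 0 = 0 ∧ ((List.range 512).all fun v => Nat.beq (mulF 0 v) v) = true := by decide +kernel

end CfsgHSSylow
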