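import Cfsg.Agent.Lib.HSType.ModelIso
import Cfsg.Agent.Lib.HSSylow.Emb
import Cfsg.Agent.Lib.HSSylow.ModelChecks
import Cfsg.Agent.Lib.HSRecog.Basic

/-!
A Sylow 2-subgroup of the Higman-Sims group is the coded group.
-/

set_option autoImplicit false
set_option maxRecDepth 100000
set_option maxHeartbeats 4000000

namespace CfsgHSSylow

open Equiv
open CfsgAutL34.Enum
open CfsgHSType (evW_flatten_replicate MGens permL hsPerm imgCodes wA2 wA3 vW wOf okPairs relsL permEq pairEq evW_permEq)
open CfsgPC (apW)

attribute [local irreducible] mulS invS act8 lm8 CfsgHSType.actV CfsgHSType.lmul CfsgHSType.linv CfsgHSType.lstep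
  CfsgHSType.vadd imgCodes CfsgLeech.Models.hsChain CfsgLeech.Models.hsRigid CfsgHSType.Tab.lword

/-- The generators of the split extension among the permutations. -/
noncomputable def permGens : MGens (Perm (Fin 100)) :=
  ⟨letG permL 0, evW permL wA2, evW permL wA3, letG permL 2, letG permL 4⟩

theorem permGens_eV (v : ℕ) : permGens.eV v = evW permL (vW v) := by
  rw [MGens.eV, vW, evW_append, evW_append, evW_flatten_replicate, evW_flatten_replicate]
  congr 2
  simp [permGens, evW, List.map_replicate, List.prod_replicate]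

theorem permGens_ok : permGens.Ok := by
  have h := List.all_eq_true.mp CfsgHSType.perm_pairs
  have e : ∀ p ∈ okPairs, evW permL p.1 = evW permL p.2 := fun p hp => by
    have hp' := h p hp
    simp only [pairEq, Bool.and_eq_true, List.all_eq_true, Nat.blt_eq] at hp'
    exact evW_permEq (fun k hk => (hp'.1.1.1 k hk).trans (by norm_num))
      (fun k hk => (hp'.1.1.2 k hk).trans (by norm_num)) hp'.2
  simp only [okPairs, List.mem_append, List.mem_cons, List.mem_map, List.not_mem_nil, or_false, forall_eq_or_imp,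
    or_imp, forall_and, forall_eq, forall_exists_index, and_imp, forall_apply_eq_imp_iff₂] at e
  obtain ⟨⟨e1, e2, e3, e4, e5, e6, e7, e8, e9, e10, e11, e12⟩, erel⟩ := e
  simp only [evW_append, evW_flatten_replicate] at e1 e2 e3 e5 e6 e7 e8 e9 e10 e11 e12
  simp only [evW_one, evW_nil] at e1 e2 e5 e6 e7 e8 e9 e10 e11 e12
  have hflip : ∀ x, letG permL (2 * x + 1) = (letG permL (2 * x))⁻¹ := fun x => by
    rw [← letG_flip]; simp [flipL]
  have h3 := hflip 1
  have h5 := hflip 2
  norm_num at h3 h5
  rw [h3] at e7 e8 e9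
  rw [h5] at e10 e11 e12
  refine ⟨⟨e1, e2, e3, ?_, e5, e6⟩, ?_, ?_, ?_, ?_, ?_, ?_, ?_⟩
  · simpa [permGens, evW, pow_succ, mul_assoc] using e4
  all_goals try rw [permGens_eV]
  · exact e7
  · exact e8
  · exact e9
  · exact e10
  · exact e11
  · exact e12
  · intro w hw
    have hr := erel w hw
    rw [evW_nil] at hr
    refine Eq.trans ?_ hr
    have hw4 : ∀ x ∈ w, x < 4 := by
      have : ∀ v ∈ relsL, ∀ x ∈ v, x < 4 := by with_unfolding_all decide
      exact this w hw
    clear hw hr
    induction w with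
    | nil => rfl
    | cons x w ih =>
      rw [List.map_cons, evW_cons, evW_cons, ih fun y hy => hw4 y (List.mem_cons_of_mem _ hy)]
      have hx := hw4 x List.mem_cons_self
      congr 1
      interval_cases x <;> simp [permGens, letG, permL, List.range_succ]

theorem permGens_toM {x : ℕ} (hx : x < 10752) : permGens.toM x = evW permL (wOf x) := by
  rw [MGens.toM, wOf, evW_append, ← permGens_eV, MGens.sig]
  congr 1
  have hl := List.all_eq_true.mp CfsgHSType.perm_words (x / 64) (List.mem_range.2 (by omega))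
  generalize CfsgHSType.Tab.lword.getD (x / 64) [] = w at hl
  simp only [List.all_eq_true, Nat.blt_eq] at hl
  induction w with
  | nil => rfl
  | cons k w ih =>
    rw [List.map_cons, evW_cons, evW_cons, ih fun y hy => hl y (List.mem_cons_of_mem _ hy)]
    have hk := hl k List.mem_cons_self
    congr 1
    interval_cases k <;> simp [permGens, letG, permL, List.range_succ]

theorem dcode_lt {x : ℕ} (hx : x < 512) : dcode x < 10752 := by
  have h := List.all_eq_true.mp model_words x (List.mem_range.mpr hx)
  simp only [Bool.and_eq_true, Nat.blt_eq] at h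
  exact h.1

theorem mulS_eq {x y : ℕ} (hx : x < 512) (hy : y < 512) : mulS x y = mulF x y := by
  have key : ∀ {k : ℕ}, ((List.range 128).all fun u => (List.range 512).all fun v =>
      Nat.beq (mulS (k + u) v) (mulF (k + u) v)) = true → k ≤ x → x < k + 128 → mulS x y = mulF x y := by
    intro k h h1 h2
    have := List.all_eq_true.mp (List.all_eq_true.mp h (x - k) (List.mem_range.mpr (by omega))) y (List.mem_range.mpr hy)
    rwa [Nat.add_sub_cancel' h1, Nat.beq_eq] at this
  by_cases h0 : x < 128
  · exact key (k := 0) (by simpa using tab_mul0) (Nat.zero_le _) (by omega)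
  by_cases h1 : x < 256
  · exact key tab_mul1 (by omega) (by omega)
  by_cases h2 : x < 384
  · exact key tab_mul2 (by omega) (by omega)
  exact key tab_mul3 (by omega) (by omega)

theorem lm8_lt (d e : ℕ) : lm8 d e < 8 := by
  with_unfolding_all exact Nat.mod_lt _ (by norm_num)

theorem act8_lt (d v : ℕ) : act8 d v < 64 := by
  with_unfolding_all exact Nat.mod_lt _ (by norm_num)

theorem dcode_mul {x y : ℕ} (hx : x < 512) (hy : y < 512) :
    dcode (mulS x y) = CfsgHSType.mulM (dcode x) (dcode y) := by
  have hd : x / 64 < 8 := by omega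
  have he : y / 64 < 8 := by omega
  have hdl := List.all_eq_true.mp tab_dl.1
  have hd' := hdl _ (List.mem_range.mpr hd)
  have he' := hdl _ (List.mem_range.mpr he)
  simp only [Nat.blt_eq] at hd' he'
  have ha := List.all_eq_true.mp (List.all_eq_true.mp tab_act _ (List.mem_range.mpr hd)) (y % 64)
    (List.mem_range.mpr (by omega))
  have hl := List.all_eq_true.mp (List.all_eq_true.mp tab_lm _ (List.mem_range.mpr hd)) _ (List.mem_range.mpr he)
  have hv := List.all_eq_true.mp (List.all_eq_true.mp tab_vsum (x % 64) (List.mem_range.mpr (by omega)))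
    (act8 (x / 64) (y % 64)) (List.mem_range.mpr (act8_lt _ _))
  simp only [Nat.beq_eq] at ha hl hv
  have hF : mulF x y = CfsgHSType.vadd (x % 64) (act8 (x / 64) (y % 64)) + 64 * lm8 (x / 64) (y / 64) := by
    simp only [mulF, CfsgAutL34.Enum.force_eq]
    rw [← hv]
    rfl
  have hva : CfsgHSType.vadd (x % 64) (act8 (x / 64) (y % 64)) < 64 := by
    with_unfolding_all simp only [CfsgHSType.vadd]
    omega
  rw [mulS_eq hx hy, hF, dcode, CfsgHSType.mulM]
  simp only [CfsgAutL34.Enum.force_eq, dcode]
  rw [ha] at hva ⊢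
  obtain ⟨A, hA⟩ : ∃ A, A = CfsgHSType.vadd (x % 64) (CfsgHSType.actV (dl.getD (x / 64) 0) (y % 64)) := ⟨_, rfl⟩
  rw [← hA] at hva ⊢
  rw [show (A + 64 * lm8 (x / 64) (y / 64)) % 64 = A by omega,
    show (A + 64 * lm8 (x / 64) (y / 64)) / 64 = lm8 (x / 64) (y / 64) by omega, hl,
    show (x % 64 + 64 * dl.getD (x / 64) 0) / 64 = dl.getD (x / 64) 0 by omega,
    show (y % 64 + 64 * dl.getD (y / 64) 0) / 64 = dl.getD (y / 64) 0 by omega,
    show (x % 64 + 64 * dl.getD (x / 64) 0) % 64 = x % 64 by omega,
    show (y % 64 + 64 * dl.getD (y / 64) 0) % 64 = y % 64 by omega, ← hA]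

/-- The coded group among the permutations. -/
noncomputable def permEmb : Emb (Perm (Fin 100)) where
  e x := permGens.toM (dcode x)
  map_mul {x y} hx hy := by
    rw [dcode_mul hx hy, MGens.toM_mul permGens_ok (dcode_lt hx) (dcode_lt hy)]
  inj {x y} hx hy h := by
    have hm := fun {a b : ℕ} (ha : a < 512) (hb : b < 512) => show permGens.toM (dcode (mulS a b)) = _ by
      rw [dcode_mul ha hb, MGens.toM_mul permGens_ok (dcode_lt ha) (dcode_lt hb)]
    have h0 : permGens.toM (dcode 0) = 1 := by
      rw [model_unit.1, MGens.toM_zero permGens_ok]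
    have hiy : invS y < 512 := invS_lt y
    have hinv := List.all_eq_true.mp tab_inv y (List.mem_range.mpr hy)
    simp only [Bool.and_eq_true, Nat.beq_eq] at hinv
    have hc := List.all_eq_true.mp (List.all_eq_true.mp model_cancel x (List.mem_range.mpr hx)) y (List.mem_range.mpr hy)
    rw [Nat.beq_eq] at hc
    obtain ⟨w, hw, ew⟩ : ∃ w < 512, w = mulS x (invS y) := ⟨_, mulS_lt _ _, rfl⟩
    have e1 : permGens.toM (dcode w) = 1 := by
      rw [ew, hm hx hiy, h, ← hm hy hiy, hinv.2, h0]
    have hf := List.all_eq_true.mp model_faith w (List.mem_range.mpr hw)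
    simp only [Bool.or_eq_true, Nat.beq_eq, Bool.not_eq_true'] at hf
    rcases hf with hf | hf
    · rw [← hc, ← ew, hf, mulS_eq (by norm_num) hy]
      exact Nat.eq_of_beq_eq_true (List.all_eq_true.mp model_unit.2 y (List.mem_range.mpr hy))
    · refine absurd ?_ (Bool.eq_false_iff.mp hf)
      rw [permGens_toM (dcode_lt hw)] at e1
      have hk := List.all_eq_true.mp model_words w (List.mem_range.mpr hw)
      simp only [Bool.and_eq_true, List.all_eq_true, Nat.blt_eq] at hk
      refine List.all_eq_true.mpr fun i hi => ?_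
      rw [Nat.beq_eq]
      have := CfsgHSType.apW_evW (w := wOf (dcode w)) (fun k hk' => (hk.2 k hk').trans (by norm_num))
        ⟨i, List.mem_range.mp hi⟩
      have h2 := CfsgHSType.apW_evW (w := []) (by simp) ⟨i, List.mem_range.mp hi⟩
      simp only [e1, evW_nil] at this h2
      rw [this, h2]

theorem permEmb_mem {x : ℕ} (hx : x < 512) : permEmb.e x ∈ hsPerm := by
  obtain ⟨hv, hgood, -⟩ := CfsgLeech.Models.hs_model
  show permGens.toM (dcode x) ∈ hsPerm
  rw [permGens_toM (dcode_lt hx)]
  have hk := List.all_eq_true.mp model_words x (List.mem_range.mpr hx)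
  simp only [Bool.and_eq_true, List.all_eq_true, Nat.blt_eq] at hk
  have hlet : ∀ k < 6, letG permL k ∈ hsPerm := fun k hk6 => by
    exact CfsgPC.mem_of_sift (n := 100) (by norm_num) CfsgLeech.Models.hs_table hv _ _
      (CfsgHSType.rep_letter (by omega)) (List.all_eq_true.mp model_sift k (List.mem_range.mpr hk6))
  generalize wOf (dcode x) = w at hk
  obtain ⟨-, hk⟩ := hk
  induction w with
  | nil => exact Subgroup.one_mem _
  | cons a w ih =>
    rw [evW_cons]
    exact Subgroup.mul_mem _ (hlet a (hk a List.mem_cons_self)) (ih fun b hb => hk b (List.mem_cons_of_mem _ hb))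

/-- Restrict an embedding to a subgroup containing its range. -/
def Emb.restrict {G : Type*} [Group G] (ι : Emb G) (H : Subgroup G) (h : ∀ x < 512, ι.e x ∈ H) : Emb H where
  e x := if hx : x < 512 then ⟨ι.e x, h x hx⟩ else 1
  map_mul {x y} hx hy := by
    rw [dif_pos (mulS_lt _ _), dif_pos hx, dif_pos hy]
    exact Subtype.ext (ι.map_mul hx hy)
  inj {x y} hx hy e := by
    rw [dif_pos hx, dif_pos hy] at e
    exact ι.inj hx hy (congrArg Subtype.val e)

theorem range_map {G H : Type*} [Group G] [Group H] (ι : Emb G) (f : G →* H) (hf : Function.Injective f) :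
    (ι.map f hf).range = ι.range.map f := by
  ext g
  simp only [Emb.mem_range, Subgroup.mem_map]
  constructor
  · rintro ⟨x, hx, rfl⟩
    exact ⟨_, ⟨x, hx, rfl⟩, rfl⟩
  · rintro ⟨_, ⟨x, hx, rfl⟩, rfl⟩
    exact ⟨x, hx, rfl⟩

/-- A group whose Sylow 2-subgroups look like those of the Higman-Sims group contains the coded group as one. -/
theorem exists_emb {G : Type*} [Group G] [Finite G] (S : Sylow 2 G) (P : Sylow 2 ↥Cfsg.Spor.HS)
    (hS : Nonempty (↥(S : Subgroup G) ≃* ↥(P : Subgroup ↥Cfsg.Spor.HS))) :
    ∃ ι : Emb G, ι.range = (S : Subgroup G) := by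
  obtain ⟨hv, hgood, ⟨iso⟩⟩ := CfsgLeech.Models.hs_model
  obtain ⟨j⟩ := CfsgHSRecog.iso_hsStab
  obtain ⟨i⟩ : Nonempty (↥Cfsg.Spor.HS ≃* ↥hsPerm) := by
    refine ⟨j.trans ?_⟩
    with_unfolding_all exact iso
  have hcard : Nat.card ↥Cfsg.Spor.HS = 44352000 := by
    rw [Nat.card_congr i.toEquiv]
    have := hgood.card
    have hls : CfsgLeech.Models.hsRigid.ls = CfsgLeech.Models.hsChain := by with_unfolding_all rfl
    rw [hls, CfsgLeech.Models.hs_size] at this
    with_unfolding_all exact this
  haveI : Finite ↥Cfsg.Spor.HS := Nat.finite_of_card_ne_zero (by rw [hcard]; norm_num)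
  let E := (permEmb.restrict hsPerm fun x hx => permEmb_mem hx).map i.symm.toMonoidHom i.symm.injective
  have h512 : Nat.card ↥E.range = 2 ^ (Nat.card ↥Cfsg.Spor.HS).factorization 2 := by
    rw [E.card_range, hcard]
    rw [show (44352000 : ℕ) = 2 ^ 9 * 86625 by norm_num, Nat.factorization_mul (by norm_num) (by norm_num),
      Nat.Prime.factorization_pow Nat.prime_two, Finsupp.add_apply, Finsupp.single_eq_same,
      Nat.factorization_eq_zero_of_not_dvd (by norm_num : ¬ 2 ∣ 86625)]
    norm_num
  obtain ⟨Q, hQ⟩ : ∃ Q : Sylow 2 ↥Cfsg.Spor.HS, (Q : Subgroup _) = E.range :=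
    ⟨Sylow.ofCard _ h512, rfl⟩
  obtain ⟨e⟩ := hS
  let f : ↥E.range →* G := (S : Subgroup G).subtype.comp
    ((e.trans ((Sylow.equiv P Q).trans (MulEquiv.subgroupCongr hQ))).symm.toMonoidHom)
  have hf : Function.Injective f := (S : Subgroup G).subtype_injective.comp (MulEquiv.injective _)
  refine ⟨(E.restrict E.range fun x hx => E.e_mem hx).map f hf, ?_⟩
  rw [range_map]
  have htop : (E.restrict E.range fun x hx => E.e_mem hx).range = ⊤ := by
    refine eq_top_iff.mpr fun g _ => ?_
    obtain ⟨x, hx, e⟩ := g.2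
    exact ⟨x, hx, Subtype.ext (by simp only [Emb.restrict, dif_pos hx]; exact e)⟩
  rw [htop, ← MonoidHom.range_eq_map, MonoidHom.range_comp, MonoidHom.range_eq_top.mpr (MulEquiv.surjective _),
    ← MonoidHom.range_eq_map, Subgroup.range_subtype]

end CfsgHSSylow
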