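import Cfsg.Agent.Lib.HSSylow.Reduced

/-!
The action of the normalizer of the image of the subgroup of order 64 on the six sets of five pairwise non-commuting
points.
-/

set_option autoImplicit false

namespace CfsgHSSylow

open Subgroup
open Cfsg (pPrimeCore)

attribute [local irreducible] mulS invS labS conS inB bitsA bitsV bitsR bitsE cent2 coS

namespace Setup

variable {G : Type*} [Group G] {K : Setup G}

/-- Two reduced elements have non-commuting representatives modulo the odd core. -/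
def NC (K : Setup G) (r s : K.Hat) : Prop :=
  ∃ u v : K.CZ, K.red u = r ∧ K.red v = s ∧ (u * v)⁻¹ * (v * u) ∉ K.oX

/-- A set of five points. -/
noncomputable def Ov (K : Setup G) (a : ℕ) : Set K.Hat := {r | ∃ i ∈ ovs.getD a [], K.eH (pt i) = r}

theorem ov_range {a i : ℕ} (hi : i ∈ ovs.getD a []) : a < 6 ∧ 0 < i ∧ i < 16 := by
  have ha : a < 6 := by
    by_contra h
    rw [List.getD_eq_default _ _ (by rw [ovs_shape.2.1]; omega)] at hi
    simp at hi
  rw [List.getD_eq_getElem _ _ (by rw [ovs_shape.2.1]; omega)] at hi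
  have h := List.all_eq_true.mp ovs_shape.1 _ (List.getElem_mem (by rw [ovs_shape.2.1]; omega : a < ovs.length))
  simp only [Bool.and_eq_true, List.all_eq_true, Nat.blt_eq] at h
  exact ⟨ha, (h.1.2 i hi).1, (h.1.2 i hi).2⟩

variable [Finite G] [IsSimpleGroup G]

theorem NC.conj {r s : K.Hat} (h : K.NC r s) (g : K.Hat) : K.NC (g * r * g⁻¹) (g * s * g⁻¹) := by
  obtain ⟨u, v, rfl, rfl, h⟩ := h
  obtain ⟨g, rfl⟩ := red_surj g
  refine ⟨g * u * g⁻¹, g * v * g⁻¹, by simp, by simp, fun h' => h ?_⟩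
  have := Normal.conj_mem (inferInstance : K.oX.Normal) _ h' g⁻¹
  convert this using 1
  group

variable (hc : Classes K)

include hc

theorem oX_eX {x y : ℕ} (hx : x < 512) (hy : y < 512) (h : (K.eX x)⁻¹ * K.eX y ∈ K.oX) : x = y := by
  refine K.local'.ι.inj hx hy (eq_of_inv_mul_eq_one ?_)
  rw [← orderOf_eq_one_iff]
  have h2 : IsPGroup 2 (zpowers ((K.eX x)⁻¹ * K.eX y)) :=
    K.local'.S.isPGroup'.to_le (zpowers_le.mpr (mul_mem (inv_mem (K.local'.e_mem hx)) (K.local'.e_mem hy)))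
  obtain ⟨i, hi⟩ := IsPGroup.iff_orderOf.mp h2 ⟨_, mem_zpowers _⟩
  rw [Subgroup.orderOf_mk] at hi
  have hd := orderOf_dvd_natCard _ h
  rw [hi] at hd ⊢
  rcases Nat.eq_zero_or_pos i with h0 | h0
  · rw [h0, pow_zero]
  · exact absurd (odd_oX.of_dvd_nat ((dvd_pow_self 2 h0.ne').trans hd)) (by decide)

theorem NC_iff {i j : ℕ} (hi : i < 16) (hj : j < 16) :
    K.NC (K.eH (pt i)) (K.eH (pt j)) ↔ ncP i j = true := by
  obtain ⟨hil, hiR, -⟩ := pt_R hi
  obtain ⟨hjl, hjR, -⟩ := pt_R hj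
  have hcen : ∀ {a k : ℕ}, a < 512 → inB bitsR a = true → k ∈ four → Commute (K.eX a) (K.eX k) := by
    intro a k ha haR hk
    refine (K.local'.ι.commute_iff ha (four_lt hk)).mpr ?_
    have := List.all_eq_true.mp R_central a (List.mem_range.mpr ha)
    simp only [haR, Bool.not_true, Bool.false_or, List.all_eq_true, Nat.beq_eq] at this
    exact this k hk
  constructor
  · rintro ⟨u, v, hu, hv, h⟩
    simp only [ncP, Bool.not_eq_true']
    refine Bool.eq_false_iff.mpr fun he => h ?_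
    rw [Nat.beq_eq] at he
    obtain ⟨k, hk, o, ho, eu⟩ := (mem_ker0 hc).mp ((QuotientGroup.eq).mp hu.symm)
    obtain ⟨l, hl, o', ho', ev⟩ := (mem_ker0 hc).mp ((QuotientGroup.eq).mp hv.symm)
    have hu' : u = K.eX (pt i) * K.eX k * o := by rw [mul_assoc, eu, mul_inv_cancel_left]
    have hv' : v = K.eX (pt j) * K.eX l * o' := by rw [mul_assoc, ev, mul_inv_cancel_left]
    set π := QuotientGroup.mk' K.oX
    rw [← QuotientGroup.eq_one_iff]
    show π _ = 1
    rw [map_mul, map_inv, inv_mul_eq_one, hu', hv']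
    simp only [map_mul, show π o = 1 from (QuotientGroup.eq_one_iff o).mpr ho,
      show π o' = 1 from (QuotientGroup.eq_one_iff o').mpr ho', mul_one]
    simp only [← map_mul]
    refine congrArg π ?_
    have hab : Commute (K.eX (pt i)) (K.eX (pt j)) := (K.local'.ι.commute_iff hil hjl).mpr he
    exact ((hab.mul_left (hcen hjl hjR hk).symm).mul_right
      ((hcen hil hiR hl).mul_left ((hcen (four_lt hk) (four_R hk) hl)))).eq
  · intro h
    refine ⟨K.eX (pt i), K.eX (pt j), rfl, rfl, fun h' => ?_⟩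
    rw [← eX_mul hil hjl, ← eX_mul hjl hil] at h'
    simp [ncP, oX_eX hc (mulS_lt _ _) (mulS_lt _ _) h'] at h

theorem mem_Ov {a i : ℕ} (hi : i < 16) : K.eH (pt i) ∈ K.Ov a ↔ i ∈ ovs.getD a [] := by
  refine ⟨fun ⟨j, hj, e⟩ => ?_, fun h => ⟨i, h, rfl⟩⟩
  rwa [← pt_inj hc (ov_range hj).2.2 hi e]

theorem Ov_inj {a b : ℕ} (ha : a < 6) (hb : b < 6) (h : K.Ov a = K.Ov b) : a = b := by
  by_contra hne
  have hs := List.all_eq_true.mp (List.all_eq_true.mp ovs_shape.2.2 a (List.mem_range.mpr ha)) b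
    (List.mem_range.mpr hb)
  simp only [Bool.or_eq_true, Nat.beq_eq, hne, false_or, List.any_eq_true, Bool.not_eq_true',
    List.any_eq_false] at hs
  obtain ⟨i, hia, hib⟩ := hs
  have hm : i ∈ ovs.getD b [] := (mem_Ov hc (ov_range hia).2.2).mp (h ▸ (mem_Ov hc (ov_range hia).2.2).mpr hia)
  exact hib i hm rfl

/-- The normalizer permutes the six sets. -/
theorem Ov_move {g : K.Hat} (hg : g ∈ normalizer (K.RH : Set K.Hat)) {a : ℕ} (ha : a < 6) :
    ∃ b < 6, ∀ r, r ∈ K.Ov a ↔ g * r * g⁻¹ ∈ K.Ov b := by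
  classical
  set L := ovs.getD a [] with hL
  have hshape : L.length = 5 ∧ L.Nodup ∧ ∀ i ∈ L, ∀ j ∈ L, i = j ∨ ncP i j = true := by
    have hlt : a < ovs.length := by rw [ovs_shape.2.1]; exact ha
    have h := List.all_eq_true.mp ovs_shape.1 _ (List.getElem_mem hlt)
    simp only [Bool.and_eq_true, List.all_eq_true, beq_iff_eq, decide_eq_true_eq, Bool.or_eq_true, Nat.beq_eq] at h
    rw [hL, List.getD_eq_getElem _ _ hlt]
    exact ⟨h.1.1.1, h.1.1.2, h.2⟩
  -- the image of a point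
  have him : ∀ i ∈ L, ∃ j ∈ List.range' 1 15, K.eH (pt j) = g * K.eH (pt i) * g⁻¹ := by
    intro i hi
    obtain ⟨-, hi0, hi16⟩ := ov_range hi
    have hm : g * K.eH (pt i) * g⁻¹ ∈ K.RH :=
      (mem_normalizer_iff.mp hg _).mp (eH_mem_RH (pt_R hi16).1 (pt_R hi16).2.1)
    obtain ⟨j, hj0, hj, e, -⟩ := exists_point hc hm fun h1 => hi0.ne' (pt_inj hc hi16 (by norm_num) (by
      rw [conj_eq_one_iff] at h1
      rw [h1]
      exact ((eH_eq_one hc (by decide)).mpr (by decide)).symm))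
    exact ⟨j, List.mem_range'_1.mpr ⟨hj0, by omega⟩, e⟩
  choose f hf hfe using him
  set o := (List.range' 1 15).filter fun j => decide (∃ i, ∃ hi : i ∈ L, f i hi = j) with ho
  have hnd : o.Nodup := List.Nodup.filter _ List.nodup_range'
  have hlen : o.length = 5 := by
    rw [← List.toFinset_card_of_nodup hnd, ← hshape.1, ← List.toFinset_card_of_nodup hshape.2.1]
    refine (Finset.card_bij (fun i hi => f i (List.mem_toFinset.mp hi)) ?_ ?_ ?_).symm
    · intro i hi
      rw [List.mem_toFinset, ho, List.mem_filter]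
      exact ⟨hf i _, decide_eq_true ⟨i, _, rfl⟩⟩
    · intro i hi j hj e
      have e1 := hfe i (List.mem_toFinset.mp hi)
      rw [e, hfe j (List.mem_toFinset.mp hj)] at e1
      exact (pt_inj hc (ov_range (List.mem_toFinset.mp hj)).2.2 (ov_range (List.mem_toFinset.mp hi)).2.2
        (mul_left_cancel (mul_right_cancel e1))).symm
    · intro j hj
      rw [List.mem_toFinset, ho, List.mem_filter] at hj
      obtain ⟨i, hi, e⟩ := of_decide_eq_true hj.2
      exact ⟨i, List.mem_toFinset.mpr hi, e⟩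
  have hcomp := List.all_eq_true.mp ovs_complete o (List.mem_sublistsLen.mpr ⟨List.filter_sublist, hlen⟩)
  simp only [Bool.or_eq_true, List.any_eq_true, Bool.and_eq_true, Bool.not_eq_true', List.all_eq_true,
    Nat.beq_eq] at hcomp
  have hmem : ∀ j ∈ o, ∃ i, ∃ hi : i ∈ L, f i hi = j := fun j hj => of_decide_eq_true (List.mem_filter.mp hj).2
  rcases hcomp with ⟨x, hx, y, hy, hxy, hnc⟩ | ⟨q, hq, hall⟩
  · exfalso
    obtain ⟨i, hi, rfl⟩ := hmem x hx
    obtain ⟨j, hj, rfl⟩ := hmem y hy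
    have hij : i ≠ j := by
      rintro rfl
      simp at hxy
    have h := ((NC_iff hc (ov_range hi).2.2 (ov_range hj).2.2).mpr
      ((hshape.2.2 i hi j hj).resolve_left hij)).conj g
    have hlt : ∀ {i} (hi : i ∈ L), f i hi < 16 := fun {i} hi => by
      have := List.mem_range'_1.mp (hf i hi); omega
    rw [← hfe i hi, ← hfe j hj, NC_iff hc (hlt hi) (hlt hj), hnc] at h
    exact Bool.false_ne_true h
  · obtain ⟨b, hb, rfl⟩ := List.mem_iff_getElem.mp hq
    have hb6 : b < 6 := by rw [← ovs_shape.2.1]; exact hb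
    refine ⟨b, hb6, fun r => ?_⟩
    have hsub : ∀ j ∈ o, j ∈ ovs.getD b [] := fun j hj => by
      obtain ⟨i, hi, e⟩ := hall j hj
      rw [List.getD_eq_getElem _ _ hb, e]; exact hi
    have hqlen : (ovs.getD b []).length = 5 ∧ (ovs.getD b []).Nodup := by
      have h := List.all_eq_true.mp ovs_shape.1 _ (List.getElem_mem hb)
      simp only [Bool.and_eq_true, beq_iff_eq, decide_eq_true_eq] at h
      rw [List.getD_eq_getElem _ _ hb]
      exact ⟨h.1.1.1, h.1.1.2⟩
    have hperm : o.Perm (ovs.getD b []) :=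
      (hnd.subperm hsub).perm_of_length_le (by rw [hlen, hqlen.1])
    constructor
    · rintro ⟨i, hi, rfl⟩
      refine ⟨f i hi, hsub _ ?_, hfe i hi⟩
      rw [ho, List.mem_filter]
      exact ⟨hf i hi, decide_eq_true ⟨i, hi, rfl⟩⟩
    · rintro ⟨j, hj, e⟩
      obtain ⟨i, hi, rfl⟩ := hmem j (hperm.mem_iff.mpr hj)
      rw [hfe i hi] at e
      exact ⟨i, hi, mul_left_cancel (mul_right_cancel e)⟩

omit hc in
/-- The action on the six sets. -/
noncomputable def ovAct (hc : Classes K) (g : ↥(normalizer (K.RH : Set K.Hat))) (a : Fin 6) : Fin 6 :=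
  ⟨(Ov_move hc g.2 a.2).choose, (Ov_move hc g.2 a.2).choose_spec.1⟩

theorem ovAct_spec (g : ↥(normalizer (K.RH : Set K.Hat))) (a : Fin 6) (r : K.Hat) :
    r ∈ K.Ov a ↔ (g : K.Hat) * r * (g : K.Hat)⁻¹ ∈ K.Ov (ovAct hc g a) :=
  (Ov_move hc g.2 a.2).choose_spec.2 r

theorem ovAct_eq (g : ↥(normalizer (K.RH : Set K.Hat))) {a b : Fin 6}
    (h : ∀ r, r ∈ K.Ov a ↔ (g : K.Hat) * r * (g : K.Hat)⁻¹ ∈ K.Ov b) : ovAct hc g a = b := by
  refine Fin.ext (Ov_inj hc (ovAct hc g a).2 b.2 (Set.ext fun s => ?_))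
  have hs : s = (g : K.Hat) * ((g : K.Hat)⁻¹ * s * g) * (g : K.Hat)⁻¹ := by group
  rw [hs, ← ovAct_spec hc g a, h]

theorem ovAct_one (a : Fin 6) : ovAct hc 1 a = a := ovAct_eq hc 1 fun r => by simp

theorem ovAct_mul (g h : ↥(normalizer (K.RH : Set K.Hat))) (a : Fin 6) :
    ovAct hc (g * h) a = ovAct hc g (ovAct hc h a) := ovAct_eq hc _ fun r => by
  rw [ovAct_spec hc h a r, ovAct_spec hc g (ovAct hc h a)]
  simp [mul_assoc]

omit hc in
/-- The permutation representation on the six sets. -/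
noncomputable def ovHom (hc : Classes K) : ↥(normalizer (K.RH : Set K.Hat)) →* Equiv.Perm (Fin 6) where
  toFun g :=
    { toFun := ovAct hc g
      invFun := ovAct hc g⁻¹
      left_inv := fun a => by rw [← ovAct_mul, inv_mul_cancel, ovAct_one]
      right_inv := fun a => by rw [← ovAct_mul, mul_inv_cancel, ovAct_one] }
  map_one' := Equiv.ext fun a => ovAct_one hc a
  map_mul' g h := Equiv.ext fun a => ovAct_mul hc g h a

theorem ovHom_apply (g : ↥(normalizer (K.RH : Set K.Hat))) (a : Fin 6) : ovHom hc g a = ovAct hc g a := rfl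

omit hc in
theorem pair_spec {i : ℕ} (hi0 : 0 < i) (hi : i < 16) : ∃ p q : ℕ, p < 6 ∧ q < 6 ∧
    ∀ j, 0 < j → j < 16 → (j ∈ ovs.getD p [] ∧ j ∈ ovs.getD q [] ↔ j = i) := by
  have hm : ovPair.getD (i - 1) (0, 0) ∈ ovPair := by
    have hl : i - 1 < ovPair.length := by simp [ovPair]; omega
    rw [List.getD_eq_getElem _ _ hl]; exact List.getElem_mem hl
  refine ⟨(ovPair.getD (i - 1) (0, 0)).1, (ovPair.getD (i - 1) (0, 0)).2, ?_, ?_, fun j hj0 hj => ?_⟩
  · have h := List.all_eq_true.mp ovs_pair.2 (ovPair.getD (i - 1) (0, 0)) hm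
    simp only [Bool.and_eq_true, Nat.blt_eq] at h
    exact h.1
  · have h := List.all_eq_true.mp ovs_pair.2 (ovPair.getD (i - 1) (0, 0)) hm
    simp only [Bool.and_eq_true, Nat.blt_eq] at h
    exact h.2
  · have h := List.all_eq_true.mp (List.all_eq_true.mp ovs_pair.1 i (List.mem_range'_1.mpr ⟨hi0, by omega⟩)) j
      (List.mem_range'_1.mpr ⟨hj0, by omega⟩)
    rw [beq_iff_eq] at h
    constructor
    · intro h'
      have e : Nat.beq i j = true := by
        rw [h, Bool.and_eq_true, List.any_eq_true, List.any_eq_true]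
        exact ⟨⟨j, h'.1, Nat.beq_refl j⟩, ⟨j, h'.2, Nat.beq_refl j⟩⟩
      exact (Nat.eq_of_beq_eq_true e).symm
    · rintro rfl
      rw [Nat.beq_refl, eq_comm, Bool.and_eq_true, List.any_eq_true, List.any_eq_true] at h
      obtain ⟨⟨x, hx, ex⟩, y, hy, ey⟩ := h
      exact ⟨Nat.eq_of_beq_eq_true ex ▸ hx, Nat.eq_of_beq_eq_true ey ▸ hy⟩

/-- The kernel centralizes the image. -/
theorem ovHom_ker {g : ↥(normalizer (K.RH : Set K.Hat))} (h : ovHom hc g = 1) :
    ∀ r ∈ K.RH, (g : K.Hat) * r = r * g := by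
  intro r hr
  by_cases h1 : r = 1
  · simp [h1]
  obtain ⟨i, hi0, hi, rfl, -⟩ := exists_point hc hr h1
  obtain ⟨p, q, hp, hq, hpq⟩ := pair_spec hi0 hi
  have hm : (g : K.Hat) * K.eH (pt i) * (g : K.Hat)⁻¹ ∈ K.RH := (mem_normalizer_iff.mp g.2 _).mp hr
  obtain ⟨j, hj0, hj, e, -⟩ := exists_point hc hm (fun h => h1 (by simpa using h))
  have hfix : ∀ (p : ℕ) (hp : p < 6), i ∈ ovs.getD p [] → j ∈ ovs.getD p [] := by
    intro p hp hip
    have h' := (ovAct_spec hc g ⟨p, hp⟩ _).mp ((mem_Ov hc hi).mpr hip)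
    rw [← ovHom_apply, h, Equiv.Perm.one_apply, ← e] at h'
    exact (mem_Ov hc hj).mp h'
  have hi' := (hpq i hi0 hi).mpr rfl
  have hji := (hpq j hj0 hj).mp ⟨hfix p hp hi'.1, hfix q hq hi'.2⟩
  subst hji
  exact mul_inv_eq_iff_eq_mul.mp e.symm

end Setup

end CfsgHSSylow
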