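import Mathlib.GroupTheory.SpecificGroups.Alternating.Simple
import Mathlib.GroupTheory.GroupAction.Quotient
import Mathlib.GroupTheory.PGroup
import Mathlib.Data.Fintype.Perm

/-!
Subgroups of order 120 of the symmetric group on six points, and a certificate of the order of a pair stabilizer.
-/

set_option autoImplicit false
set_option maxRecDepth 100000

namespace CfsgHSSylow

open Equiv Subgroup

/-- A normal subgroup of a symmetric group is trivial or contains the alternating group. -/
theorem perm_normal {α : Type*} [Fintype α] [DecidableEq α] (hα : 5 ≤ Nat.card α) (N : Subgroup (Perm α)) [N.Normal] :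
    N = ⊥ ∨ alternatingGroup α ≤ N := by
  haveI := alternatingGroup.isSimpleGroup hα
  rcases ((inferInstance : (N.subgroupOf (alternatingGroup α)).Normal)).eq_bot_or_eq_top with h | h
  · refine Or.inl (eq_bot_iff.mpr fun n hn => mem_bot.mpr ?_)
    rw [subgroupOf_eq_bot] at h
    have hc : ∀ g : Perm α, g * n = n * g := by
      intro g
      have h1 : g * n * g⁻¹ * n⁻¹ ∈ N := mul_mem (Normal.conj_mem inferInstance n hn g) (inv_mem hn)
      have h2 : g * n * g⁻¹ * n⁻¹ ∈ alternatingGroup α := by
        rw [Perm.mem_alternatingGroup]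
        simp only [map_mul, map_inv]
        rw [mul_comm (Perm.sign g), mul_inv_cancel_right, mul_inv_cancel]
      have h3 := Subgroup.disjoint_def.mp h h1 h2
      rwa [mul_inv_eq_one, mul_inv_eq_iff_eq_mul] at h3
    by_contra hne
    obtain ⟨a, ha⟩ : ∃ a, n a ≠ a := by
      by_contra hall
      push Not at hall
      exact hne (Equiv.ext hall)
    obtain ⟨c, hca, hcb⟩ : ∃ c, c ≠ a ∧ c ≠ n a := by
      by_contra hall
      push Not at hall
      have hle : (Finset.univ : Finset α) ⊆ {a, n a} := fun c _ => by
        rcases eq_or_ne c a with e | e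
        · simp [e]
        · simp [hall c e]
      have hcard := (Finset.card_le_card hle).trans Finset.card_le_two
      rw [Finset.card_univ, ← Nat.card_eq_fintype_card] at hcard
      omega
    have := Equiv.congr_fun (hc (swap (n a) c)) a
    rw [Perm.mul_apply, Perm.mul_apply, swap_apply_left, swap_apply_of_ne_of_ne (Ne.symm ha) (Ne.symm hca)] at this
    exact hcb this
  · exact Or.inr (subgroupOf_eq_top.mp h)

/-- No nontrivial normal 2-subgroup. -/
theorem perm_five_two (N : Subgroup (Perm (Fin 5))) [N.Normal] (hN : IsPGroup 2 N) : N = ⊥ := by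
  refine (perm_normal (by simp) N).resolve_right fun h => ?_
  haveI : _root_.Fact (Nat.Prime 2) := ⟨Nat.prime_two⟩
  obtain ⟨k, hk⟩ := IsPGroup.iff_card.mp (hN.to_le h)
  rw [nat_card_alternatingGroup, Nat.card_fin] at hk
  have h3 : 3 ∣ 2 ^ k := hk ▸ (by decide : 3 ∣ Nat.factorial 5 / 2)
  exact absurd (Nat.prime_three.dvd_of_dvd_pow h3) (by decide)

/-- A subgroup of order 120 of the symmetric group on six points. -/
theorem six_one_twenty (I : Subgroup (Perm (Fin 6))) (hI : Nat.card I = 120) : Nonempty (I ≃* Perm (Fin 5)) := by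
  classical
  have hidx : Nat.card (Perm (Fin 6) ⧸ I) = 6 := by
    have := I.card_mul_index
    rw [hI, Nat.card_perm, Nat.card_fin, index_eq_card, show Nat.factorial 6 = 720 from rfl] at this
    omega
  set c : Perm (Fin 6) ⧸ I := ((1 : Perm (Fin 6)) : Perm (Fin 6) ⧸ I) with hc
  set T := MulAction.toPermHom (Perm (Fin 6)) (Perm (Fin 6) ⧸ I)
  have hmove : ∀ (i : I) (d : Perm (Fin 6) ⧸ I), d ≠ c ↔ T i d ≠ c := by
    intro i d
    have hfix : T i c = c := by
      show ((i : Perm (Fin 6)) • c) = c
      rw [hc, MulAction.Quotient.smul_coe, smul_eq_mul, mul_one, QuotientGroup.eq, mul_one]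
      exact inv_mem i.2
    constructor
    · intro hd e
      exact hd ((T i).injective (e.trans hfix.symm))
    · intro hd e
      exact hd (e ▸ hfix)
  let f : I →* Perm {d : Perm (Fin 6) ⧸ I // d ≠ c} :=
    { toFun := fun i => (T i).subtypePerm fun d => (hmove i d).symm
      map_one' := Equiv.ext fun d => Subtype.ext (by simp)
      map_mul' := fun i j => Equiv.ext fun d => Subtype.ext (by simp only [Subgroup.coe_mul, map_mul, Perm.subtypePerm_apply, Perm.mul_apply]) }
  have hf : Function.Injective f := by
    refine (injective_iff_map_eq_one f).mpr fun i hi => ?_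
    have hall : ∀ d : Perm (Fin 6) ⧸ I, T i d = d := by
      intro d
      by_cases hd : d = c
      · subst hd
        by_contra hne
        exact (hmove i c).mpr hne rfl
      · exact congrArg Subtype.val (Equiv.congr_fun hi ⟨d, hd⟩)
    have hker : (i : Perm (Fin 6)) ∈ I.normalCore := by
      rw [normalCore_eq_ker]
      exact MonoidHom.mem_ker.mpr (Equiv.ext hall)
    rcases perm_normal (by simp) I.normalCore with h | h
    · exact Subtype.ext (mem_bot.mp (h ▸ hker))
    · have := card_dvd_of_le (h.trans (normalCore_le I))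
      rw [nat_card_alternatingGroup, Nat.card_fin, hI, show Nat.factorial 6 / 2 = 360 from rfl] at this
      norm_num at this
  haveI : Finite (Perm (Fin 6) ⧸ I) := inferInstance
  haveI : Fintype (Perm (Fin 6) ⧸ I) := Fintype.ofFinite _
  have h5 : Nat.card {d : Perm (Fin 6) ⧸ I // d ≠ c} = 5 := by
    rw [Nat.card_eq_fintype_card, Fintype.card_subtype_compl, Fintype.card_subtype_eq,
      ← Nat.card_eq_fintype_card, hidx]
  have hbij : Function.Bijective f := by
    refine (Nat.bijective_iff_injective_and_card f).mpr ⟨hf, ?_⟩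
    rw [hI, Nat.card_perm, h5]
    rfl
  exact ⟨(MulEquiv.ofBijective f hbij).trans (Finite.equivFinOfCardEq h5).permCongrHom⟩

/-- The stabilizer of a pair has order 48. -/
theorem pair_stab : Fintype.card {σ : Perm (Fin 6) // (({0, 1} : Finset (Fin 6)).image σ) = {0, 1}} = 48 := by
  decide +kernel

end CfsgHSSylow
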