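import Cfsg.Agent.Lib.HSSylow.ShapeChecks
import Mathlib.Data.List.Sublists

/-!
Kernel checks of the sixteen cosets of the central cyclic subgroup in the subgroup of order 64, and of the six sets of
five pairwise non-commuting cosets.
-/

set_option autoImplicit false
set_option maxRecDepth 100000
set_option maxHeartbeats 4000000
set_option Elab.async false

namespace CfsgHSSylow

/-- The coset numbers, four bits each. -/
def coT : ℕ := 32315829493925279409066792180340448783998486665771990019090989951235630964737775537828877946832337300906434148670263689524840610836898844899691758101720220179020629095127047991917963597344151002325192141689716408237235149949972229595386775623770674000281430902159961596805402258281953235189589677174659018841460736491924284614158902714633079043068895292141116703891641995026493363861333674808681401573037070481679840548058822821389681159814631101212051636480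

/-- The number of a coset. -/
noncomputable def coS (x : ℕ) : ℕ := Nat.mod (Nat.shiftRight coT (Nat.mul (nat_lit 4) x)) (nat_lit 16)

/-- Representatives of the cosets. -/
def pts : List ℕ := [0, 2, 8, 10, 64, 83, 72, 91, 256, 258, 281, 283, 320, 339, 345, 330]

/-- A representative. -/
def pt (i : ℕ) : ℕ := pts.getD i 0

/-- The central cyclic subgroup. -/
def four : List ℕ := [0, 17, 34, 51]

/-- The six sets. -/
def ovs : List (List ℕ) := [[1, 4, 7, 13, 15], [1, 5, 6, 12, 14], [2, 8, 11, 14, 15], [2, 9, 10, 12, 13], [3, 4, 5, 9, 11], [3, 6, 7, 8, 10]]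

/-- Two sets through each coset. -/
def ovPair : List (ℕ × ℕ) := [(0, 1), (2, 3), (4, 5), (0, 4), (1, 4), (1, 5), (0, 5), (2, 5), (3, 4), (3, 5), (2, 4), (1, 3), (0, 3), (1, 2), (0, 2)]

/-- The permutation of the sets by one element. -/
def ovMove : List ℕ := [1, 0, 5, 4, 3, 2]

/-- Non-commuting cosets. -/
noncomputable def ncP (i j : ℕ) : Bool := !(Nat.beq (mulS (pt i) (pt j)) (mulS (pt j) (pt i)))

theorem pt_cover : ((List.range 512).all fun x => !inB bitsR x || (Nat.blt (coS x) 16 &&
    (four.any fun k => Nat.beq x (mulS (pt (coS x)) k)) && four.all fun k => Nat.beq (coS (mulS x k)) (coS x))) = true := by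
  decide +kernel

theorem pt_spec : ((List.range 16).all fun i => Nat.blt (pt i) 512 && inB bitsR (pt i) && Nat.beq (coS (pt i)) i &&
    (Nat.beq i 0 || [0, 5, 6, 7].any (Nat.beq (labS (pt i))))) = true := by decide +kernel

theorem four_in_R : four.all (fun k => inB bitsR k) = true := by decide +kernel

theorem ovs_complete : ((List.range' 1 15).sublistsLen 5).all (fun o =>
    (o.any fun i => o.any fun j => !(Nat.beq i j) && !(ncP i j)) ||
      ovs.any fun q => o.all fun i => q.any (Nat.beq i)) = true := by decide +kernel

theorem ovs_shape : (ovs.all fun o => (o.length == 5) && decide o.Nodup && o.all (fun i => Nat.blt 0 i && Nat.blt i 16) &&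
    o.all fun i => o.all fun j => Nat.beq i j || ncP i j) = true ∧ ovs.length = 6 ∧
    ((List.range 6).all fun a => (List.range 6).all fun b => Nat.beq a b ||
      (ovs.getD a []).any fun i => !(ovs.getD b []).any (Nat.beq i)) = true := by decide +kernel

theorem ovs_pair : ((List.range' 1 15).all fun i => (List.range' 1 15).all fun j =>
    (Nat.beq i j) == ((ovs.getD (ovPair.getD (i - 1) (0, 0)).1 []).any (Nat.beq j) &&
      (ovs.getD (ovPair.getD (i - 1) (0, 0)).2 []).any (Nat.beq j))) = true ∧
    (ovPair.all fun p => Nat.blt p.1 6 && Nat.blt p.2 6) = true := by decide +kernel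

theorem ovs_move : ((List.range 6).all fun a => (ovs.getD a []).all fun i =>
    (ovs.getD (ovMove.getD a 0) []).any (Nat.beq (coS (cjS 128 (pt i))))) = true := by decide +kernel

theorem escape : ((List.range 512).all fun x => inB bitsR x || inB bitsR (mulS x (invS 257)) ||
    [1, 64, 128, 192, 256, 320, 384, 448, 4, 16, 3, 2, 65, 129].any fun g => inB bitsR (mulS (mulS (mulS x g) (mulS (invS x) (invS g))) (invS 257))) = true ∧
    inB bitsR 257 = false ∧ mulS 257 257 = 0 ∧ labS 257 = 1 := by decide +kernel

end CfsgHSSylow
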