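import Cfsg.Agent.Lib.HSSylow.CentralFour
import Cfsg.Agent.Lib.HSSylow.PlaneChecks

/-!
The centralizer of the central involution modulo its odd core and the central cyclic subgroup of order four.
-/

set_option autoImplicit false

namespace CfsgHSSylow

open Subgroup
open Cfsg (pPrimeCore)

attribute [local irreducible] mulS invS labS conS inB bitsA bitsV bitsR bitsE cent2 coS

theorem four_lt {k : ℕ} (hk : k ∈ four) : k < 512 := by
  simp only [four, List.mem_cons, List.not_mem_nil, or_false] at hk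
  omega

/-- Two 2-elements equal modulo a normal subgroup of odd order are conjugate by it. -/
theorem conj_of_mk_eq {X : Type*} [Group X] [Finite X] {O : Subgroup X} [O.Normal] (hO : Odd (Nat.card O))
    {a b : X} (ha : IsPGroup 2 (zpowers a)) (hb : IsPGroup 2 (zpowers b)) (h : a * b⁻¹ ∈ O) :
    ∃ o ∈ O, o * a * o⁻¹ = b := by
  haveI : _root_.Fact (Nat.Prime 2) := ⟨Nat.prime_two⟩
  set W := zpowers b ⊔ O with hW
  have haW : a ∈ W := by
    rw [← inv_mul_cancel_right a b]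
    exact W.mul_mem (mem_sup_right h) (mem_sup_left (mem_zpowers b))
  have hbW : zpowers b ≤ W := le_sup_left
  have hdisj : ∀ x ∈ zpowers b, x ∈ O → x = 1 := by
    intro x hx hxO
    obtain ⟨k, hk⟩ := IsPGroup.iff_orderOf.mp hb ⟨x, hx⟩
    rw [Subgroup.orderOf_mk] at hk
    have hd : orderOf x ∣ Nat.card O := orderOf_dvd_natCard O hxO
    rw [← orderOf_eq_one_iff]
    rcases Nat.eq_zero_or_pos k with hk0 | hk0
    · rw [hk, hk0, pow_zero]
    · exact absurd ((hk ▸ hd : 2 ^ k ∣ Nat.card O)) fun hd' =>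
        absurd (hO.of_dvd_nat ((dvd_pow_self 2 hk0.ne').trans hd')) (by decide)
  have hidx : ¬ 2 ∣ ((zpowers b).subgroupOf W).index := by
    have hmul : (zpowers b).relIndex W ∣ Nat.card O := by
      have e1 := relIndex_mul_relIndex ⊥ (zpowers b) W bot_le hbW
      have e2 := relIndex_mul_relIndex ⊥ O W bot_le (hW ▸ le_sup_right)
      rw [relIndex_bot_left, relIndex_bot_left] at e1 e2
      obtain ⟨m, hm⟩ := relIndex_dvd_card O (zpowers b)
      rw [show O.relIndex W = O.relIndex (zpowers b) from hW ▸ relIndex_sup_right (H := zpowers b) (K := O),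
        ← e1, hm, mul_assoc, mul_comm (Nat.card O)] at e2
      refine Dvd.intro_left m (Nat.eq_of_mul_eq_mul_left ?_ e2).symm
      exact Nat.pos_of_ne_zero fun h0 => Nat.card_pos.ne' (by rw [hm, h0, zero_mul])
    intro h2
    exact absurd (hO.of_dvd_nat (h2.trans hmul)) (by decide)
  have hbp : IsPGroup 2 ((zpowers b).subgroupOf W) := hb.of_equiv (subgroupOfEquivOfLe hbW).symm
  let P : Sylow 2 W := hbp.toSylow hidx
  obtain ⟨R, hR⟩ := (ha.of_equiv (subgroupOfEquivOfLe (zpowers_le.mpr haW)).symm).exists_le_sylow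
  obtain ⟨w, hw⟩ := MulAction.exists_smul_eq W R P
  have h2 : w * ⟨a, haW⟩ * w⁻¹ ∈ ((w • R : Sylow 2 W) : Subgroup W) := by
    rw [Sylow.smul_def, Sylow.pointwise_smul_def]
    exact ⟨_, hR (mem_subgroupOf.mpr (mem_zpowers a)), rfl⟩
  rw [hw] at h2
  have h3 : (w : X) * a * (w : X)⁻¹ ∈ zpowers b := mem_subgroupOf.mp h2
  obtain ⟨q, hq, o, ho, hwo⟩ := mem_sup_of_normal_right.mp w.2
  have h4 : o * a * o⁻¹ ∈ zpowers b := by
    rw [← hwo] at h3
    have := (zpowers b).mul_mem ((zpowers b).mul_mem ((zpowers b).inv_mem hq) h3) hq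
    rwa [show q⁻¹ * (q * o * a * (q * o)⁻¹) * q = o * a * o⁻¹ by group] at this
  refine ⟨o, ho, mul_inv_eq_one.mp (hdisj _ ((zpowers b).mul_mem h4 ((zpowers b).inv_mem (mem_zpowers b))) ?_)⟩
  rw [show o * a * o⁻¹ * b⁻¹ = o * (a * b⁻¹) * (b * o⁻¹ * b⁻¹) by group]
  exact O.mul_mem (O.mul_mem ho h) (Normal.conj_mem inferInstance _ (O.inv_mem ho) b)

/-- An embedding with values in a subgroup. -/
def Emb.toSub {G : Type*} [Group G] (ι : Emb G) (H : Subgroup G) (h : ∀ x < 512, ι.e x ∈ H) : Emb H where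
  e x := if hx : x < 512 then ⟨ι.e x, h x hx⟩ else 1
  map_mul {x y} hx hy := by
    rw [dif_pos (mulS_lt _ _), dif_pos hx, dif_pos hy]
    exact Subtype.ext (ι.map_mul hx hy)
  inj {x y} hx hy e := by
    rw [dif_pos hx, dif_pos hy] at e
    exact ι.inj hx hy (congrArg Subtype.val e)

namespace Setup

variable {G : Type*} [Group G] (K : Setup G)

/-- The setting inside the centralizer of the central involution. -/
noncomputable def local' : Setup K.CZ where
  ι := K.ι.toSub K.CZ fun _ hx => S_le_CZ (K.e_mem hx)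
  S := K.S.subtype S_le_CZ
  range_eq := by
    ext g
    show _ ↔ (g : G) ∈ (K.S : Subgroup G)
    rw [← K.range_eq, Emb.mem_range, Emb.mem_range]
    constructor
    · rintro ⟨x, hx, rfl⟩
      exact ⟨x, hx, by simp [Emb.toSub, hx]⟩
    · rintro ⟨x, hx, e⟩
      exact ⟨x, hx, Subtype.ext (by simp only [Emb.toSub, dif_pos hx]; exact e)⟩

/-- An element of the coded group in the centralizer. -/
noncomputable abbrev eX (x : ℕ) : K.CZ := K.local'.ι.e x

/-- The odd core of the centralizer. -/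
abbrev oX : Subgroup K.CZ := pPrimeCore 2 K.CZ

/-- The kernel of the reduction. -/
noncomputable def ker0 : Subgroup K.CZ := (zpowers (K.eX 17) ⊔ K.oX).normalCore

instance : (K.ker0).Normal := normalCore_normal _

/-- The reduced centralizer. -/
abbrev Hat : Type _ := K.CZ ⧸ K.ker0

/-- The reduction. -/
noncomputable abbrev red : K.CZ →* K.Hat := QuotientGroup.mk' K.ker0

/-- The image of a code. -/
noncomputable abbrev eH (x : ℕ) : K.Hat := K.red (K.eX x)

/-- The image of the subgroup of order 64. -/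
noncomputable def RH : Subgroup K.Hat := K.local'.Rsub.map K.red

variable {K}

theorem coe_eX {x : ℕ} (hx : x < 512) : ((K.eX x : K.CZ) : G) = K.ι.e x := by
  simp [eX, local', Emb.toSub, hx]

theorem eX_z : K.eX 34 = K.local'.z := rfl

theorem eX_mul {x y : ℕ} (hx : x < 512) (hy : y < 512) : K.eX (mulS x y) = K.eX x * K.eX y :=
  K.local'.ι.map_mul hx hy

theorem eX_zero : K.eX 0 = 1 := K.local'.ι.map_zero

theorem zpowers_four {g : K.CZ} : g ∈ zpowers (K.eX 17) ↔ ∃ k ∈ four, K.eX k = g := by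
  have h2 : K.eX 17 * K.eX 17 = K.eX 34 := by
    rw [← K.local'.ι.map_mul (by norm_num) (by norm_num), c_lab.2.1]
  have h3 : K.eX 17 * K.eX 34 = K.eX 51 := by
    rw [← K.local'.ι.map_mul (by norm_num) (by norm_num), c_lab.2.2.2.2]
  have h4 : K.eX 17 ^ 4 = 1 := by
    rw [show (4 : ℕ) = 2 * 2 from rfl, pow_mul, pow_two (K.eX 17), h2, pow_two,
      ← K.local'.ι.map_mul (by norm_num) (by norm_num),
      show mulS 34 34 = 0 by with_unfolding_all decide +kernel, K.local'.ι.map_zero]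
  constructor
  · rintro ⟨i, rfl⟩
    show ∃ k ∈ four, K.eX k = K.eX 17 ^ i
    rw [← Int.emod_add_ediv_mul i 4, zpow_add, zpow_mul', zpow_ofNat, h4, one_zpow, mul_one]
    have hm : i % 4 = 0 ∨ i % 4 = 1 ∨ i % 4 = 2 ∨ i % 4 = 3 := by omega
    rcases hm with h | h | h | h <;> rw [h]
    · exact ⟨0, by decide, by rw [zpow_zero]; exact K.local'.ι.map_zero⟩
    · exact ⟨17, by decide, (zpow_one _).symm⟩
    · exact ⟨34, by decide, by rw [zpow_ofNat, pow_two, h2]⟩
    · exact ⟨51, by decide, by rw [zpow_ofNat, pow_succ', pow_two, h2, h3]⟩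
  · rintro ⟨k, hk, rfl⟩
    simp only [four, List.mem_cons, List.not_mem_nil, or_false] at hk
    rcases hk with rfl | rfl | rfl | rfl
    · rw [eX_zero]; exact one_mem _
    · exact mem_zpowers _
    · exact h2 ▸ mul_mem (mem_zpowers _) (mem_zpowers _)
    · exact h3 ▸ mul_mem (mem_zpowers _) (h2 ▸ mul_mem (mem_zpowers _) (mem_zpowers _))

theorem isPGroup_eX {x : ℕ} (hx : x < 512) : IsPGroup 2 (zpowers (K.eX x)) :=
  K.local'.S.isPGroup'.to_le (zpowers_le.mpr (K.local'.e_mem hx))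

variable [Finite G]

theorem odd_oX : Odd (Nat.card K.oX) := Nat.coprime_two_right.mp (CfsgLib.card_pPrimeCore_coprime 2)

instance oX_normal : (K.oX).Normal := Subgroup.sSup_normal _ (fun _ h => h.1)

variable [IsSimpleGroup G] (hc : Classes K)

include hc

theorem c_commutator (g : K.CZ) : g * K.eX 17 * g⁻¹ * (K.eX 17)⁻¹ ∈ zpowers (K.eX 17) ⊔ K.oX := by
  haveI : _root_.Fact (Nat.Prime 2) := ⟨Nat.prime_two⟩
  set c := K.eX 17 with hcdef
  set Z : Subgroup K.CZ := zpowers (K.eX 34) with hZdef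
  have hzc : K.eX 34 ∈ center K.CZ := mem_center_iff.mpr fun h => Subtype.ext (by
    show (h : G) * (K.eX 34 : G) = (K.eX 34 : G) * h
    rw [coe_eX (by norm_num)]
    exact (mem_CZ.mp h.2).eq)
  have hZc : Z ≤ center K.CZ := zpowers_le.mpr hzc
  haveI hZn : Z.Normal := ⟨fun z hz g => by rw [(mem_center_iff.mp (hZc hz) g), mul_inv_cancel_right]; exact hz⟩
  set π := QuotientGroup.mk' Z
  have hπs : Function.Surjective π := QuotientGroup.mk'_surjective Z
  have hZ2 : ∀ {k : ℕ}, k < 512 → K.eX k ∈ Z → k = 0 ∨ k = 34 := by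
    rintro k hk ⟨i, hi⟩
    have hsq : K.eX 34 ^ (2 : ℤ) = 1 := by
      rw [zpow_two, ← K.local'.ι.map_mul (by norm_num) (by norm_num),
        show mulS 34 34 = 0 by with_unfolding_all decide +kernel, K.local'.ι.map_zero]
    have hi' : K.eX 34 ^ (i % 2) = K.eX k := by
      rw [← hi]
      beta_reduce
      conv_rhs => rw [← Int.emod_add_mul_ediv i 2, zpow_add, zpow_mul, hsq, one_zpow, mul_one]
    rcases (by omega : i % 2 = 0 ∨ i % 2 = 1) with h | h <;> rw [h] at hi'
    · rw [zpow_zero, ← K.local'.ι.map_zero] at hi'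
      exact Or.inl (K.local'.ι.inj (by norm_num) hk hi').symm
    · rw [zpow_one] at hi'
      exact Or.inr (K.local'.ι.inj (by norm_num) hk hi').symm
  have hcc : c * c ∈ Z := by
    rw [hcdef, ← K.local'.ι.map_mul (by norm_num) (by norm_num), c_lab.2.1]
    exact mem_zpowers _
  have ho : orderOf (π c) = 2 := by
    refine orderOf_eq_prime (by rw [pow_two, ← map_mul]; exact (QuotientGroup.eq_one_iff _).mpr hcc) fun h => ?_
    rcases hZ2 (by norm_num) ((QuotientGroup.eq_one_iff c).mp h) with e | e <;> norm_num at e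
  have hcP : π c ∈ (Sylow.mapSurjective hπs K.local'.S : Sylow 2 (K.CZ ⧸ Z)) :=
    (Sylow.coe_mapSurjective hπs K.local'.S).ge ⟨c, K.local'.e_mem (by norm_num), rfl⟩
  obtain ⟨N₁, hN₁, hodd₁, hcomm⟩ := Cfsg.Agent.S0215.result (Sylow.mapSurjective hπs K.local'.S) (π c) ho hcP (by
    intro h hh
    obtain ⟨h, rfl⟩ := hπs h
    rw [← map_inv, ← map_mul, ← map_mul] at hh ⊢
    obtain ⟨p, hp, hpe⟩ : π (h * c * h⁻¹) ∈ (K.local'.S : Subgroup K.CZ).map π :=
      (Sylow.coe_mapSurjective hπs K.local'.S).le hh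
    have hZS : Z ≤ (K.local'.S : Subgroup K.CZ) := zpowers_le.mpr (K.local'.e_mem (by norm_num))
    have hmem : h * c * h⁻¹ ∈ (K.local'.S : Subgroup K.CZ) := by
      have := mul_mem hp (hZS ((QuotientGroup.eq (a := p) (b := h * c * h⁻¹)).mp hpe))
      rwa [mul_inv_cancel_left] at this
    obtain ⟨x, hx, ex⟩ := K.local'.exists_code hmem
    have hG : (h : G) * K.ι.e 17 * (h : G)⁻¹ = K.ι.e x := by
      have e := congrArg Subtype.val ex
      rw [show ((K.local'.ι.e x : K.CZ) : G) = K.ι.e x from coe_eX hx, hcdef] at e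
      rw [e, Subgroup.coe_mul, Subgroup.coe_mul, Subgroup.coe_inv, coe_eX (by norm_num)]
    refine (QuotientGroup.eq).mpr ?_
    rw [← ex]
    rcases c_isolated hc h.2 hx hG with rfl | rfl
    · rw [inv_mul_cancel]; exact one_mem _
    · rw [hcdef, ← K.local'.ι.map_inv (by norm_num), ← K.local'.ι.map_mul (invS_lt _) (by norm_num),
        show mulS (invS 51) 17 = 34 by with_unfolding_all decide +kernel]
      exact mem_zpowers _)
  haveI := hN₁
  set N := N₁.comap π
  haveI : N.Normal := hN₁.comap π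
  have hZN : Z ≤ N := fun z hz => by
    show π z ∈ N₁
    rw [show π z = 1 from (QuotientGroup.eq_one_iff z).mpr hz]; exact one_mem _
  have hidx : Odd (Z.subgroupOf N).index := by
    show Odd (Z.relIndex N)
    rw [show Z = π.ker from (QuotientGroup.ker_mk' Z).symm, relIndex_ker, map_comap_eq_self_of_surjective hπs]
    exact hodd₁
  have hNc : OddClosed N := by
    have h := oddClosed_central (G := N) (Z := Z.subgroupOf N)
      (fun z hz => mem_center_iff.mpr fun g => Subtype.ext (mem_center_iff.mp (hZc hz) g))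
      ((K.local'.S.isPGroup'.to_le (zpowers_le.mpr (K.local'.e_mem (by norm_num)))).of_equiv
        (subgroupOfEquivOfLe hZN).symm) hidx
    have := h.map_inj N.subtype_injective
    rwa [← MonoidHom.range_eq_map, range_subtype] at this
  set O' := oddPart N hNc
  haveI : O'.Normal := ⟨fun x hx g => oddPart_conj hNc (fun k hk => Normal.conj_mem inferInstance k hk g) hx⟩
  have hO'le : O' ≤ K.oX := CfsgLib.le_pPrimeCore (Nat.coprime_two_right.mpr (odd_card_oddPart hNc))
  -- the commutator lies in `N`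
  have hw : g * c * g⁻¹ * c⁻¹ ∈ N := by
    show π _ ∈ N₁
    have h1 := inv_mem (hcomm (π g))
    rw [show (π c * π g * (π c)⁻¹ * (π g)⁻¹)⁻¹ = π (g * c * g⁻¹ * c⁻¹) by simp [mul_assoc]] at h1
    exact h1
  generalize g * c * g⁻¹ * c⁻¹ = w at hw
  obtain ⟨j, m, hm, e⟩ := Nat.exists_eq_two_pow_mul_odd (orderOf_pos w).ne'
  have hj : (w ^ 2 ^ j : K.CZ) ∈ O' := ⟨pow_mem hw _, hm.of_dvd_nat (orderOf_dvd_of_pow_eq_one (by
    rw [← pow_mul, ← e, pow_orderOf_eq_one]))⟩
  have hwm : w ^ (Z.subgroupOf N).index ∈ Z := by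
    haveI : (Z.subgroupOf N).Normal := hZn.subgroupOf N
    exact mem_subgroupOf.mp (pow_index_mem (Z.subgroupOf N) (⟨w, hw⟩ : N))
  have hb := Int.gcd_eq_gcd_ab ((2 ^ j : ℕ) : ℤ) ((Z.subgroupOf N).index : ℤ)
  rw [show Int.gcd ((2 ^ j : ℕ) : ℤ) ((Z.subgroupOf N).index : ℤ) = 1 by
    rw [Int.gcd_natCast_natCast]; exact (Nat.coprime_two_left.mpr hidx).pow_left j] at hb
  have hsplit : w = (w ^ 2 ^ j) ^ Int.gcdA ((2 ^ j : ℕ) : ℤ) ((Z.subgroupOf N).index : ℤ) *
      (w ^ (Z.subgroupOf N).index) ^ Int.gcdB ((2 ^ j : ℕ) : ℤ) ((Z.subgroupOf N).index : ℤ) := by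
    rw [← zpow_natCast w (2 ^ j), ← zpow_natCast w (Z.subgroupOf N).index, ← zpow_mul, ← zpow_mul, ← zpow_add, ← hb]
    simp
  rw [hsplit]
  have hZc' : Z ≤ zpowers c := zpowers_le.mpr (zpowers_four.mpr ⟨34, by decide, rfl⟩)
  exact mul_mem (mem_sup_right (zpow_mem (hO'le hj) _)) (mem_sup_left (zpow_mem (hZc' hwm) _))

theorem ker0_eq : K.ker0 = zpowers (K.eX 17) ⊔ K.oX := by
  have hn : (zpowers (K.eX 17) ⊔ K.oX).Normal := ⟨fun x hx g => by
    obtain ⟨a, ⟨i, rfl⟩, o, ho, rfl⟩ := mem_sup_of_normal_right.mp hx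
    rw [← conj_mul, ← conj_zpow]
    refine mul_mem (zpow_mem ?_ i) (mem_sup_right (Normal.conj_mem inferInstance o ho g))
    have h := mul_mem (c_commutator hc g) (mem_sup_left (mem_zpowers (K.eX 17)))
    rwa [inv_mul_cancel_right] at h⟩
  haveI := hn
  exact normalCore_eq_self _

theorem mem_ker0 {g : K.CZ} : g ∈ K.ker0 ↔ ∃ k ∈ four, ∃ o ∈ K.oX, K.eX k * o = g := by
  rw [ker0_eq hc, mem_sup_of_normal_right]
  constructor
  · rintro ⟨a, ha, o, ho, e⟩
    obtain ⟨k, hk, rfl⟩ := zpowers_four.mp ha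
    exact ⟨k, hk, o, ho, e⟩
  · rintro ⟨k, hk, o, ho, e⟩
    exact ⟨_, zpowers_four.mpr ⟨k, hk, rfl⟩, o, ho, e⟩

theorem eH_eq_one {x : ℕ} (hx : x < 512) : K.eH x = 1 ↔ x ∈ four := by
  rw [eH, red, QuotientGroup.mk'_apply, QuotientGroup.eq_one_iff, mem_ker0 hc]
  constructor
  · rintro ⟨k, hk, o, ho, e⟩
    have ho' : o = K.eX (mulS (invS k) x) := by
      show o = K.local'.ι.e (mulS (invS k) x)
      rw [K.local'.ι.map_mul (invS_lt _) hx, K.local'.ι.map_inv (four_lt hk)]
      change o = (K.eX k)⁻¹ * K.eX x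
      rw [← e, inv_mul_cancel_left]
    have h1 : mulS (invS k) x = 0 := by
      refine K.local'.ι.inj (mulS_lt _ _) (by norm_num) ?_
      show K.eX (mulS (invS k) x) = K.local'.ι.e 0
      rw [← ho', K.local'.ι.map_zero, ← orderOf_eq_one_iff]
      obtain ⟨i, hi⟩ := IsPGroup.iff_orderOf.mp (isPGroup_eX (K := K) (mulS_lt (invS k) x)) ⟨_, mem_zpowers _⟩
      rw [Subgroup.orderOf_mk, ← ho'] at hi
      have hd : orderOf o ∣ Nat.card K.oX := orderOf_dvd_natCard _ ho
      rw [hi] at hd ⊢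
      rcases Nat.eq_zero_or_pos i with h0 | h0
      · rw [h0, pow_zero]
      · exact absurd (odd_oX.of_dvd_nat ((dvd_pow_self 2 h0.ne').trans hd)) (by decide)
    have h2 : K.eX k = K.eX x := by
      rw [← e, ho', h1, eX_zero, mul_one]
    rwa [← K.local'.ι.inj (four_lt hk) hx h2]
  · exact fun h => ⟨x, h, 1, one_mem _, mul_one _⟩

theorem eH_mul {x y : ℕ} (hx : x < 512) (hy : y < 512) : K.eH (mulS x y) = K.eH x * K.eH y := by
  rw [eH, eX, K.local'.ι.map_mul hx hy, map_mul]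

theorem eH_four {x k : ℕ} (hx : x < 512) (hk : k ∈ four) : K.eH (mulS x k) = K.eH x := by
  rw [eH_mul hc hx (four_lt hk), (eH_eq_one hc (four_lt hk)).mpr hk, mul_one]

/-- A conjugation in the reduced group lifts to a conjugation of elements of the coded group. -/
theorem lift_fusion {g : K.CZ} {x y : ℕ} (hx : x < 512) (hy : y < 512)
    (h : K.red g * K.eH x * (K.red g)⁻¹ = K.eH y) :
    ∃ k ∈ four, ∃ g' ∈ K.CZ, g' * K.ι.e x * g'⁻¹ = K.ι.e (mulS y k) ∧ ∃ u : K.CZ, (u : G) = g' ∧ K.red u = K.red g := by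
  rw [eH, ← map_inv, ← map_mul, ← map_mul] at h
  have h' : (K.eX y)⁻¹ * (g * K.eX x * g⁻¹) ∈ K.ker0 := (QuotientGroup.eq).mp h.symm
  obtain ⟨k, hk, o, ho, e⟩ := (mem_ker0 hc).mp h'
  have hk' := four_lt hk
  have he : g * K.eX x * g⁻¹ = K.eX (mulS y k) * o := by
    rw [eX_mul hy hk', mul_assoc (K.eX y), e, mul_inv_cancel_left]
  have hp : IsPGroup 2 (zpowers (g * K.eX x * g⁻¹)) := by
    have e : zpowers (g * K.eX x * g⁻¹) = (zpowers (K.eX x)).map (MulAut.conj g).toMonoidHom :=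
      ((MulAut.conj g).toMonoidHom.map_zpowers (K.eX x)).symm
    rw [e]
    exact (isPGroup_eX (K := K) hx).map _
  have hmem : g * K.eX x * g⁻¹ * (K.eX (mulS y k))⁻¹ ∈ K.oX := by
    rw [he]; exact Normal.conj_mem inferInstance o ho _
  obtain ⟨o', ho', e'⟩ := conj_of_mk_eq (X := K.CZ) (O := K.oX) odd_oX hp (isPGroup_eX (mulS_lt _ _)) hmem
  refine ⟨k, hk, ((o' * g : K.CZ) : G), (o' * g).2, ?_, o' * g, rfl, ?_⟩
  · have := congrArg Subtype.val
      (show o' * g * K.eX x * (o' * g)⁻¹ = K.eX (mulS y k) by rw [← e']; group)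
    rw [Subgroup.coe_mul, Subgroup.coe_mul, Subgroup.coe_inv, coe_eX hx, coe_eX (mulS_lt _ _)] at this
    exact this
  · rw [map_mul, show K.red o' = 1 from (QuotientGroup.eq_one_iff o').mpr (by
      rw [ker0_eq hc]; exact mem_sup_right ho'), one_mul]

omit hc in
theorem mem_RH {r : K.Hat} : r ∈ K.RH ↔ ∃ x < 512, inB bitsR x = true ∧ K.eH x = r := by
  rw [RH, mem_map]
  constructor
  · rintro ⟨_, ⟨x, hx, hT, rfl⟩, rfl⟩
    exact ⟨x, hx, hT, rfl⟩
  · rintro ⟨x, hx, hT, rfl⟩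
    exact ⟨_, ⟨x, hx, hT, rfl⟩, rfl⟩

/-- A nontrivial element of the image comes from an involution of four classes. -/
theorem exists_point {r : K.Hat} (hr : r ∈ K.RH) (hr1 : r ≠ 1) :
    ∃ i, 0 < i ∧ i < 16 ∧ K.eH (pt i) = r ∧ labS (pt i) ∈ [0, 5, 6, 7] := by
  obtain ⟨x, hx, hT, rfl⟩ := mem_RH.mp hr
  have h := List.all_eq_true.mp pt_cover x (List.mem_range.mpr hx)
  simp only [hT, Bool.not_true, Bool.false_or, Bool.and_eq_true, Nat.blt_eq, List.any_eq_true, Nat.beq_eq] at h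
  obtain ⟨⟨hi, k, hk, hxk⟩, -⟩ := h
  have hs := List.all_eq_true.mp pt_spec (coS x) (List.mem_range.mpr hi)
  simp only [Bool.and_eq_true, Bool.or_eq_true, Nat.blt_eq, Nat.beq_eq, List.any_eq_true] at hs
  obtain ⟨⟨⟨hp, -⟩, -⟩, hlab⟩ := hs
  have he : K.eH (pt (coS x)) = K.eH x := by
    conv_rhs => rw [hxk]
    rw [eH_four hc hp hk]
  refine ⟨coS x, Nat.pos_of_ne_zero fun h0 => hr1 ?_, hi, he, ?_⟩
  · rw [← he, h0, show pt 0 = 0 from rfl]
    exact (eH_eq_one hc (by norm_num)).mpr (by decide)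
  · rcases hlab with h0 | ⟨a, ha, e⟩
    · refine absurd ?_ hr1
      rw [← he, h0, show pt 0 = 0 from rfl]
      exact (eH_eq_one hc (by norm_num)).mpr (by decide)
    · exact e ▸ ha

end Setup

end CfsgHSSylow
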