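import Cfsg.Agent.Lib.HSSylow.Ovals
import Cfsg.Agent.Lib.Bender.Q.General
import Cfsg.Agent.Lib.Bender.Q.Main
import Cfsg.Agent.Lib.TwoFusion.StrongEmb
import Cfsg.Agent.Lib.CharTwoEarly
import Cfsg.Agent.S0217
import Cfsg.Agent.S0205

/-!
The image of the subgroup of order 64 is normal in the reduced centralizer.
-/

set_option autoImplicit false

namespace CfsgHSSylow

open Subgroup
open Cfsg (pPrimeCore)
open CfsgLib.CharTwoEarly (core core_le odd_core conj_mem_core)
open CfsgLib.Bender.TwoClosed (IsInv mem_normalizer_of_conj)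

attribute [local irreducible] mulS invS labS conS inB bitsA bitsV bitsR bitsE cent2 coS

theorem two_power_index {C : Type*} [Group C] [Finite C] (θ : Subgroup C) [θ.Normal]
    (h : ∀ x : C, Odd (orderOf x) → x ∈ θ) (T : Sylow 2 C) : (T : Subgroup C) ⊔ θ = ⊤ := by
  haveI : _root_.Fact (Nat.Prime 2) := ⟨Nat.prime_two⟩
  have hq : IsPGroup 2 (C ⧸ θ) := fun y => by
    obtain ⟨x, rfl⟩ := QuotientGroup.mk'_surjective θ y
    obtain ⟨k, m, hm, e⟩ := Nat.exists_eq_two_pow_mul_odd (orderOf_pos x).ne'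
    refine ⟨k, ?_⟩
    rw [← map_pow]
    exact (QuotientGroup.eq_one_iff _).mpr (h _ (hm.of_dvd_nat (orderOf_dvd_of_pow_eq_one (by
      rw [← pow_mul, ← e, pow_orderOf_eq_one]))))
  obtain ⟨n, hn⟩ := IsPGroup.iff_card.mp hq
  rw [← index_eq_one]
  refine Nat.eq_one_of_dvd_coprimes ((Nat.coprime_two_left.mpr ?_).pow_left n) ?_ dvd_rfl
  · exact (Nat.odd_iff.mpr (Nat.two_dvd_ne_zero.mp (T.not_dvd_index))).of_dvd_nat (index_dvd_of_le le_sup_left)
  · rw [← hn]
    exact index_dvd_of_le (le_sup_right : θ ≤ (T : Subgroup C) ⊔ θ)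

/-- No group of odd order moves any pair of six points to any other. -/
theorem no_odd_six (I : Subgroup (Equiv.Perm (Fin 6))) (hI : Odd (Nat.card I))
    (h : ∀ p q : Finset (Fin 6), p.card = 2 → q.card = 2 → ∃ σ ∈ I, p.image σ = q) : False := by
  have htrans : ∀ i j : Fin 6, ∃ σ ∈ I, σ i = j := by
    intro i j
    by_contra hno
    push Not at hno
    have hne : i ≠ j := fun e => hno 1 (one_mem I) (by simpa using e)
    have key : ∀ a b : Fin 6, a ≠ b → ∀ σ ∈ I, σ a ≠ b := by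
      intro a b hab σ hσ e
      obtain ⟨τ, hτ, hp⟩ := h {a, b} {i, j} (Finset.card_pair hab) (Finset.card_pair hne)
      have hi : i = τ a ∨ i = τ b := by
        have : i ∈ ({a, b} : Finset (Fin 6)).image τ := hp ▸ Finset.mem_insert_self i _
        simp at this; tauto
      have hj : j = τ a ∨ j = τ b := by
        have : j ∈ ({a, b} : Finset (Fin 6)).image τ :=
          hp ▸ Finset.mem_insert_of_mem (Finset.mem_singleton_self j)
        simp at this; tauto
      rcases hi with hi | hi <;> rcases hj with hj | hj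
      · exact hne (hi.trans hj.symm)
      · exact hno (τ * σ * τ⁻¹) (mul_mem (mul_mem hτ hσ) (inv_mem hτ)) (by simp [hi, hj, e])
      · exact hno (τ * σ⁻¹ * τ⁻¹) (mul_mem (mul_mem hτ (inv_mem hσ)) (inv_mem hτ)) (by
          simp [hi, hj, ← e])
      · exact hne (hi.trans hj.symm)
    have hfix : ∀ σ ∈ I, ∀ a, σ a = a := fun σ hσ a => by
      by_contra hne'
      exact key a (σ a) (Ne.symm hne') σ hσ rfl
    obtain ⟨σ, hσ, hp⟩ := h {0, 1} {2, 3} rfl rfl
    have : (0 : Fin 6) ∈ ({2, 3} : Finset (Fin 6)) := by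
      rw [← hp, Finset.mem_image]; exact ⟨0, by simp, hfix σ hσ 0⟩
    simp at this
  haveI : MulAction.IsPretransitive I (Fin 6) := ⟨fun i j => by
    obtain ⟨σ, hσ, e⟩ := htrans i j
    exact ⟨⟨σ, hσ⟩, e⟩⟩
  have h6 := MulAction.index_stabilizer_of_transitive I (0 : Fin 6)
  rw [Nat.card_fin] at h6
  have := h6 ▸ (MulAction.stabilizer I (0 : Fin 6)).index_dvd_card
  exact absurd (hI.of_dvd_nat ((by norm_num : 2 ∣ 6).trans this)) (by decide)

/-- The sets through a point. -/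
def pairSet (i : ℕ) : Finset (Fin 6) := Finset.univ.filter fun a : Fin 6 => (ovs.getD a []).any (Nat.beq i)

theorem pairSet_all : ∀ p : Finset (Fin 6), p.card = 2 → ∃ k : Fin 15, p = pairSet (k + 1) := by decide +kernel

theorem pairSet_card : ∀ k : Fin 15, (pairSet (k + 1)).card = 2 := by decide +kernel

theorem mem_pairSet {i : ℕ} {a : Fin 6} : a ∈ pairSet i ↔ i ∈ ovs.getD a [] := by
  simp [pairSet, List.any_eq_true, Nat.beq_eq]

namespace Setup

variable {G : Type*} [Group G] [Finite G] [IsSimpleGroup G] {K : Setup G} (hc : Classes K)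

include hc

theorem mem_RH_iff {x : ℕ} (hx : x < 512) : K.eH x ∈ K.RH ↔ inB bitsR x = true := by
  refine ⟨fun h => ?_, eH_mem_RH hx⟩
  obtain ⟨y, hy, hR, e⟩ := mem_RH.mp h
  have hk : mulS (invS y) x ∈ four := by
    refine (eH_eq_one hc (mulS_lt _ _)).mp ?_
    rw [eH_mul hc (invS_lt _) hx, ← e, ← eH_mul hc (invS_lt _) hy]
    have e' := List.all_eq_true.mp tab_inv y (List.mem_range.mpr hy)
    simp only [Bool.and_eq_true, Nat.beq_eq] at e'
    rw [e'.1]
    exact (eH_eq_one hc (by norm_num)).mpr (by simp [four])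
  have ex : x = mulS y (mulS (invS y) x) := by
    refine K.ι.inj hx (mulS_lt _ _) ?_
    rw [K.ι.map_mul hy (mulS_lt _ _), K.ι.map_mul (invS_lt _) hx, K.ι.map_inv hy, mul_inv_cancel_left]
  rw [ex]
  exact R_mul hy (mulS_lt _ _) hR (four_R hk)

/-- The odd elements of a centralizer form its core. -/
theorem mem_core {a : K.Hat} (ha : a ∈ K.RH) (ha1 : a ≠ 1) {u : K.Hat} (hu : Commute u a) (ou : Odd (orderOf u)) :
    u ∈ core a := by
  set C := centralizer ({a} : Set K.Hat) with hC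
  have hu' : u ∈ C := mem_centralizer_singleton_iff.mpr hu.eq
  set O := (oddPart C (oddClosed_cent hc ha ha1)).subgroupOf C
  haveI : O.Normal := ⟨fun x hx g => mem_subgroupOf.mpr (by
    simpa using oddPart_conj (g := (g : K.Hat)) _ (fun k hk => mul_mem (mul_mem g.2 hk) (inv_mem g.2)) hx)⟩
  have hO : O ≤ pPrimeCore 2 C := CfsgLib.le_pPrimeCore (Nat.coprime_two_right.mpr
    (odd_card_of_odd_elements fun x hx => by rw [← orderOf_coe]; exact (mem_subgroupOf.mp hx).2))
  exact ⟨⟨u, hu'⟩, hO (mem_subgroupOf.mpr ⟨hu', ou⟩), rfl⟩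

/-- A centralizer is generated by a 2-subgroup normalizing the image and its core. -/
theorem cent_le {a : K.Hat} (ha : a ∈ K.RH) (ha1 : a ≠ 1) {J : Subgroup K.Hat}
    (hN : normalizer (K.RH : Set K.Hat) ≤ J) (hJ : core a ≤ J) : centralizer ({a} : Set K.Hat) ≤ J := by
  haveI : _root_.Fact (Nat.Prime 2) := ⟨Nat.prime_two⟩
  set C := centralizer ({a} : Set K.Hat) with hC
  have hRC : K.RH ≤ C := fun r hr => mem_centralizer_singleton_iff.mpr (RH_comm hc hr ha)
  obtain ⟨T, hT⟩ := (isPGroup_RH.of_equiv (subgroupOfEquivOfLe hRC).symm).exists_le_sylow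
  haveI : (pPrimeCore 2 C).Normal := Subgroup.sSup_normal _ (fun _ h => h.1)
  have htop := two_power_index (pPrimeCore 2 C) (fun x hx => by
    obtain ⟨y, hy, e⟩ := mem_core hc ha ha1 (mem_centralizer_singleton_iff.mp x.2 : Commute (x : K.Hat) a)
      (by rwa [orderOf_coe])
    rwa [← Subtype.ext e]) T
  intro x hx
  have hx' : (⟨x, hx⟩ : C) ∈ (T : Subgroup C) ⊔ pPrimeCore 2 C := by rw [htop]; exact mem_top _
  obtain ⟨t, ht, o, ho, e⟩ := mem_sup_of_normal_right.mp hx'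
  rw [show x = (t : K.Hat) * o from (congrArg Subtype.val e).symm]
  refine mul_mem (hN ((move hc (T.isPGroup'.map C.subtype) fun r hr =>
    ⟨⟨r, hRC hr⟩, hT (mem_subgroupOf.mpr hr), rfl⟩).1 ⟨t, ht, rfl⟩)) (hJ ⟨o, ho, rfl⟩)

/-- Two conjugate points are conjugate in the normalizer inside a normal subgroup. -/
theorem transitive_on_pairs {M : Subgroup ↥(normalizer (K.RH : Set K.Hat))}
    (hM : ∀ a ∈ K.RH, a ≠ 1 → ∀ b ∈ K.RH, b ≠ 1 → ∃ g ∈ M, (g : K.Hat) * a * (g : K.Hat)⁻¹ = b) :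
    ∀ p q : Finset (Fin 6), p.card = 2 → q.card = 2 → ∃ σ ∈ M.map (ovHom hc), p.image σ = q := by
  intro p q hp hq
  obtain ⟨k, rfl⟩ := pairSet_all p hp
  obtain ⟨l, rfl⟩ := pairSet_all q hq
  have hk : (k : ℕ) + 1 < 16 := by omega
  have hl : (l : ℕ) + 1 < 16 := by omega
  have hne : ∀ {i}, i < 16 → 0 < i → K.eH (pt i) ≠ 1 := fun {i} hi hi0 h => hi0.ne' (pt_inj hc hi (by norm_num) (by
    rw [h]; exact ((eH_eq_one hc (by decide)).mpr (by decide)).symm))
  obtain ⟨g, hg, e⟩ := hM _ (eH_mem_RH (pt_R hk).1 (pt_R hk).2.1) (hne hk (by omega)) _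
    (eH_mem_RH (pt_R hl).1 (pt_R hl).2.1) (hne hl (by omega))
  refine ⟨ovHom hc g, ⟨g, hg, rfl⟩, ?_⟩
  ext b
  constructor
  · intro hb
    obtain ⟨a, ha, rfl⟩ := Finset.mem_image.mp hb
    rw [mem_pairSet] at ha ⊢
    have := (ovAct_spec hc g a _).mp ((mem_Ov hc hk).mpr ha)
    rw [e, mem_Ov hc hl] at this
    exact this
  · intro hb
    refine Finset.mem_image.mpr ⟨(ovHom hc g)⁻¹ b, mem_pairSet.mpr ((mem_Ov hc hk).mp ?_), by simp⟩
    refine (ovAct_spec hc g _ _).mpr ?_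
    rw [e, ← ovHom_apply hc g, show (ovHom hc g) ((ovHom hc g)⁻¹ b) = b by simp]
    exact (mem_Ov hc hl).mpr (mem_pairSet.mp hb)

theorem ovHom_RH {g : ↥(normalizer (K.RH : Set K.Hat))} (hg : (g : K.Hat) ∈ K.RH) : ovHom hc g = 1 :=
  Equiv.ext fun a => ovAct_eq hc g fun r => by
    constructor
    · rintro ⟨i, hi, rfl⟩
      rw [RH_comm hc hg (eH_mem_RH (pt_R (ov_range hi).2.2).1 (pt_R (ov_range hi).2.2).2.1), mul_inv_cancel_right]
      exact ⟨i, hi, rfl⟩
    · rintro ⟨i, hi, e⟩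
      have hm := eH_mem_RH (K := K) (pt_R (ov_range hi).2.2).1 (pt_R (ov_range hi).2.2).2.1
      have hr : r = K.eH (pt i) := by
        rw [show r = (g : K.Hat)⁻¹ * K.eH (pt i) * g by rw [e]; group, RH_comm hc (inv_mem hg) hm, inv_mul_cancel_right]
      exact hr ▸ ⟨i, hi, rfl⟩

/-- The image is normal. -/
theorem RH_normal : K.RH.Normal := by
  haveI : _root_.Fact (Nat.Prime 2) := ⟨Nat.prime_two⟩
  by_contra hn
  set N := normalizer (K.RH : Set K.Hat) with hNdef
  have hN : N ≠ ⊤ := fun e => hn (normalizer_eq_top_iff.mp e)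
  -- the signalizer functor
  obtain ⟨hWp, -⟩ := Cfsg.Agent.S0217.result (p := 2) K.RH (fun a ha b hb => RH_comm hc ha hb)
    (fun a ha => by rw [pow_two]; exact RH_sq hc ha) (by rw [card_RH hc]; norm_num) (fun a => core a)
    (fun a _ _ => core_le a) (fun a _ _ h => absurd ((odd_core a).of_dvd_nat h) (by decide))
    (fun a ha _ b hb x hx => conj_mem_core (RH_comm hc hb ha) hx)
    (fun a _ _ => Cfsg.Agent.S0205.result (odd_core a))
    (fun a _ _ b hb hb1 x hx => mem_core hc hb hb1 (mem_centralizer_singleton_iff.mp hx.2)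
      ((odd_core a).of_dvd_nat (orderOf_dvd_natCard _ hx.1)))
  set W := ⨆ a : {a : K.Hat // a ∈ K.RH ∧ a ≠ 1}, core (a : K.Hat) with hW
  have hWodd : Odd (Nat.card W) := Nat.odd_iff.mpr (Nat.two_dvd_ne_zero.mp hWp)
  have hNW : N ≤ normalizer (W : Set K.Hat) := fun g hg => by
    refine mem_normalizer_of_conj fun x hx => ?_
    have hle : W ≤ W.comap (MulAut.conj g).toMonoidHom := iSup_le fun a y hy => by
      have hm : g * a * g⁻¹ ∈ K.RH := (mem_normalizer_iff.mp hg _).mp a.2.1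
      have h1 : g * a * g⁻¹ ≠ 1 := fun h => a.2.2 (conj_eq_one_iff.mp h)
      refine le_iSup (fun a : {a : K.Hat // a ∈ K.RH ∧ a ≠ 1} => core (a : K.Hat)) ⟨_, hm, h1⟩ ?_
      refine mem_core hc hm h1 ((show Commute y (a : K.Hat) from CfsgLib.CharTwoEarly.core_comm hy).map
        (MulAut.conj g).toMonoidHom) ?_
      show Odd (orderOf (MulAut.conj g y))
      rw [(MulAut.conj g).orderOf_eq]
      exact (odd_core _).of_dvd_nat (orderOf_dvd_natCard _ hy)
    exact hle hx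
  obtain ⟨J, hJtop, hNJ, hCJ⟩ : ∃ J : Subgroup K.Hat, J ≠ ⊤ ∧ N ≤ J ∧
      ∀ a ∈ K.RH, a ≠ 1 → centralizer ({a} : Set K.Hat) ≤ J := by
    have hle : ∀ a ∈ K.RH, a ≠ 1 → core a ≤ W := fun a ha ha1 =>
      le_iSup (fun a : {a : K.Hat // a ∈ K.RH ∧ a ≠ 1} => core (a : K.Hat)) ⟨a, ha, ha1⟩
    by_cases hW0 : W = ⊥
    · exact ⟨N, hN, le_rfl, fun a ha ha1 => cent_le hc ha ha1 le_rfl (((hle a ha ha1).trans hW0.le).trans bot_le)⟩
    · refine ⟨normalizer (W : Set K.Hat), fun e => hW0 ?_, hNW, fun a ha ha1 =>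
        cent_le hc ha ha1 hNW ((hle a ha ha1).trans le_normalizer)⟩
      haveI := normalizer_eq_top_iff.mp e
      exact le_bot_iff.mp ((CfsgLib.le_pPrimeCore (Nat.coprime_two_right.mpr hWodd)).trans (oddCore_Hat hc).le)
  have hSJ : (K.SH : Subgroup K.Hat) ≤ J := SH_le_normalizer.trans hNJ
  have hRJ : K.RH ≤ J := RH_le_SH.trans hSJ
  -- conjugates of points in `J`
  have hfix : ∀ a ∈ K.RH, a ≠ 1 → ∀ k : K.Hat, k * a * k⁻¹ ∈ J → k ∈ J := by
    intro a ha ha1 k hk
    have hinv : IsPGroup 2 (zpowers (k * a * k⁻¹)) := CfsgLib.AfterFT.CoreSep.zpowers_two (by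
      rw [conj_mul, RH_sq hc ha, mul_one, mul_inv_cancel])
    obtain ⟨m, hm, hmS⟩ := CfsgLib.Bender.Q.exists_conj_sylow hSJ hinv (zpowers_le.mpr hk)
    have hm' := hmS _ (mem_zpowers _)
    rw [show m * (k * a * k⁻¹) * m⁻¹ = m * k * a * (m * k)⁻¹ by group] at hm'
    have hb := RH_closed hc ha hm'
    obtain ⟨h, -, hcomm, hN'⟩ := fusion hc (L := ⊤) le_top ha (mem_top (m * k)) hb
    have hh : h ∈ J := hCJ _ hb (fun e => ha1 (conj_eq_one_iff.mp e)) (mem_centralizer_singleton_iff.mpr hcomm.eq)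
    have h2 := mul_mem (mul_mem (inv_mem hm) (inv_mem hh)) (hNJ hN')
    simpa [mul_assoc] using h2
  set Z : Set K.Hat := {z | ∃ a ∈ K.RH, a ≠ 1 ∧ ∃ g : K.Hat, g * a * g⁻¹ = z} with hZdef
  have hRZ : ∀ a ∈ K.RH, a ≠ 1 → a ∈ Z := fun a ha ha1 => ⟨a, ha, ha1, 1, by simp⟩
  have hRne : K.RH ≠ ⊥ := fun e => by
    have := card_RH hc; rw [e] at this; simp at this
  obtain ⟨w, hwR, hw2, hwc⟩ := CfsgLib.Comp.exists_central_in_normal (p := 2) K.SH.isPGroup' RH_le_SH
    SH_le_normalizer hRne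
  have hw1 : w ≠ 1 := fun e => by simp [e] at hw2
  have hcrit : CfsgLib.Bender.Q.Crit J Z := by
    refine ⟨hJtop, ?_, ?_, ?_, ?_, ⟨K.SH, hSJ, w, hRZ w hwR hw1, hRJ hwR, fun s hs => hwc s hs⟩, ?_⟩
    · rintro _ ⟨a, ha, ha1, g, rfl⟩
      exact (show IsInv a from ⟨ha1, RH_sq hc ha⟩).conj g
    · rintro _ ⟨a, ha, ha1, g, rfl⟩ h
      exact ⟨a, ha, ha1, h * g, by group⟩
    · rintro _ ⟨a, ha, ha1, g, rfl⟩
      exact ⟨g, by simpa [mul_assoc] using hRJ ha⟩
    · rintro _ ⟨a, ha, ha1, k, rfl⟩ hk g hg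
      have hk' := hfix a ha ha1 k hk
      have := hfix a ha ha1 (g * k) (by simpa [mul_assoc] using hg)
      simpa [mul_assoc] using mul_mem this (inv_mem hk')
    · rintro _ ⟨a, ha, ha1, k, rfl⟩ _ ⟨b, hb, hb1, l, rfl⟩ hy hz hne hyz x hx
      have hk := hfix a ha ha1 k hy
      have hl := hfix b hb hb1 l hz
      set v := k⁻¹ * (l * b * l⁻¹) * k with hv
      have hva : Commute v a := by
        show v * a = a * v
        calc v * a = k⁻¹ * (l * b * l⁻¹ * (k * a * k⁻¹)) * k := by rw [hv]; group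
          _ = k⁻¹ * (k * a * k⁻¹ * (l * b * l⁻¹)) * k := by rw [hyz]
          _ = _ := by rw [hv]; group
      set C := centralizer ({a} : Set K.Hat)
      have hRC : K.RH ≤ C := fun r hr => mem_centralizer_singleton_iff.mpr (RH_comm hc hr ha)
      obtain ⟨T, hT⟩ := (isPGroup_RH.of_equiv (subgroupOfEquivOfLe hRC).symm).exists_le_sylow
      have hv2 : v * v = 1 := by
        rw [hv, show k⁻¹ * (l * b * l⁻¹) * k * (k⁻¹ * (l * b * l⁻¹) * k) = k⁻¹ * l * (b * b) * (k⁻¹ * l)⁻¹ by group,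
          RH_sq hc hb, mul_one, mul_inv_cancel]
      have hvC : v ∈ C := mem_centralizer_singleton_iff.mpr hva.eq
      have hvp : IsPGroup 2 ((zpowers v).subgroupOf C) :=
        (CfsgLib.AfterFT.CoreSep.zpowers_two hv2).of_equiv (subgroupOfEquivOfLe (zpowers_le.mpr hvC)).symm
      obtain ⟨Q, hQ⟩ := hvp.exists_le_sylow
      obtain ⟨c, hc'⟩ := MulAction.exists_smul_eq C Q T
      have hcv : (c : K.Hat) * v * (c : K.Hat)⁻¹ ∈ (T : Subgroup C).map C.subtype := by
        refine ⟨c * ⟨v, hvC⟩ * c⁻¹, ?_, rfl⟩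
        rw [← hc', Sylow.smul_def, Sylow.pointwise_smul_def]
        exact ⟨_, hQ (mem_subgroupOf.mpr (mem_zpowers v)), rfl⟩
      obtain ⟨n, hnN, hnS⟩ := CfsgLib.Bender.Q.exists_conj_sylow (M := N) (S := K.SH) SH_le_normalizer
        (T.isPGroup'.map C.subtype)
        (move hc (T.isPGroup'.map C.subtype) fun r hr => ⟨⟨r, hRC hr⟩, hT (mem_subgroupOf.mpr hr), rfl⟩).1
      have hna : n * a * n⁻¹ ∈ K.RH := (mem_normalizer_iff.mp hnN _).mp ha
      have hca : (c : K.Hat) * a * (c : K.Hat)⁻¹ = a := by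
        rw [mem_centralizer_singleton_iff.mp c.2, mul_inv_cancel_right]
      have hv' : n * c * v * (n * c)⁻¹ ∈ K.RH := by
        have h1 := hnS _ hcv
        rw [hv, show n * ((c : K.Hat) * (k⁻¹ * (l * b * l⁻¹) * k) * (c : K.Hat)⁻¹) * n⁻¹ =
          (n * c * k⁻¹ * l) * b * (n * c * k⁻¹ * l)⁻¹ by group] at h1
        have h2 := RH_closed hc hb h1
        rw [hv]
        convert h2 using 1
        group
      have hp : n * c * (a * v) * (n * c)⁻¹ ∈ K.RH := by
        rw [← conj_mul, show n * (c : K.Hat) * a * (n * c)⁻¹ = n * a * n⁻¹ by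
          rw [show n * (c : K.Hat) * a * (n * c)⁻¹ = n * ((c : K.Hat) * a * (c : K.Hat)⁻¹) * n⁻¹ by group, hca]]
        exact mul_mem hna hv'
      have hp1 : n * c * (a * v) * (n * c)⁻¹ ≠ 1 := fun e => hne (by
        have e1 : a * v = 1 := conj_eq_one_iff.mp e
        have e2 : v = a := (inv_eq_of_mul_eq_one_right e1).symm.trans (inv_eq_of_mul_eq_one_right (RH_sq hc ha))
        rw [hv] at e2
        calc k * a * k⁻¹ = k * (k⁻¹ * (l * b * l⁻¹) * k) * k⁻¹ := by rw [e2]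
          _ = _ := by group)
      have hJ : n * c * k⁻¹ ∈ J := mul_mem (mul_mem (hNJ hnN) (hCJ a ha ha1 c.2)) (inv_mem hk)
      have hx' : n * c * k⁻¹ * x * (n * c * k⁻¹)⁻¹ ∈ J := hCJ _ hp hp1 (mem_centralizer_singleton_iff.mpr (by
        have e := mem_centralizer_singleton_iff.mp hx
        rw [show n * (c : K.Hat) * (a * v) * (n * c)⁻¹ =
          n * c * k⁻¹ * (k * a * k⁻¹ * (l * b * l⁻¹)) * (n * c * k⁻¹)⁻¹ by rw [hv]; group, conj_mul, conj_mul, e]))
      simpa [mul_assoc] using mul_mem (mul_mem (inv_mem hJ) hx') hJ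
  set L := closure Z with hLdef
  haveI hLn : L.Normal := ⟨fun x hx g => by
    have hle : L ≤ L.comap (MulAut.conj g).toMonoidHom :=
      (closure_le _).mpr fun y hy => subset_closure (hcrit.conj y hy g)
    exact hle hx⟩
  -- the normal subgroups inside `J` have odd order
  have hker : ∀ x ∈ L, IsInv x → x ∉ J.normalCore := by
    intro x _ hxi hxc
    have hP : ∀ r ∈ K.RH, r ∈ J.normalCore → r = 1 := by
      intro r hr hrc
      by_contra hr1
      exact hJtop (eq_top_iff.mpr fun g _ => hfix r hr hr1 g (normalCore_le J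
        (Normal.conj_mem (normalCore_normal J) r hrc g)))
    have hx2 : IsPGroup 2 (zpowers x) := CfsgLib.AfterFT.CoreSep.zpowers_two hxi.2
    obtain ⟨P, hP'⟩ := hx2.exists_le_sylow
    obtain ⟨g, hg⟩ := MulAction.exists_smul_eq K.Hat P K.SH
    have hyS : g * x * g⁻¹ ∈ (K.SH : Subgroup K.Hat) := by
      rw [← hg, Sylow.smul_def, Sylow.pointwise_smul_def]
      exact ⟨x, hP' (mem_zpowers x), rfl⟩
    have hyc : g * x * g⁻¹ ∈ J.normalCore := Normal.conj_mem (normalCore_normal J) x hxc g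
    have hy1 : g * x * g⁻¹ ≠ 1 := fun e => hxi.1 (conj_eq_one_iff.mp e)
    generalize g * x * g⁻¹ = y at hyS hyc hy1
    -- it centralizes the image, so lies in it
    have hycomm : ∀ r ∈ K.RH, y * r = r * y := by
      intro r hr
      have h1 : y * r * y⁻¹ * r⁻¹ ∈ K.RH :=
        mul_mem ((mem_normalizer_iff.mp (SH_le_normalizer hyS) r).mp hr) (inv_mem hr)
      have h2 : y * r * y⁻¹ * r⁻¹ ∈ J.normalCore := by
        rw [show y * r * y⁻¹ * r⁻¹ = y * (r * y⁻¹ * r⁻¹) by group]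
        exact mul_mem hyc (Normal.conj_mem (normalCore_normal J) _ (inv_mem hyc) r)
      have h3 := hP _ h1 h2
      rwa [mul_inv_eq_one, mul_inv_eq_iff_eq_mul] at h3
    refine hy1 (hP y ?_ hyc)
    obtain ⟨u, hu, rfl⟩ := mem_SH.mp hyS
    refine eH_mem_RH hu ?_
    by_contra hR
    rw [Bool.not_eq_true] at hR
    have h := List.all_eq_true.mp R_cent.1 u (List.mem_range.mpr hu)
    simp only [hR, Bool.false_or, List.any_eq_true, Bool.not_eq_true', List.any_eq_false] at h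
    obtain ⟨r, hr, hk⟩ := h
    have hrR : r < 512 ∧ inB bitsR r = true := by
      refine ⟨by simp only [List.mem_cons, List.not_mem_nil, or_false] at hr; omega, ?_⟩
      exact List.all_eq_true.mp R_cent.2 r (List.mem_cons_of_mem _ hr)
    have e := hycomm _ (eH_mem_RH hrR.1 hrR.2)
    rw [← eH_mul hc hu hrR.1, ← eH_mul hc hrR.1 hu] at e
    set m := mulS (mulS u r) (invS (mulS r u)) with hm
    have hm4 : m ∈ four := by
      refine (eH_eq_one hc (mulS_lt _ _)).mp ?_
      rw [eH_mul hc (mulS_lt _ _) (invS_lt _), e, ← eH_mul hc (mulS_lt _ _) (invS_lt _)]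
      have e' := List.all_eq_true.mp tab_inv (mulS r u) (List.mem_range.mpr (mulS_lt _ _))
      simp only [Bool.and_eq_true, Nat.beq_eq] at e'
      rw [e'.2]
      exact (eH_eq_one hc (by norm_num)).mpr (by simp [four])
    refine hk m hm4 (Nat.beq_eq.mpr ?_)
    refine K.ι.inj (mulS_lt _ _) (mulS_lt _ _) ?_
    rw [K.ι.map_mul (four_lt hm4) (mulS_lt _ _), hm, K.ι.map_mul (mulS_lt _ _) (invS_lt _),
      K.ι.map_inv (mulS_lt _ _), inv_mul_cancel_right]
  have hse := CfsgLib.Bender.Q.stronglyEmbedded_closure CfsgLib.Bender.Q.theoremQ hcrit hker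
  have hconj : ∀ {a b : K.Hat}, a ∈ L → b ∈ L → orderOf a = 2 → orderOf b = 2 → ∃ l ∈ L, l * a * l⁻¹ = b := by
    intro a b ha hb oa ob
    obtain ⟨l, hl⟩ := isConj_iff.mp (CfsgLib.StrongEmb.all_isConj hse (a := (⟨a, ha⟩ : L)) (b := (⟨b, hb⟩ : L))
      (by rwa [Subgroup.orderOf_mk]) (by rwa [Subgroup.orderOf_mk]))
    exact ⟨l, l.2, congrArg Subtype.val hl⟩
  have hRL : K.RH ≤ L := fun a ha => by
    rcases eq_or_ne a 1 with rfl | ha1
    · exact one_mem L
    · exact subset_closure (hRZ a ha ha1)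
  -- the Sylow subgroup meets `L` in the image
  have hLS : ∀ x ∈ L, x ∈ (K.SH : Subgroup K.Hat) → x ∈ K.RH := by
    intro x hxL hxS
    obtain ⟨u, hu, rfl⟩ := mem_SH.mp hxS
    refine eH_mem_RH hu ?_
    by_contra hR
    rw [Bool.not_eq_true] at hR
    have h257 : K.eH 257 ∈ L := by
      have hget : ∀ w < 512, K.eH w ∈ L → inB bitsR (mulS w (invS 257)) = true → K.eH 257 ∈ L := by
        intro w hw hwL hwR
        have h1 := hRL (eH_mem_RH (K := K) (mulS_lt _ _) hwR)
        rw [eH_mul hc hw (invS_lt _)] at h1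
        have h2 := mul_mem (inv_mem h1) hwL
        rw [mul_inv_rev, inv_mul_cancel_right, show (K.eH (invS 257))⁻¹ = K.eH 257 by
          rw [inv_eq_iff_eq_inv, eH, eX, K.local'.ι.map_inv (by norm_num), map_inv]] at h2
        exact h2
      have h := List.all_eq_true.mp escape.1 u (List.mem_range.mpr hu)
      simp only [hR, Bool.false_or, Bool.or_eq_true, List.any_eq_true] at h
      rcases h with h | ⟨g, hg, h⟩
      · exact hget u hu hxL h
      · have hg' : g < 512 := by simp only [List.mem_cons, List.not_mem_nil, or_false] at hg; omega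
        refine hget _ (mulS_lt _ _) ?_ h
        rw [eH_mul hc (mulS_lt _ _) (mulS_lt _ _), eH_mul hc hu hg', eH_mul hc (invS_lt _) (invS_lt _)]
        have e : ∀ {t}, t < 512 → K.eH (invS t) = (K.eH t)⁻¹ := fun {t} ht => by
          rw [eH, eX, K.local'.ι.map_inv ht, map_inv]
        rw [e hu, e hg', show K.eH u * K.eH g * ((K.eH u)⁻¹ * (K.eH g)⁻¹) =
          K.eH u * (K.eH g * (K.eH u)⁻¹ * (K.eH g)⁻¹) by group]
        exact mul_mem hxL (Normal.conj_mem hLn _ (inv_mem hxL) _)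
    have hnR : K.eH 257 ∉ K.RH := fun h => by
      have := (mem_RH_iff hc (by norm_num)).mp h
      rw [escape.2.1] at this
      exact Bool.false_ne_true this
    have ho : orderOf (K.eH 257) = 2 := orderOf_eq_prime (by
      rw [pow_two, ← eH_mul hc (by norm_num) (by norm_num), escape.2.2.1]
      exact (eH_eq_one hc (by norm_num)).mpr (by simp [four])) (fun e => hnR (e ▸ one_mem _))
    obtain ⟨l, -, e⟩ := hconj (hRL hwR) h257 hw2 ho
    exact hnR (e ▸ RH_closed hc hwR (e ▸ eH_mem_SH (by norm_num)))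
  set M : Subgroup N := L.subgroupOf N with hM
  set R' : Subgroup M := (K.RH.subgroupOf N).subgroupOf M with hR'
  have hRN : K.RH ≤ N := le_normalizer
  have hR'2 : IsPGroup 2 R' := by
    refine (isPGroup_RH (K := K)).comap_of_injective (N.subtype.comp M.subtype) ?_
    exact N.subtype_injective.comp M.subtype_injective
  have hmax : ∀ P : Sylow 2 M, R' ≤ (P : Subgroup M) → (P : Subgroup M) = R' := by
    intro P hP
    refine le_antisymm (fun x hx => ?_) hP
    have hP2 : IsPGroup 2 ((P : Subgroup M).map (N.subtype.comp M.subtype)) := P.isPGroup'.map _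
    obtain ⟨n, hnN, hn'⟩ := CfsgLib.Bender.Q.exists_conj_sylow (M := N) (S := K.SH) SH_le_normalizer hP2 (by
      rintro _ ⟨y, -, rfl⟩
      exact y.1.2)
    have h1 := hLS _ (Normal.conj_mem hLn _ (x.2 : ((x : N) : K.Hat) ∈ L) n) (hn' _ ⟨x, hx, rfl⟩)
    show ((x : N) : K.Hat) ∈ K.RH
    exact (mem_normalizer_iff.mp hnN _).mpr h1
  have hodd : Odd R'.index := by
    obtain ⟨P, hP⟩ := hR'2.exists_le_sylow
    rw [← hmax P hP]
    exact Nat.odd_iff.mpr (Nat.two_dvd_ne_zero.mp P.not_dvd_index)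
  refine no_odd_six (M.map (ovHom hc)) ?_ (transitive_on_pairs hc fun a ha ha1 b hb hb1 => ?_)
  · refine hodd.of_dvd_nat ?_
    rw [← relIndex_ker]
    refine index_dvd_of_le (K := (ovHom hc).ker.subgroupOf M) ?_
    intro x hx
    exact MonoidHom.mem_ker.mpr (ovHom_RH hc (mem_subgroupOf.mp (mem_subgroupOf.mp hx)))
  · obtain ⟨l, hl, e⟩ := hconj (hRL ha) (hRL hb) (orderOf_eq_prime (by rw [pow_two]; exact RH_sq hc ha) ha1)
      (orderOf_eq_prime (by rw [pow_two]; exact RH_sq hc hb) hb1)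
    obtain ⟨h, hh, hcomm, hN'⟩ := fusion hc hRL ha hl (by rw [e]; exact hb)
    refine ⟨⟨h * l, hN'⟩, mul_mem hh hl, ?_⟩
    show h * l * a * (h * l)⁻¹ = b
    rw [show h * l * a * (h * l)⁻¹ = h * (l * a * l⁻¹) * h⁻¹ by group, hcomm.eq, mul_inv_cancel_right, e]

end Setup

end CfsgHSSylow
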