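import Cfsg.Agent.Lib.HSSylow.Global
import Cfsg.Agent.Lib.HSSylow.PermFacts
import Cfsg.Agent.Lib.HSSylow.Model
import Cfsg.Agent.Lib.LargeExtra.Odd
import Cfsg.Agent.S3346

/-!
The hypotheses of the recognition of the Higman-Sims group from the centralizer of an involution and a local subgroup.
-/

set_option autoImplicit false

namespace CfsgHSSylow

open Subgroup
open Cfsg (pPrimeCore pCore)

attribute [local irreducible] mulS invS labS conS inB bitsA bitsV bitsR bitsE cent2 coS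

theorem E_facts : ((List.range 512).all fun x => !inB bitsR x || inB bitsE x || inB bitsE (mulS 51 x)) = true ∧
    [0, 2, 8, 10, 32, 34, 40, 42].all (fun v => inB bitsR v) = true ∧ mulS 17 51 = 0 := by
  with_unfolding_all decide +kernel

/-- The coordinates of the abelian subgroup. -/
def abCode (a : ZMod 4 × ZMod 4 × ZMod 4) : ℕ := a.1.val + 4 * a.2.1.val + 16 * a.2.2.val

theorem abCode_spec : (∀ a b : ZMod 4 × ZMod 4 × ZMod 4, abCode (a + b) = mulS (abCode a) (abCode b)) ∧
    (∀ a b : ZMod 4 × ZMod 4 × ZMod 4, abCode a = abCode b → a = b) ∧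
    ∀ a : ZMod 4 × ZMod 4 × ZMod 4, abCode a < 64 := by
  with_unfolding_all decide +kernel

theorem no_one_twenty {n : ℕ} (h720 : n ∣ 720) (h15 : 15 ∣ n) (h8 : 8 ∣ n) (h16 : ¬ 16 ∣ n) :
    n = 120 ∨ n = 360 := by
  obtain ⟨q, rfl⟩ : 120 ∣ n := Nat.Coprime.mul_dvd_of_dvd_of_dvd (by norm_num : Nat.Coprime 15 8) h15 h8
  have hq : q ∣ 6 := Nat.dvd_of_mul_dvd_mul_left (by norm_num : 0 < 120) h720
  have hq' : q ≤ 6 := Nat.le_of_dvd (by norm_num) hq
  interval_cases q <;> omega

namespace Setup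

variable {G : Type*} [Group G] [Finite G] [IsSimpleGroup G] {K : Setup G} (hc : Classes K)

include hc

omit hc in
/-- The action of the centralizer of the central involution on the six sets. -/
noncomputable def psi (hc : Classes K) : K.CZ →* Equiv.Perm (Fin 6) := (ovAll hc).comp K.red

theorem RO_eq : K.RO = K.local'.Rsub := by
  refine le_antisymm (fun g hg => ?_) (R_le_RO hc)
  obtain ⟨x, hx, o, ho, rfl⟩ := (mem_RO hc).mp hg
  rw [(trivial_core hc).1, mem_bot] at ho
  rwa [ho, mul_one]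

theorem ker_psi : (psi hc).ker = K.local'.Rsub := by
  rw [← RO_eq hc, psi, ← MonoidHom.comap_ker, ker_ovAll hc]
  rfl

theorem Rsub_normal : (K.local'.Rsub).Normal := RO_eq hc ▸ RO_normal hc

/-- All points are conjugate in the centralizer. -/
theorem point_trans : ∀ a ∈ K.RH, a ≠ 1 → ∀ b ∈ K.RH, b ≠ 1 →
    ∃ g ∈ (⊤ : Subgroup ↥(normalizer (K.RH : Set K.Hat))), (g : K.Hat) * a * (g : K.Hat)⁻¹ = b := by
  have key : ∀ a ∈ K.RH, a ≠ 1 → ∃ g : K.Hat, g * a * g⁻¹ = K.red (K.eX (rp 0)) := by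
    intro a ha ha1
    obtain ⟨i, hi0, hi, rfl, -⟩ := exists_point hc ha ha1
    obtain ⟨-, -, hl⟩ := pt_invol hi hi0
    obtain ⟨hil, -, -⟩ := pt_R hi
    obtain ⟨h, hh, e⟩ := xr_zero hc (trivial_core hc).2 hl
    obtain ⟨hcon, ec⟩ := exists_con (ι := K.ι) hil (by
      simp only [List.mem_cons, List.not_mem_nil, or_false] at hl; omega : labS (pt i) < 16)
    set u : K.CZ := ⟨h, hh⟩ * ⟨K.ι.e (conS (pt i)), S_le_CZ (K.e_mem hcon)⟩⁻¹ with hu
    refine ⟨K.red u, ?_⟩
    rw [eH, ← map_inv, ← map_mul, ← map_mul]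
    refine congrArg K.red (Subtype.ext ?_)
    rw [Subgroup.coe_mul, Subgroup.coe_mul, Subgroup.coe_inv, coe_eX hil, coe_eX (rp_lt 0), hu, Subgroup.coe_mul,
      Subgroup.coe_inv, ← ec]
    show h * (K.ι.e (conS (pt i)))⁻¹ * _ * (h * (K.ι.e (conS (pt i)))⁻¹)⁻¹ = _
    rw [← e]
    group
  intro a ha ha1 b hb hb1
  obtain ⟨g, hg⟩ := key a ha ha1
  obtain ⟨g', hg'⟩ := key b hb hb1
  refine ⟨⟨g'⁻¹ * g, mem_normalizer_RH hc _⟩, mem_top _, ?_⟩
  show g'⁻¹ * g * a * (g'⁻¹ * g)⁻¹ = b
  rw [show g'⁻¹ * g * a * (g'⁻¹ * g)⁻¹ = g'⁻¹ * (g * a * g⁻¹) * g' by group, hg, ← hg']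
  group

/-- An odd permutation of the six sets. -/
theorem exists_odd_perm : ∃ g : K.CZ, Equiv.Perm.sign (psi hc g) = -1 := by
  refine ⟨K.eX 128, ?_⟩
  have h128 : K.eH 128 ∈ normalizer (K.RH : Set K.Hat) := mem_normalizer_RH hc _
  have hact : ∀ a : Fin 6, ((psi hc) (K.eX 128) a : ℕ) = ovMove.getD a 0 := by
    intro a
    have hb : ovMove.getD a 0 < 6 := by fin_cases a <;> decide
    set c := (psi hc) (K.eX 128) a with hc'
    have hspec : ∀ r, r ∈ K.Ov a ↔ K.eH 128 * r * (K.eH 128)⁻¹ ∈ K.Ov c := ovAct_spec hc ⟨_, h128⟩ a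
    have hchk : ∀ b c : Fin 6, (∀ i ∈ ovs.getD b [], i ∈ ovs.getD c []) → b = c := by decide +kernel
    refine congrArg Fin.val (hchk c ⟨_, hb⟩ fun j hj => ?_)
    have hj16 := (ov_range hj).2.2
    have h1 : (K.eH 128)⁻¹ * K.eH (pt j) * K.eH 128 ∈ K.Ov a := (hspec _).mpr (by
      rw [show K.eH 128 * ((K.eH 128)⁻¹ * K.eH (pt j) * K.eH 128) * (K.eH 128)⁻¹ = K.eH (pt j) by group]
      exact ⟨j, hj, rfl⟩)
    obtain ⟨i, hi, e⟩ := h1
    have h := List.all_eq_true.mp (List.all_eq_true.mp ovs_move a (List.mem_range.mpr a.2)) i hi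
    simp only [List.any_eq_true, Nat.beq_eq] at h
    obtain ⟨l, hl, el⟩ := h
    obtain ⟨hil, hiR, -⟩ := pt_R (ov_range hi).2.2
    have hR : K.eH (cjS 128 (pt i)) = K.eH (pt j) := by
      rw [show K.eH (cjS 128 (pt i)) = K.eH 128 * K.eH (pt i) * (K.eH 128)⁻¹ by
        rw [eH, eH, eH, eX, eX, eX, K.local'.ι.map_cj (by norm_num) hil, map_mul, map_mul, map_inv], e]
      group
    have hcR : inB bitsR (cjS 128 (pt i)) = true := by
      have h := List.all_eq_true.mp (List.all_eq_true.mp normal_AVR 128 (List.mem_range.mpr (by norm_num))) (pt i)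
        (List.mem_range.mpr hil)
      simp only [hiR, Bool.not_true, Bool.false_or, Bool.and_eq_true] at h
      exact h.1
    have hk := List.all_eq_true.mp pt_cover _ (List.mem_range.mpr (cjS_lt 128 (pt i)))
    simp only [hcR, Bool.not_true, Bool.false_or, Bool.and_eq_true, List.any_eq_true, Nat.blt_eq, Nat.beq_eq] at hk
    obtain ⟨⟨hlt, k, hk4, ek⟩, -⟩ := hk
    rw [ek, eH_four hc (pt_R hlt).1 hk4, el] at hR
    rwa [← pt_inj hc (el ▸ hlt) hj16 hR]
  have heq : psi hc (K.eX 128) = Equiv.swap 0 1 * Equiv.swap 2 5 * Equiv.swap 3 4 := by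
    refine Equiv.ext fun a => Fin.ext ?_
    rw [hact]
    fin_cases a <;> decide +kernel
  rw [heq]
  decide +kernel

theorem range_psi : Nat.card (psi hc).range = 120 := by
  haveI : _root_.Fact (Nat.Prime 2) := ⟨Nat.prime_two⟩
  set I := (psi hc).range with hI
  have h720 : Nat.card I ∣ 720 := by
    have := I.card_subgroup_dvd_card
    rwa [Nat.card_perm, Nat.card_fin] at this
  have h8 : Nat.card (Sylow.mapSurjective (psi hc).rangeRestrict_surjective K.local'.S : Sylow 2 I) = 8 := by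
    have hS : Nat.card (K.local'.S : Subgroup K.CZ) = 512 := by
      rw [← K.local'.range_eq, K.local'.ι.card_range]
    have h := relIndex_ker (K := (K.local'.S : Subgroup K.CZ)) (psi hc)
    rw [ker_psi hc] at h
    have hmul := relIndex_mul_relIndex ⊥ K.local'.Rsub (K.local'.S : Subgroup K.CZ) bot_le sub_le
    rw [relIndex_bot_left, relIndex_bot_left, card_R, hS, h] at hmul
    have e : Nat.card ((K.local'.S : Subgroup K.CZ).map (psi hc)) =
        Nat.card (Sylow.mapSurjective (psi hc).rangeRestrict_surjective K.local'.S : Sylow 2 I) := by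
      rw [← card_map_of_injective I.subtype_injective]
      congr 2
      rw [Sylow.coe_mapSurjective, map_map]
      rfl
    omega
  set P : Sylow 2 I := Sylow.mapSurjective (psi hc).rangeRestrict_surjective K.local'.S
  have hd8 : 8 ∣ Nat.card I := by
    have := (P : Subgroup I).card_subgroup_dvd_card
    rwa [h8] at this
  have h16 : ¬ 16 ∣ Nat.card I := fun h => by
    have hm := (P : Subgroup I).card_mul_index
    rw [h8] at hm
    exact P.not_dvd_index (by omega)
  have h15 : 15 ∣ Nat.card I := by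
    classical
    let T : Subgroup (Equiv.Perm (Fin 6)) :=
      { carrier := {σ | (({0, 1} : Finset (Fin 6)).image σ) = {0, 1}}
        one_mem' := by simp
        mul_mem' := fun {a b} ha hb => by
          show Finset.image (fun x => a (b x)) _ = _
          rw [show (fun x => a (b x)) = (⇑a) ∘ ⇑b from rfl, ← Finset.image_image, hb, ha]
        inv_mem' := fun {a} ha => by
          show Finset.image ⇑a⁻¹ _ = _
          conv_lhs => rw [← (show Finset.image (⇑a) {0, 1} = {0, 1} from ha), Finset.image_image]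
          simp }
    have hT : T.index = 15 := by
      have h48 : Nat.card T = 48 := by
        rw [← pair_stab, ← Nat.card_eq_fintype_card]
        rfl
      have := T.card_mul_index
      rw [h48, Nat.card_perm, Nat.card_fin, show Nat.factorial 6 = 720 from rfl] at this
      omega
    haveI : MulAction.IsPretransitive I (Equiv.Perm (Fin 6) ⧸ T) := ⟨fun x y => by
      induction x using QuotientGroup.induction_on with
      | _ s =>
      induction y using QuotientGroup.induction_on with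
      | _ t =>
        have hpair : ∀ s : Equiv.Perm (Fin 6), (({0, 1} : Finset (Fin 6)).image s).card = 2 := fun s => by
          rw [Finset.card_image_of_injective _ s.injective]; rfl
        obtain ⟨σ, hσ, e⟩ := transitive_on_pairs hc (M := ⊤) (point_trans hc) _ _ (hpair s) (hpair t)
        obtain ⟨g, -, rfl⟩ := hσ
        obtain ⟨u, hu⟩ := red_surj (g : K.Hat)
        have hmem : ovHom hc g ∈ I := ⟨u, by
          show ovHom hc ⟨K.red u, _⟩ = _
          exact congrArg (ovHom hc) (Subtype.ext hu)⟩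
        refine ⟨⟨_, hmem⟩, ?_⟩
        show ((ovHom hc g * s : Equiv.Perm (Fin 6)) : Equiv.Perm (Fin 6) ⧸ T) = t
        refine QuotientGroup.eq.mpr ?_
        show Finset.image ⇑((ovHom hc g * s)⁻¹ * t) _ = _
        rw [Equiv.Perm.coe_mul, ← Finset.image_image, ← e, Finset.image_image, Finset.image_image]
        simp [Function.comp_def]⟩
    have := MulAction.index_stabilizer_of_transitive I ((1 : Equiv.Perm (Fin 6)) : Equiv.Perm (Fin 6) ⧸ T)
    rw [← index_eq_card, hT] at this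
    exact this ▸ index_dvd_card _
  refine (no_one_twenty h720 h15 hd8 h16).resolve_right fun h360 => ?_
  have hidx : I.index = 2 := by
    have := I.card_mul_index
    rw [h360, Nat.card_perm, Nat.card_fin, show Nat.factorial 6 = 720 from rfl] at this
    omega
  obtain ⟨g, hg⟩ := exists_odd_perm hc
  have hmem : psi hc g ∈ I := ⟨g, rfl⟩
  rw [Equiv.Perm.eq_alternatingGroup_of_index_eq_two hidx, Equiv.Perm.mem_alternatingGroup, hg] at hmem
  exact absurd hmem (by decide)

theorem quot_five : Nonempty (K.CZ ⧸ pCore 2 K.CZ ≃* Equiv.Perm (Fin 5)) ∧ pCore 2 K.CZ = K.local'.Rsub := by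
  obtain ⟨e5⟩ := six_one_twenty _ (range_psi hc)
  set χ : K.CZ →* Equiv.Perm (Fin 5) := e5.toMonoidHom.comp (psi hc).rangeRestrict
  have hsurj : Function.Surjective χ := e5.surjective.comp (psi hc).rangeRestrict_surjective
  have hker : χ.ker = K.local'.Rsub := by
    rw [← ker_psi hc, ← (psi hc).ker_rangeRestrict]
    ext x
    simp only [MonoidHom.mem_ker, χ, MonoidHom.comp_apply, MulEquiv.coe_toMonoidHom, EmbeddingLike.map_eq_one_iff]
  haveI : (pCore 2 K.CZ).Normal := Subgroup.sSup_normal _ (fun _ h => h.1)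
  haveI := Normal.map (inferInstance : (pCore 2 K.CZ).Normal) χ hsurj
  have hle : pCore 2 K.CZ ≤ χ.ker := fun x hx => by
    have h := perm_five_two ((pCore 2 K.CZ).map χ) ((CfsgLib.isPGroup_pCore 2).map χ)
    exact MonoidHom.mem_ker.mpr (mem_bot.mp (h ▸ mem_map_of_mem χ hx))
  have heq : pCore 2 K.CZ = K.local'.Rsub := by
    haveI := Rsub_normal hc
    exact le_antisymm (hker ▸ hle) (CfsgLib.le_pCore (K.local'.S.isPGroup'.to_le sub_le))
  refine ⟨⟨(QuotientGroup.quotientMulEquivOfEq ?_).trans (QuotientGroup.quotientKerEquivOfSurjective χ hsurj)⟩, heq⟩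
  rw [heq, hker]

theorem R_image : K.Rsub = (pCore 2 K.CZ).map K.CZ.subtype := by
  rw [(quot_five hc).2]
  ext g
  rw [mem_map]
  constructor
  · rintro ⟨x, hx, hR, rfl⟩
    exact ⟨K.eX x, (e_mem_sub hx).mpr hR, coe_eX hx⟩
  · rintro ⟨_, ⟨x, hx, hR, rfl⟩, rfl⟩
    exact ⟨x, hx, hR, (coe_eX hx).symm⟩

/-- The centralizer of the layer. -/
theorem ker_act_eq : K.act.ker = K.Asub.subgroupOf K.NV := by
  haveI : _root_.Fact (Nat.Prime 2) := ⟨Nat.prime_two⟩
  refine le_antisymm ?_ fun g hg => mem_ker_act.mpr fun v hv => A_commute (mem_subgroupOf.mp hg) (V_le_A hv)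
  set C := centralizer (K.Vsub : Set G) with hC
  have hodd : ∀ y ∈ oddPart C oddClosed_CV.1, y = 1 := by
    intro y hy
    have hyX : y ∈ K.CZ := mem_CZ.mpr ((mem_centralizer_iff.mp hy.1 _ z_mem_V).symm)
    have hcomm : ∀ x < 512, inB bitsR x = true → y * K.ι.e x = K.ι.e x * y := by
      intro x hx hR
      have hrN : K.ι.e x ∈ K.NV := S_le_normalizer_V (K.e_mem hx)
      haveI := Rsub_normal hc
      have h1 : (⟨y, hyX⟩ : K.CZ) * K.eX x * (⟨y, hyX⟩ : K.CZ)⁻¹ * (K.eX x)⁻¹ ∈ K.local'.Rsub :=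
        mul_mem (Normal.conj_mem inferInstance _ ((e_mem_sub hx).mpr hR) _) (inv_mem ((e_mem_sub hx).mpr hR))
      have h2 : y * K.ι.e x * y⁻¹ * (K.ι.e x)⁻¹ ∈ oddPart C oddClosed_CV.1 := by
        rw [show y * K.ι.e x * y⁻¹ * (K.ι.e x)⁻¹ = y * (K.ι.e x * y⁻¹ * (K.ι.e x)⁻¹) by group]
        refine mul_mem hy (oddPart_conj _ (fun k hk => mem_centralizer_iff.mpr fun v hv => ?_) (inv_mem hy))
        have hv' : (K.ι.e x)⁻¹ * v * K.ι.e x ∈ K.Vsub := by
          simpa using (mem_normalizer_iff.mp (inv_mem hrN) v).mp hv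
        have := (show Commute ((K.ι.e x)⁻¹ * v * K.ι.e x) k from mem_centralizer_iff.mp hk _ hv').map
          (MulAut.conj (K.ι.e x)).toMonoidHom
        simpa [Commute, SemiconjBy, mul_assoc] using this
      obtain ⟨w, hw, -, ew⟩ := h1
      have e : y * K.ι.e x * y⁻¹ * (K.ι.e x)⁻¹ = K.ι.e w := by
        have e' := congrArg Subtype.val ew
        rw [show ((K.local'.ι.e w : K.CZ) : G) = K.ι.e w from coe_eX hw] at e'
        rw [e']
        simp [coe_eX hx]
      rw [e] at h2
      have h1' : K.ι.e w = 1 := by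
        obtain ⟨n, hn⟩ := IsPGroup.iff_orderOf.mp K.S.isPGroup' ⟨_, K.e_mem hw⟩
        rw [Subgroup.orderOf_mk] at hn
        have ho := h2.2
        rw [hn] at ho
        rcases Nat.eq_zero_or_pos n with h0 | h0
        · rwa [h0, pow_zero, orderOf_eq_one_iff] at hn
        · exact absurd (ho.of_dvd_nat (dvd_pow_self 2 h0.ne')) (by decide)
      rw [h1', mul_inv_eq_one, mul_inv_eq_iff_eq_mul] at e
      exact e
    have hr : K.red ⟨y, hyX⟩ ∈ centralizer (K.RH : Set K.Hat) := by
      refine mem_centralizer_iff.mpr ?_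
      rintro _ ⟨_, ⟨x, hx, hR, rfl⟩, rfl⟩
      rw [← map_mul, ← map_mul]
      refine congrArg K.red (Subtype.ext ?_)
      rw [Subgroup.coe_mul, Subgroup.coe_mul, show ((K.local'.ι.e x : K.CZ) : G) = K.ι.e x from coe_eX hx]
      exact (hcomm x hx hR).symm
    rw [cent_RH hc] at hr
    have hyR : (⟨y, hyX⟩ : K.CZ) ∈ K.local'.Rsub := RO_eq hc ▸ hr
    obtain ⟨w, hw, -, ew⟩ := hyR
    have e' : K.ι.e w = y := by
      rw [← coe_eX (K := K) hw]; exact congrArg Subtype.val ew
    obtain ⟨n, hn⟩ := IsPGroup.iff_orderOf.mp K.S.isPGroup' ⟨_, K.e_mem hw⟩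
    rw [Subgroup.orderOf_mk, e'] at hn
    have ho := hy.2
    rw [hn] at ho
    rcases Nat.eq_zero_or_pos n with h0 | h0
    · rwa [h0, pow_zero, orderOf_eq_one_iff] at hn
    · exact absurd (ho.of_dvd_nat (dvd_pow_self 2 h0.ne')) (by decide)
  intro g hg
  have hgC : (g : G) ∈ C := mem_centralizer_iff.mpr fun v hv => (mem_ker_act.mp hg v hv).eq.symm
  have hp : IsPGroup 2 K.act.ker := fun ⟨x, hx⟩ => by
    obtain ⟨k, m, hm, e⟩ := Nat.exists_eq_two_pow_mul_odd (orderOf_pos (x : G)).ne'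
    refine ⟨k, Subtype.ext (Subtype.ext ?_)⟩
    show (x : G) ^ 2 ^ k = 1
    refine hodd _ ⟨pow_mem (mem_centralizer_iff.mpr fun v hv => (mem_ker_act.mp hx v hv).eq.symm) _,
      hm.of_dvd_nat (orderOf_dvd_of_pow_eq_one ?_)⟩
    rw [← pow_mul, ← e, pow_orderOf_eq_one]
  obtain ⟨P, hP⟩ := hp.exists_le_sylow
  obtain ⟨n, hn⟩ := MulAction.exists_smul_eq K.NV P (K.S.subtype S_le_normalizer_V)
  have hmem : n * (n⁻¹ * g * n) * n⁻¹ ∈ ((n • P : Sylow 2 K.NV) : Subgroup K.NV) := by
    rw [Sylow.smul_def, Sylow.pointwise_smul_def]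
    exact ⟨_, hP (by simpa using Normal.conj_mem (inferInstance : K.act.ker.Normal) g hg n⁻¹), rfl⟩
  rw [hn, show n * (n⁻¹ * g * n) * n⁻¹ = g by group] at hmem
  exact mem_subgroupOf.mpr (mem_A_of_centralizes (mem_subgroupOf.mp hmem) (mem_ker_act.mp hg))

/-- The largest normal 2-subgroup of the normalizer of the layer. -/
theorem pCore_NV : pCore 2 K.NV = K.Asub.subgroupOf K.NV := by
  haveI : _root_.Fact (Nat.Prime 2) := ⟨Nat.prime_two⟩
  haveI : (K.Asub.subgroupOf K.NV).Normal := ker_act_eq hc ▸ inferInstance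
  refine le_antisymm ?_ (CfsgLib.le_pCore ((K.S.isPGroup'.to_le sub_le : IsPGroup 2 K.Asub).of_equiv
    (subgroupOfEquivOfLe (sub_le.trans S_le_normalizer_V)).symm))
  haveI : (pCore 2 K.NV).Normal := Subgroup.sSup_normal _ (fun _ h => h.1)
  intro g hg
  rw [← ker_act_eq hc]
  refine mem_ker_act.mpr fun v hv => ?_
  obtain ⟨x, hx, hT, rfl⟩ := hv
  have hw := V_cases hx hT
  by_cases hx0 : x = 0
  · rw [hx0, K.ι.map_zero]; exact Commute.one_right _
  obtain ⟨n, hn, en⟩ := layer_move hc hw hx0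
  obtain ⟨P, hP⟩ := (CfsgLib.isPGroup_pCore 2 (G := K.NV)).exists_le_sylow
  obtain ⟨m, hm⟩ := MulAction.exists_smul_eq K.NV P (K.S.subtype S_le_normalizer_V)
  have h' : m⁻¹ * ((⟨n, hn⟩ : K.NV) * g * (⟨n, hn⟩ : K.NV)⁻¹) * m⁻¹⁻¹ ∈ pCore 2 K.NV :=
    Normal.conj_mem inferInstance _ (Normal.conj_mem inferInstance g hg _) _
  have hS : (⟨n, hn⟩ : K.NV) * g * (⟨n, hn⟩ : K.NV)⁻¹ ∈ ((K.S.subtype S_le_normalizer_V : Sylow 2 K.NV) : Subgroup K.NV) := by
    rw [← hm, Sylow.smul_def, Sylow.pointwise_smul_def]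
    exact ⟨_, hP h', by simp [mul_assoc]⟩
  have hz : Commute (n * (g : G) * n⁻¹) K.z := K.z_comm (mem_subgroupOf.mp hS)
  rw [← en] at hz
  have := hz.map (MulAut.conj n⁻¹).toMonoidHom
  simpa [mul_assoc] using this

theorem abelian_iso : Nonempty (pCore 2 K.NV ≃* Multiplicative (ZMod 4 × ZMod 4 × ZMod 4)) := by
  obtain ⟨hhom, hinj, hlt⟩ := abCode_spec
  have hmem : ∀ a, K.ι.e (abCode a) ∈ K.Asub := fun a =>
    (e_mem_sub (by have := hlt a; omega)).mpr ((A_iff (by have := hlt a; omega)).1.mpr (hlt a))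
  let f : Multiplicative (ZMod 4 × ZMod 4 × ZMod 4) →* K.Asub := MonoidHom.mk'
    (fun a => ⟨K.ι.e (abCode a.toAdd), hmem _⟩) fun a b => Subtype.ext (by
      show K.ι.e (abCode (a.toAdd + b.toAdd)) = _
      rw [hhom, K.ι.map_mul (by have := hlt a.toAdd; omega) (by have := hlt b.toAdd; omega)]
      rfl)
  have hf : Function.Bijective f := by
    refine (Nat.bijective_iff_injective_and_card f).mpr ⟨fun a b e => ?_, ?_⟩
    · exact Multiplicative.toAdd.injective (hinj _ _ (K.ι.inj (by have := hlt a.toAdd; omega)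
        (by have := hlt b.toAdd; omega) (congrArg Subtype.val e)))
    · rw [card_A, Nat.card_congr Multiplicative.toAdd, Nat.card_prod, Nat.card_prod, Nat.card_zmod]
  exact ⟨((MulEquiv.subgroupCongr (pCore_NV hc)).trans
    (subgroupOfEquivOfLe (sub_le.trans S_le_normalizer_V))).trans (MulEquiv.ofBijective f hf).symm⟩

/-- The recognition. -/
theorem isoHS : Cfsg.Spor.IsoHS G := by
  haveI : _root_.Fact (Nat.Prime 2) := ⟨Nat.prime_two⟩
  obtain ⟨eH'⟩ := (quot_five hc).1
  obtain ⟨eOM⟩ := abelian_iso hc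
  have eM : K.NV ⧸ pCore 2 K.NV ≃* GL (Fin 3) (ZMod 2) :=
    (QuotientGroup.quotientMulEquivOfEq ((pCore_NV hc).trans (ker_act_eq hc).symm)).trans
      (QuotientGroup.quotientKerEquivOfSurjective K.act (act_surjective hc))
  have h17 : (17 : ℕ) < 512 := by norm_num
  set Cy := zpowers (K.ι.e 17) with hCy
  have hc17 : K.ι.e 17 * K.ι.e 17 = K.z := by rw [← K.ι.map_mul h17 h17, c_lab.2.1]; rfl
  have hcyc : ∀ g : G, g ∈ Cy ↔ ∃ k ∈ four, K.ι.e k = g := by
    intro g
    have hX : K.ι.e 17 ∈ K.CZ := S_le_CZ (K.e_mem h17)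
    constructor
    · rintro ⟨i, rfl⟩
      obtain ⟨k, hk, ek⟩ := (zpowers_four (K := K) (g := K.eX 17 ^ i)).mp ⟨i, rfl⟩
      refine ⟨k, hk, ?_⟩
      have e := congrArg Subtype.val ek
      rw [coe_eX (four_lt hk), Subgroup.coe_zpow, coe_eX h17] at e
      exact e
    · rintro ⟨k, hk, rfl⟩
      obtain ⟨i, hi⟩ := (zpowers_four (K := K) (g := K.eX k)).mpr ⟨k, hk, rfl⟩
      refine ⟨i, ?_⟩
      have e := congrArg Subtype.val hi
      rw [Subgroup.coe_zpow, coe_eX h17, coe_eX (four_lt hk)] at e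
      exact e
  have hcard : Nat.card Cy = 4 := by
    rw [hCy, Nat.card_zpowers]
    exact orderOf_eq_prime_pow (p := 2) (n := 1)
      (by
        rw [pow_one, pow_two, hc17]
        intro e
        have := K.orderOf_z
        rw [e, orderOf_one] at this
        norm_num at this)
      (by
        rw [show 2 ^ (1 + 1) = 2 * 2 from rfl, pow_mul, pow_two (K.ι.e 17), hc17, pow_two]
        exact (by rw [← pow_two, ← K.orderOf_z, pow_orderOf_eq_one] : K.z * K.z = 1))
  have hRc : ∀ x < 512, inB bitsR x = true → ∀ k ∈ four, Commute (K.ι.e x) (K.ι.e k) := by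
    intro x hx hR k hk
    refine (K.ι.commute_iff hx (four_lt hk)).mpr ?_
    have := List.all_eq_true.mp R_central x (List.mem_range.mpr hx)
    simp only [hR, Bool.not_true, Bool.false_or, List.all_eq_true, Nat.beq_eq] at this
    exact this k hk
  have hCyle : Cy ≤ K.Rsub ⊓ centralizer (K.Rsub : Set G) := by
    intro g hg
    obtain ⟨k, hk, rfl⟩ := (hcyc g).mp hg
    refine ⟨(e_mem_sub (four_lt hk)).mpr (four_R hk), mem_centralizer_iff.mpr ?_⟩
    rintro _ ⟨x, hx, hR, rfl⟩
    exact (hRc x hx hR k hk).eq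
  have hEx : ∀ x < 512, inB bitsE x = true → inB bitsR x = true ∧
      ((∀ y, inB bitsE y = true → y < 512 → Commute (K.ι.e x) (K.ι.e y)) → x = 0 ∨ x = 34) := by
    intro x hx hE
    have h := List.all_eq_true.mp E_shape.1 x (List.mem_range.mpr hx)
    simp only [hE, Bool.not_true, Bool.false_or, Bool.and_eq_true, Bool.or_eq_true, Nat.beq_eq, List.any_eq_true,
      Bool.not_eq_true'] at h
    refine ⟨h.1, fun hall => h.2.resolve_right ?_⟩
    rintro ⟨r, hr, hne⟩
    have hrE : inB bitsE r = true := List.all_eq_true.mp E_shape.2.1 r (by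
      simp only [List.mem_cons, List.not_mem_nil, or_false] at hr ⊢; omega)
    have hr5 : r < 512 := by simp only [List.mem_cons, List.not_mem_nil, or_false] at hr; omega
    rw [(K.ι.commute_iff hx hr5).mp (hall r hrE hr5), Nat.beq_refl] at hne
    exact Bool.false_ne_true hne.symm
  have hEle : K.Esub ≤ K.Rsub := by
    rintro _ ⟨x, hx, hE, rfl⟩
    exact (e_mem_sub hx).mpr (hEx x hx hE).1
  have hzE : K.z ∈ K.Esub := (e_mem_sub (by norm_num)).mpr (List.all_eq_true.mp E_shape.2.1 34 (by simp))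
  have hEex : Cfsg.IsExtraspecial 2 K.Esub := by
    have hmemE : ∀ y, inB bitsE y = true → y < 512 → K.ι.e y ∈ K.Esub := fun y h hy => (e_mem_sub hy).mpr h
    refine CfsgLargeExtra.isExtraspecial_of_ext2 (z := ⟨K.z, hzE⟩) ⟨?_, ?_, ?_⟩
      (a := ⟨K.ι.e 2, hmemE 2 (List.all_eq_true.mp E_shape.2.1 2 (by simp)) (by norm_num)⟩)
      (b := ⟨K.ι.e 64, hmemE 64 (List.all_eq_true.mp E_shape.2.1 64 (by simp)) (by norm_num)⟩) ?_
    · intro e
      have e' : K.z = 1 := congrArg Subtype.val e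
      have := K.orderOf_z
      rw [e', orderOf_one] at this
      norm_num at this
    · rintro ⟨_, x, hx, hE, rfl⟩
      constructor
      · intro hcen
        rcases (hEx x hx hE).2 (fun y hy hy5 => (congrArg Subtype.val
          (mem_center_iff.mp hcen ⟨_, hmemE y hy hy5⟩)).symm) with rfl | rfl
        · exact Or.inl (Subtype.ext K.ι.map_zero)
        · exact Or.inr rfl
      · rintro (e | e)
        · rw [e]; exact one_mem _
        · rw [e]
          refine mem_center_iff.mpr fun q => Subtype.ext ?_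
          exact (K.z_comm (sub_le (K := K) q.2)).eq
    · rintro ⟨_, x, hx, hE, rfl⟩
      have h := List.all_eq_true.mp R_shape.1 x (List.mem_range.mpr hx)
      simp only [(hEx x hx hE).1, Bool.not_true, Bool.false_or, Bool.and_eq_true, Bool.or_eq_true, Nat.beq_eq] at h
      rcases h.2 with e | e
      · exact Or.inl (Subtype.ext (by
          show K.ι.e x * K.ι.e x = 1
          rw [← K.ι.map_mul hx hx, e, K.ι.map_zero]))
      · exact Or.inr (Subtype.ext (by
          show K.ι.e x * K.ι.e x = K.z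
          rw [← K.ι.map_mul hx hx, e]; rfl))
    · intro e
      have e' := (K.ι.commute_iff (by norm_num) (by norm_num)).mp (congrArg Subtype.val e : _ = _)
      exact absurd e' (by with_unfolding_all decide +kernel)
  have hprod : Cy ⊔ K.Esub = K.Rsub := by
    refine le_antisymm (sup_le (fun g hg => (hCyle hg).1) hEle) ?_
    rintro _ ⟨x, hx, hR, rfl⟩
    have h := List.all_eq_true.mp E_facts.1 x (List.mem_range.mpr hx)
    simp only [hR, Bool.not_true, Bool.false_or, Bool.or_eq_true] at h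
    rcases h with h | h
    · exact mem_sup_right ((e_mem_sub hx).mpr h)
    · have e : K.ι.e x = K.ι.e 17 * K.ι.e (mulS 51 x) := by
        rw [K.ι.map_mul (by norm_num) hx, ← mul_assoc, ← K.ι.map_mul h17 (by norm_num), E_facts.2.2, K.ι.map_zero,
          one_mul]
      rw [e]
      exact mul_mem_sup (mem_zpowers _) ((e_mem_sub (mulS_lt _ _)).mpr h)
  have hmeet : Cy ⊓ K.Esub = K.Esub ⊓ centralizer (K.Esub : Set G) := by
    ext g
    constructor
    · rintro ⟨hg, hgE⟩
      exact ⟨hgE, centralizer_le hEle (hCyle hg).2⟩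
    · rintro ⟨⟨x, hx, hE, rfl⟩, hcen⟩
      refine ⟨(hcyc _).mpr ⟨x, ?_, rfl⟩, (e_mem_sub hx).mpr hE⟩
      rcases (hEx x hx hE).2 (fun y hy hy5 => (mem_centralizer_iff.mp hcen _ ((e_mem_sub hy5).mpr hy)).symm) with
        rfl | rfl <;> simp [four]
  have hVR : K.Vsub ≤ K.Rsub := by
    rintro _ ⟨x, hx, hT, rfl⟩
    exact (e_mem_sub hx).mpr (List.all_eq_true.mp E_facts.2.1 x (V_cases hx hT))
  exact Cfsg.Agent.S3346.result K.z K.orderOf_z K.CZ rfl K.Rsub (R_image hc) Cy K.Esub
    (by rw [hCy]; infer_instance) hcard hCyle hEle hEex card_E hprod hmeet eH' K.Vsub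
    ⟨⟨fun a b => Subtype.ext (A_commute (V_le_A a.2) (V_le_A b.2)).eq⟩⟩
    (fun v hv => by rw [pow_two]; exact V_sq hv) card_V hVR K.NV rfl eOM eM

end Setup

end CfsgHSSylow
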