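import Cfsg.Agent.Lib.HSSylow.Quot

/-!
The image of the subgroup of order 64 in the reduced centralizer: it is elementary abelian, strongly closed in the
image of the Sylow subgroup, and the centralizers of its elements have normal odd parts.
-/

set_option autoImplicit false

namespace CfsgHSSylow

open Subgroup
open Cfsg (pPrimeCore)

attribute [local irreducible] mulS invS labS conS inB bitsA bitsV bitsR bitsE cent2 coS

theorem OddClosed.comap_inj {G H : Type*} [Group G] [Group H] {K : Subgroup H} (h : OddClosed K) {f : G →* H}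
    (hf : Function.Injective f) : OddClosed (K.comap f) := by
  intro a ha b hb oa ob
  rw [← orderOf_injective f hf] at oa ob
  rw [← orderOf_injective f hf, map_mul]
  exact h _ ha _ hb oa ob

theorem R_central : (List.range 512).all (fun x => !inB bitsR x ||
    four.all fun k => Nat.beq (mulS x k) (mulS k x)) = true := by with_unfolding_all decide +kernel

theorem four_sq : four.all (fun k => (Nat.beq k 0 || Nat.beq k 34) || Nat.beq (mulS k k) 34) = true := by
  with_unfolding_all decide +kernel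

namespace Setup

variable {G : Type*} [Group G] {K : Setup G}

theorem four_R {k : ℕ} (hk : k ∈ four) : inB bitsR k = true := List.all_eq_true.mp four_in_R k hk

theorem pt_R {i : ℕ} (hi : i < 16) : pt i < 512 ∧ inB bitsR (pt i) = true ∧ coS (pt i) = i := by
  have h := List.all_eq_true.mp pt_spec i (List.mem_range.mpr hi)
  simp only [Bool.and_eq_true, Nat.blt_eq, Nat.beq_eq] at h
  exact ⟨h.1.1.1, h.1.1.2, h.1.2⟩

theorem R_mul {x y : ℕ} (hx : x < 512) (hy : y < 512) (hR : inB bitsR x = true) (hS : inB bitsR y = true) :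
    inB bitsR (mulS x y) = true := (closed_spec closedR).2.2 x hx hR y hy hS

theorem coS_four {x k : ℕ} (hx : x < 512) (hR : inB bitsR x = true) (hk : k ∈ four) :
    coS (mulS x k) = coS x ∧ coS x < 16 := by
  have h := List.all_eq_true.mp pt_cover x (List.mem_range.mpr hx)
  simp only [hR, Bool.not_true, Bool.false_or, Bool.and_eq_true, Nat.blt_eq, List.all_eq_true, Nat.beq_eq] at h
  exact ⟨h.2 k hk, h.1.1⟩

/-- A label of an involution. -/
theorem lab_invol {x : ℕ} (hx : x < 512) (h0 : x ≠ 0) (hxx : mulS x x = 0) : labS x < 9 := by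
  have h := List.all_eq_true.mp lab_inv.1 x (List.mem_range.mpr hx)
  simp only [Bool.or_eq_true, Nat.beq_eq, Bool.not_eq_true', Nat.blt_eq] at h
  rcases h with (h | h) | h
  · exact absurd h h0
  · simp [hxx] at h
  · exact h

/-- The coset representatives are involutions. -/
theorem pt_invol {i : ℕ} (hi : i < 16) (hi0 : 0 < i) :
    pt i ≠ 0 ∧ mulS (pt i) (pt i) = 0 ∧ labS (pt i) ∈ [0, 5, 6, 7] := by
  obtain ⟨hlt, hR, hco⟩ := pt_R hi
  have h := List.all_eq_true.mp pt_spec i (List.mem_range.mpr hi)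
  simp only [Bool.and_eq_true, Bool.or_eq_true, Nat.blt_eq, Nat.beq_eq, List.any_eq_true] at h
  obtain ⟨a, ha, e⟩ := h.2.resolve_left hi0.ne'
  have hl : labS (pt i) ∈ [0, 5, 6, 7] := e ▸ ha
  refine ⟨fun h0 => ?_, ?_, hl⟩
  · rw [h0] at hco
    have : coS 0 = 0 := by with_unfolding_all decide +kernel
    omega
  · have hs := List.all_eq_true.mp R_shape.1 (pt i) (List.mem_range.mpr hlt)
    simp only [hR, Bool.not_true, Bool.false_or, Bool.and_eq_true, Bool.or_eq_true, Nat.beq_eq] at hs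
    refine hs.2.resolve_right fun h34 => ?_
    have := (lab_of_sq hlt h34).1
    simp only [List.mem_cons, List.not_mem_nil, or_false] at hl
    omega

variable [Finite G]

theorem red_surj : Function.Surjective K.red := QuotientGroup.mk'_surjective _

/-- The Sylow subgroup of the reduced group. -/
noncomputable def SH (K : Setup G) : Sylow 2 K.Hat := Sylow.mapSurjective red_surj K.local'.S

theorem mem_SH {r : K.Hat} : r ∈ (K.SH : Subgroup K.Hat) ↔ ∃ x < 512, K.eH x = r := by
  rw [SH, Sylow.coe_mapSurjective, mem_map]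
  constructor
  · rintro ⟨a, ha, rfl⟩
    obtain ⟨x, hx, rfl⟩ := K.local'.exists_code ha
    exact ⟨x, hx, rfl⟩
  · rintro ⟨x, hx, rfl⟩
    exact ⟨_, K.local'.e_mem hx, rfl⟩

variable [IsSimpleGroup G]

theorem eH_mem_SH {x : ℕ} (hx : x < 512) : K.eH x ∈ (K.SH : Subgroup K.Hat) := mem_SH.mpr ⟨x, hx, rfl⟩

theorem eH_mem_RH {x : ℕ} (hx : x < 512) (hR : inB bitsR x = true) : K.eH x ∈ K.RH := mem_RH.mpr ⟨x, hx, hR, rfl⟩

theorem RH_le_SH : K.RH ≤ (K.SH : Subgroup K.Hat) := fun _ hr => by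
  obtain ⟨x, hx, -, rfl⟩ := mem_RH.mp hr
  exact eH_mem_SH hx

theorem isPGroup_RH : IsPGroup 2 K.RH := K.SH.isPGroup'.to_le RH_le_SH

theorem SH_le_normalizer : (K.SH : Subgroup K.Hat) ≤ normalizer (K.RH : Set K.Hat) := by
  intro s hs
  obtain ⟨x, hx, rfl⟩ := mem_SH.mp hs
  have key : ∀ {s : K.CZ}, s ∈ (K.local'.S : Subgroup K.CZ) → ∀ r ∈ K.RH, K.red s * r * (K.red s)⁻¹ ∈ K.RH := by
    intro s hs r hr
    obtain ⟨u, hu, rfl⟩ := hr
    exact ⟨_, R_normal hs hu, by simp⟩
  refine mem_normalizer_iff.mpr fun r => ⟨key (K.local'.e_mem hx) r, fun h => ?_⟩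
  have := key (inv_mem (K.local'.e_mem hx)) _ h
  simpa [mul_assoc] using this

variable (hc : Classes K)

include hc

theorem RH_sq {r : K.Hat} (hr : r ∈ K.RH) : r * r = 1 := by
  obtain ⟨x, hx, hR, rfl⟩ := mem_RH.mp hr
  rw [← eH_mul hc hx hx]
  refine (eH_eq_one hc (mulS_lt _ _)).mpr ?_
  have h := List.all_eq_true.mp R_shape.1 x (List.mem_range.mpr hx)
  simp only [hR, Bool.not_true, Bool.false_or, Bool.and_eq_true, Bool.or_eq_true, Nat.beq_eq] at h
  rcases h.2 with e | e <;> simp [e, four]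

theorem RH_comm {r s : K.Hat} (hr : r ∈ K.RH) (hs : s ∈ K.RH) : r * s = s * r := by
  have h1 := inv_eq_of_mul_eq_one_right (RH_sq hc hr)
  have h2 := inv_eq_of_mul_eq_one_right (RH_sq hc hs)
  have h3 := inv_eq_of_mul_eq_one_right (RH_sq hc (mul_mem hr hs))
  rw [← h3, mul_inv_rev, h1, h2]

theorem pt_inj {i j : ℕ} (hi : i < 16) (hj : j < 16) (h : K.eH (pt i) = K.eH (pt j)) : i = j := by
  obtain ⟨hil, hiR, hic⟩ := pt_R hi
  obtain ⟨hjl, hjR, hjc⟩ := pt_R hj
  set k := mulS (invS (pt j)) (pt i) with hk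
  have hk4 : k ∈ four := by
    refine (eH_eq_one hc (mulS_lt _ _)).mp ?_
    rw [eH_mul hc (invS_lt _) hil, h, ← eH_mul hc (invS_lt _) hjl]
    have e := List.all_eq_true.mp tab_inv (pt j) (List.mem_range.mpr hjl)
    simp only [Bool.and_eq_true, Nat.beq_eq] at e
    rw [e.1]
    exact (eH_eq_one hc (by norm_num)).mpr (by simp [four])
  have e : pt i = mulS (pt j) k := by
    refine K.local'.ι.inj hil (mulS_lt _ _) ?_
    rw [K.local'.ι.map_mul hjl (four_lt hk4), hk, K.local'.ι.map_mul (invS_lt _) hil, K.local'.ι.map_inv hjl,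
      mul_inv_cancel_left]
  rw [← hic, ← hjc, e, (coS_four hjl hjR hk4).1]

theorem exists_index {r : K.Hat} (hr : r ∈ K.RH) : ∃ i < 16, K.eH (pt i) = r := by
  by_cases h1 : r = 1
  · exact ⟨0, by norm_num, h1 ▸ (eH_eq_one hc (by decide)).mpr (by decide)⟩
  · obtain ⟨i, -, hi, e, -⟩ := exists_point hc hr h1
    exact ⟨i, hi, e⟩

theorem card_RH : Nat.card K.RH = 16 := by
  rw [← Nat.card_fin 16]
  refine (Nat.card_congr (Equiv.ofBijective
    (fun i : Fin 16 => (⟨K.eH (pt i), eH_mem_RH (pt_R i.2).1 (pt_R i.2).2.1⟩ : K.RH)) ⟨?_, ?_⟩)).symm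
  · intro i j h
    exact Fin.ext (pt_inj hc i.2 j.2 (congrArg Subtype.val h))
  · rintro ⟨r, hr⟩
    obtain ⟨i, hi, rfl⟩ := exists_index hc hr
    exact ⟨⟨i, hi⟩, rfl⟩

/-- A conjugate of the image in the Sylow subgroup lies in the image. -/
theorem RH_closed {r g : K.Hat} (hr : r ∈ K.RH) (h : g * r * g⁻¹ ∈ (K.SH : Subgroup K.Hat)) :
    g * r * g⁻¹ ∈ K.RH := by
  by_cases hr1 : r = 1
  · simp [hr1]
  obtain ⟨i, hi0, hi, rfl, -⟩ := exists_point hc hr hr1
  obtain ⟨hil, -, -⟩ := pt_R hi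
  obtain ⟨hp0, hpp, hl⟩ := pt_invol hi hi0
  obtain ⟨g, rfl⟩ := red_surj g
  obtain ⟨y, hy, e⟩ := mem_SH.mp h
  obtain ⟨k, hk, g', hg', e', -⟩ := lift_fusion hc hil hy e.symm
  rw [← e, ← eH_four hc hy hk]
  generalize hw : mulS y k = w at e' ⊢
  have hwl : w < 512 := hw ▸ mulS_lt _ _
  have hww : mulS w w = 0 := by
    refine K.ι.inj (mulS_lt _ _) (by norm_num) ?_
    rw [K.ι.map_mul hwl hwl, ← e', conj_mul, ← K.ι.map_mul hil hil, hpp, K.ι.map_zero, mul_one, mul_inv_cancel]
  have hw0 : w ≠ 0 := fun h0 => by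
    rw [h0, K.ι.map_zero, conj_eq_one_iff, ← K.ι.map_zero] at e'
    exact hp0 (K.ι.inj hil (by norm_num) e')
  have hlw := lab_invol hwl hw0 hww
  have hl16 : labS (pt i) < 16 := by simp only [List.mem_cons, List.not_mem_nil, or_false] at hl; omega
  have hrel := rel_of_conj (ι := K.ι) (H := K.CZ) (K.range_eq ▸ S_le_CZ) hg' hil hwl hl16 (by omega) e'
  have hm := closed_CZ hc hl hlw hrel
  refine eH_mem_RH hwl ?_
  have hR := List.all_eq_true.mp R_invol w (List.mem_range.mpr hwl)
  simp only [hww, Nat.beq_refl, Bool.not_true, Bool.false_or, Bool.or_eq_true, Nat.beq_eq, hw0, false_or,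
    beq_iff_eq] at hR
  rw [hR]
  simp only [List.mem_cons, List.not_mem_nil, or_false] at hm
  rcases hm with e | e | e | e <;> simp [e]

/-- A 2-group containing the image and a conjugate of it. -/
theorem move {T : Subgroup K.Hat} (hT : IsPGroup 2 T) (hRT : K.RH ≤ T) :
    T ≤ normalizer (K.RH : Set K.Hat) ∧
      ∀ g : K.Hat, (∀ r ∈ K.RH, g * r * g⁻¹ ∈ T) → g ∈ normalizer (K.RH : Set K.Hat) := by
  haveI : _root_.Fact (Nat.Prime 2) := ⟨Nat.prime_two⟩
  obtain ⟨P, hP⟩ := hT.exists_le_sylow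
  obtain ⟨h, hh⟩ := MulAction.exists_smul_eq K.Hat P K.SH
  have hin : ∀ t ∈ T, h * t * h⁻¹ ∈ (K.SH : Subgroup K.Hat) := fun t ht => by
    rw [← hh, Sylow.smul_def, Sylow.pointwise_smul_def]
    exact ⟨t, hP ht, rfl⟩
  have key : ∀ g : K.Hat, (∀ r ∈ K.RH, g * r * g⁻¹ ∈ T) → h * g ∈ normalizer (K.RH : Set K.Hat) := by
    intro g hg
    have hmap : ∀ r ∈ K.RH, h * g * r * (h * g)⁻¹ ∈ K.RH := fun r hr =>
      RH_closed hc hr (by simpa [mul_assoc] using hin _ (hg r hr))
    exact mem_normalizer_iff.mpr fun r => ⟨hmap r, fun hr => by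
      obtain ⟨⟨s, hs⟩, es⟩ := (Finite.injective_iff_surjective (f := fun r : K.RH =>
        (⟨h * g * r * (h * g)⁻¹, hmap r r.2⟩ : K.RH))).mp (fun a b e => Subtype.ext
          (mul_left_cancel (mul_right_cancel (congrArg Subtype.val e)))) ⟨_, hr⟩
      have e : s = r := mul_left_cancel (mul_right_cancel (congrArg Subtype.val es))
      exact e ▸ hs⟩
  have hh' : h ∈ normalizer (K.RH : Set K.Hat) := by
    simpa using key 1 (fun r hr => by simpa using hRT hr)
  refine ⟨fun t ht => ?_, fun g hg => ?_⟩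
  · have := mul_mem (mul_mem (inv_mem hh') (SH_le_normalizer (hin t ht))) hh'
    simpa [mul_assoc] using this
  · simpa using mul_mem (inv_mem hh') (key g hg)

/-- Fusion in the image is controlled by its normalizer. -/
theorem fusion {L : Subgroup K.Hat} (hRL : K.RH ≤ L) {a g : K.Hat} (ha : a ∈ K.RH) (hg : g ∈ L)
    (hb : g * a * g⁻¹ ∈ K.RH) :
    ∃ h ∈ L, Commute h (g * a * g⁻¹) ∧ h * g ∈ normalizer (K.RH : Set K.Hat) := by
  haveI : _root_.Fact (Nat.Prime 2) := ⟨Nat.prime_two⟩
  set C := L ⊓ centralizer ({g * a * g⁻¹} : Set K.Hat) with hC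
  have hRC : K.RH ≤ C := fun r hr => ⟨hRL hr, mem_centralizer_singleton_iff.mpr (RH_comm hc hr hb)⟩
  have hgC : ∀ r ∈ K.RH, g * r * g⁻¹ ∈ C := fun r hr => ⟨L.mul_mem (L.mul_mem hg (hRL hr)) (L.inv_mem hg),
    mem_centralizer_singleton_iff.mpr (by rw [conj_mul, conj_mul, RH_comm hc hr ha])⟩
  obtain ⟨P, hP⟩ := (isPGroup_RH.of_equiv (subgroupOfEquivOfLe hRC).symm).exists_le_sylow
  have hgR : IsPGroup 2 ((K.RH.map (MulAut.conj g).toMonoidHom).subgroupOf C) := by
    refine (isPGroup_RH.map _).of_equiv (subgroupOfEquivOfLe ?_).symm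
    rintro _ ⟨r, hr, rfl⟩
    exact hgC r hr
  obtain ⟨Q, hQ⟩ := hgR.exists_le_sylow
  obtain ⟨c, hc'⟩ := MulAction.exists_smul_eq C Q P
  refine ⟨c, c.2.1, mem_centralizer_singleton_iff.mp c.2.2, ?_⟩
  refine (move hc (P.isPGroup'.map C.subtype) fun r hr =>
    ⟨⟨r, hRC hr⟩, hP (mem_subgroupOf.mpr hr), rfl⟩).2 _ fun r hr => ?_
  refine ⟨c * ⟨g * r * g⁻¹, hgC r hr⟩ * c⁻¹, ?_, ?_⟩
  · rw [← hc', Sylow.smul_def, Sylow.pointwise_smul_def]
    exact ⟨_, hQ (mem_subgroupOf.mpr ⟨r, hr, rfl⟩), rfl⟩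
  · simp [mul_assoc]

/-- Centralizers of the nontrivial elements of the image. -/
theorem oddClosed_cent {r : K.Hat} (hr : r ∈ K.RH) (hr1 : r ≠ 1) :
    OddClosed (centralizer ({r} : Set K.Hat)) := by
  obtain ⟨i, hi0, hi, rfl, -⟩ := exists_point hc hr hr1
  obtain ⟨hil, hiR, -⟩ := pt_R hi
  obtain ⟨hp0, hpp, hl⟩ := pt_invol hi hi0
  set x := pt i
  have hl16 : labS x < 16 := by simp only [List.mem_cons, List.not_mem_nil, or_false] at hl; omega
  set C : Subgroup K.CZ := centralizer ({K.eX x} : Set K.CZ) with hCdef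
  have hC : OddClosed C := by
    obtain ⟨hcon, ec⟩ := exists_con (ι := K.ι) hil hl16
    have hs := S_le_CZ (K.e_mem hcon)
    refine (((oddClosed_four hc hl).conj (K.ι.e (conS x))).comap_inj K.CZ.subtype_injective).mono fun g hg => ?_
    refine ⟨(K.ι.e (conS x))⁻¹ * (g : G) * K.ι.e (conS x), ⟨K.CZ.mul_mem (K.CZ.mul_mem (K.CZ.inv_mem hs) g.2) hs,
      mem_centralizer_singleton_iff.mpr ?_⟩, by simp [mul_assoc]⟩
    have e := congrArg Subtype.val (mem_centralizer_singleton_iff.mp hg)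
    rw [Subgroup.coe_mul, Subgroup.coe_mul, coe_eX hil, ← ec] at e
    calc (K.ι.e (conS x))⁻¹ * (g : G) * K.ι.e (conS x) * K.ι.e (rp (labS x))
        = (K.ι.e (conS x))⁻¹ * ((g : G) * (K.ι.e (conS x) * K.ι.e (rp (labS x)) * (K.ι.e (conS x))⁻¹)) *
            K.ι.e (conS x) := by group
      _ = _ := by rw [e]; group
  set π := QuotientGroup.mk' K.oX with hπ
  have hlift : ∀ u ∈ centralizer ({K.eH x} : Set K.Hat), Odd (orderOf u) → u ∈ C.map K.red := by
    intro u hu ou
    obtain ⟨a, -, oa, rfl⟩ := exists_odd_lift (K := (⊤ : Subgroup K.CZ)) K.red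
      (by rw [← MonoidHom.range_eq_map, MonoidHom.range_eq_top.mpr red_surj]; exact mem_top u) ou
    have hcomm : K.red a * K.eH x * (K.red a)⁻¹ = K.eH x := by
      rw [mem_centralizer_singleton_iff.mp hu, mul_inv_cancel_right]
    rw [eH, ← map_inv, ← map_mul, ← map_mul] at hcomm
    obtain ⟨k, hk, o, ho, e⟩ := (mem_ker0 hc).mp ((QuotientGroup.eq).mp hcomm.symm)
    have hk' := four_lt hk
    have he : π a * π (K.eX x) * (π a)⁻¹ = π (K.eX x) * π (K.eX k) := by
      calc π a * π (K.eX x) * (π a)⁻¹ = π (a * K.eX x * a⁻¹) := by simp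
        _ = π (K.eX x * (K.eX k * o)) := by rw [e, mul_inv_cancel_left]
        _ = π (K.eX x) * (π (K.eX k) * π o) := by rw [map_mul, map_mul]
        _ = _ := by rw [show π o = 1 from (QuotientGroup.eq_one_iff o).mpr ho, mul_one]
    have hxk : mulS x k = mulS k x := by
      have := List.all_eq_true.mp R_central x (List.mem_range.mpr hil)
      simp only [hiR, Bool.not_true, Bool.false_or, List.all_eq_true, Nat.beq_eq] at this
      exact this k hk
    have hk2 : π (K.eX k) * π (K.eX k) = 1 := by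
      have e2 : π (K.eX x) * π (K.eX k) * (π (K.eX x) * π (K.eX k)) = 1 := by
        rw [← he, conj_mul]
        rw [show π (K.eX x) * π (K.eX x) = 1 by rw [← map_mul, ← eX_mul hil hil, hpp, eX_zero, map_one], mul_one,
          mul_inv_cancel]
      rw [← map_mul, ← map_mul, ← eX_mul hil hk', ← eX_mul (mulS_lt _ _) (mulS_lt _ _)] at e2
      have e3 : mulS (mulS x k) (mulS x k) = mulS k k := by
        refine K.ι.inj (mulS_lt _ _) (mulS_lt _ _) ?_
        rw [K.ι.map_mul (mulS_lt _ _) (mulS_lt _ _), K.ι.map_mul hk' hk']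
        conv_lhs => lhs; rw [hxk, K.ι.map_mul hk' hil]
        rw [K.ι.map_mul hil hk', mul_assoc, ← mul_assoc (K.ι.e x), ← K.ι.map_mul hil hil, hpp, K.ι.map_zero, one_mul]
      rw [e3] at e2
      rw [← map_mul, ← eX_mul hk' hk', e2]
    have h34 : π (K.eX 34) ≠ 1 := fun h => by
      have ho' : K.eX 34 ∈ K.oX := (QuotientGroup.eq_one_iff _).mp h
      have hd := orderOf_dvd_natCard K.oX ho'
      rw [show K.eX 34 = K.local'.z from eX_z, K.local'.orderOf_z] at hd
      exact absurd (odd_oX.of_dvd_nat hd) (by decide)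
    have hk34 : k = 0 ∨ k = 34 := by
      have h := List.all_eq_true.mp four_sq k hk
      simp only [Bool.or_eq_true, Nat.beq_eq] at h
      refine h.resolve_right fun h' => h34 ?_
      rw [← h', eX_mul hk' hk', map_mul, hk2]
    have ht : ∀ u : K.CZ, Commute (π u) (π (K.eX k)) := by
      intro u
      rcases hk34 with rfl | rfl
      · rw [eX_zero, map_one]; exact Commute.one_right _
      · refine (show Commute u (K.eX 34) from Subtype.ext ?_).map π
        rw [Subgroup.coe_mul, Subgroup.coe_mul, coe_eX (by norm_num)]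
        exact (mem_CZ.mp u.2).eq
    have hiter : ∀ n : ℕ, π a ^ n * π (K.eX x) * (π a ^ n)⁻¹ = π (K.eX x) * π (K.eX k) ^ n := by
      intro n
      induction n with
      | zero => simp
      | succ n ih =>
        rw [pow_succ' (π a), show π a * π a ^ n * π (K.eX x) * (π a * π a ^ n)⁻¹ =
          π a * (π a ^ n * π (K.eX x) * (π a ^ n)⁻¹) * (π a)⁻¹ by group, ih, ← conj_mul, he,
          ((ht a).pow_right n).eq, mul_inv_cancel_right, mul_assoc, ← pow_succ']
    have hk1 : π (K.eX k) = 1 := by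
      have h := hiter (orderOf a)
      rw [← map_pow π a, pow_orderOf_eq_one, map_one, one_mul, inv_one, mul_one, eq_comm, mul_eq_left] at h
      obtain ⟨m, hm⟩ := oa
      rwa [hm, pow_succ, pow_mul, pow_two, hk2, one_pow, one_mul] at h
    rw [hk1, mul_one, mul_inv_eq_iff_eq_mul] at he
    have hmem : π a ∈ centralizer (((zpowers (K.eX x)).map π : Subgroup _) : Set (K.CZ ⧸ K.oX)) := by
      refine mem_centralizer_iff.mpr ?_
      rintro _ ⟨w, ⟨j, rfl⟩, rfl⟩
      rw [map_zpow]
      exact ((show Commute (π (K.eX x)) (π a) from he.symm).zpow_left j).eq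
    rw [← CfsgLib.PLocal.map_centralizer_eq K.oX (Nat.coprime_two_right.mpr odd_oX) (isPGroup_eX hil)] at hmem
    obtain ⟨s, hs, es⟩ := hmem
    refine ⟨s, mem_centralizer_singleton_iff.mpr (mem_centralizer_iff.mp hs _ (mem_zpowers _)).symm, ?_⟩
    have : s⁻¹ * a ∈ K.oX := (QuotientGroup.eq).mp es
    exact (QuotientGroup.eq).mpr (by rw [ker0_eq hc]; exact mem_sup_right this)
  intro u hu v hv ou ov
  exact hC.map K.red u (hlift u hu ou) v (hlift v hv ov) ou ov

/-- The reduced group has no odd normal subgroup. -/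
theorem oddCore_Hat : pPrimeCore 2 K.Hat = ⊥ := by
  set π := QuotientGroup.mk' K.oX with hπ
  set M := (pPrimeCore 2 K.Hat).comap K.red with hM
  haveI hOn : (pPrimeCore 2 K.Hat).Normal := Subgroup.sSup_normal _ (fun _ h => h.1)
  haveI : M.Normal := hOn.comap K.red
  set c := K.eX 17 with hcdef
  set Z := (zpowers c).map π
  have hodd : Odd (Nat.card (pPrimeCore 2 K.Hat)) := Nat.coprime_two_right.mp (CfsgLib.card_pPrimeCore_coprime 2)
  have hcomm : ∀ g ∈ M, Commute (π g) (π c) := by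
    -- every conjugation fixes the image of the element of order four or inverts it
    have hconj : ∀ g : K.CZ, ∃ k ∈ four, π g * π c * (π g)⁻¹ = π (K.eX k) := by
      intro g
      obtain ⟨k, hk, o, ho, e⟩ := (mem_ker0 hc).mp
        (show g * c * g⁻¹ ∈ K.ker0 from Normal.conj_mem inferInstance c
          (by rw [ker0_eq hc]; exact mem_sup_left (mem_zpowers c)) g)
      refine ⟨k, hk, ?_⟩
      rw [← map_inv, ← map_mul, ← map_mul, ← e, map_mul, show π o = 1 from (QuotientGroup.eq_one_iff o).mpr ho,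
        mul_one]
    have hoddfix : ∀ g : K.CZ, Odd (orderOf g) → Commute (π g) (π c) := by
      intro g og
      obtain ⟨k, hk, e⟩ := hconj g
      have hsq : π g ^ 2 * π c * (π g ^ 2)⁻¹ = π c := by
        obtain ⟨i, hi⟩ : K.eX k ∈ zpowers c := zpowers_four.mpr ⟨k, hk, rfl⟩
        have hi' : π (K.eX k) = π c ^ i := by rw [← hi, map_zpow]
        rw [pow_two, show π g * π g * π c * (π g * π g)⁻¹ = π g * (π g * π c * (π g)⁻¹) * (π g)⁻¹ by group, e, hi',
          ← conj_zpow, e, hi', ← zpow_mul]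
        have h34 : π (K.eX 34) ≠ 1 := fun h => by
          have hd := orderOf_dvd_natCard K.oX ((QuotientGroup.eq_one_iff _).mp h)
          rw [show K.eX 34 = K.local'.z from eX_z, K.local'.orderOf_z] at hd
          exact absurd (odd_oX.of_dvd_nat hd) (by decide)
        have hc2 : π c ^ (2 : ℕ) = π (K.eX 34) := by
          rw [← map_pow, pow_two, hcdef, ← eX_mul (by norm_num) (by norm_num), c_lab.2.1]
        have hc4 : π c ^ (4 : ℤ) = 1 := by
          rw [show (4 : ℤ) = ((4 : ℕ) : ℤ) from rfl, zpow_natCast, show (4 : ℕ) = 2 * 2 from rfl, pow_mul, hc2,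
            pow_two, ← map_mul, ← eX_mul (by norm_num) (by norm_num),
            show mulS 34 34 = 0 by with_unfolding_all decide +kernel, eX_zero, map_one]
        obtain ⟨j, hj⟩ : Odd i := by
          refine Int.not_even_iff_odd.mp fun hev => h34 ?_
          obtain ⟨m, hm⟩ := hev
          have h1 : (π g * π c * (π g)⁻¹) ^ 2 = 1 := by
            rw [e, hi', ← zpow_natCast, ← zpow_mul, show i * ((2 : ℕ) : ℤ) = 4 * m by rw [hm]; push_cast; ring,
              zpow_mul, hc4, one_zpow]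
          rw [conj_pow, conj_eq_one_iff, hc2] at h1
          exact h1
        have h8 : ∃ q : ℤ, i * i = 1 + 4 * q := ⟨j * j + j, by rw [hj]; ring⟩
        obtain ⟨q, hq⟩ := h8
        rw [hq, zpow_add, zpow_one, zpow_mul, hc4, one_zpow, mul_one]
      have h2 : Commute (π g ^ 2) (π c) := mul_inv_eq_iff_eq_mul.mp hsq
      obtain ⟨m, hm⟩ := exists_pow_eq_self_of_coprime
        (show Nat.Coprime 2 (orderOf (π g)) from
          Nat.coprime_two_left.mpr (og.of_dvd_nat (orderOf_map_dvd π g)))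
      rw [← hm]
      exact h2.pow_left m
    intro g hg
    obtain ⟨k, m, hm, e⟩ := Nat.exists_eq_two_pow_mul_odd (orderOf_pos g).ne'
    have h1 : Commute (π (g ^ 2 ^ k)) (π c) := hoddfix _ (hm.of_dvd_nat (orderOf_dvd_of_pow_eq_one (by
      rw [← pow_mul, ← e, pow_orderOf_eq_one])))
    have h2 : Commute (π (g ^ m)) (π c) := by
      have hk : g ^ m ∈ K.ker0 := by
        rw [← QuotientGroup.eq_one_iff]
        show K.red _ = 1
        rw [← orderOf_eq_one_iff]
        refine Nat.eq_one_of_dvd_coprimes ((Nat.coprime_two_left.mpr hodd).pow_left k)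
          (orderOf_dvd_of_pow_eq_one ?_) (orderOf_dvd_natCard _ (show K.red (g ^ m) ∈ pPrimeCore 2 K.Hat from
            pow_mem hg m))
        rw [← map_pow, ← pow_mul, mul_comm, ← e, pow_orderOf_eq_one, map_one]
      obtain ⟨j, hj, o, ho, ej⟩ := (mem_ker0 hc).mp hk
      obtain ⟨i, hi⟩ : K.eX j ∈ zpowers c := zpowers_four.mpr ⟨j, hj, rfl⟩
      rw [← ej, ← hi, map_mul, show π o = 1 from (QuotientGroup.eq_one_iff o).mpr ho, mul_one, map_zpow]
      exact (Commute.refl (π c)).zpow_left i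
    have hg' : Int.gcd ((2 ^ k : ℕ) : ℤ) (m : ℤ) = 1 := by
      rw [Int.gcd_natCast_natCast]; exact (Nat.coprime_two_left.mpr hm).pow_left k
    have hb := Int.gcd_eq_gcd_ab ((2 ^ k : ℕ) : ℤ) (m : ℤ)
    rw [hg'] at hb
    have : g = (g ^ 2 ^ k) ^ Int.gcdA ((2 ^ k : ℕ) : ℤ) (m : ℤ) * (g ^ m) ^ Int.gcdB ((2 ^ k : ℕ) : ℤ) (m : ℤ) := by
      rw [← zpow_natCast g (2 ^ k), ← zpow_natCast g m, ← zpow_mul, ← zpow_mul, ← zpow_add, ← hb]
      simp
    rw [this, map_mul, map_zpow, map_zpow]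
    exact (h1.zpow_left _).mul_left (h2.zpow_left _)
  set N := M.map π
  haveI hNn : N.Normal := Normal.map inferInstance π (QuotientGroup.mk'_surjective _)
  have hZN : Z ≤ N := map_mono (zpowers_le.mpr (show K.red c ∈ pPrimeCore 2 K.Hat by
    rw [show K.red c = 1 from (QuotientGroup.eq_one_iff c).mpr (by
      rw [ker0_eq hc]; exact mem_sup_left (mem_zpowers c))]
    exact one_mem _))
  have hNc : OddClosed N := by
    have h := oddClosed_central (G := N) (Z := Z.subgroupOf N) ?_ ?_ ?_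
    · have := h.map_inj N.subtype_injective
      rwa [← MonoidHom.range_eq_map, range_subtype] at this
    · rintro ⟨_, w, hw, rfl⟩ hz
      obtain ⟨_, ⟨i, rfl⟩, ei⟩ := mem_subgroupOf.mp hz
      refine mem_center_iff.mpr fun ⟨_, v, hv, e⟩ => Subtype.ext ?_
      subst e
      show π v * π w = π w * π v
      have ei' : π (c ^ i) = π w := ei
      rw [← ei', map_zpow]
      exact ((hcomm v hv).zpow_right i).eq
    · exact ((isPGroup_eX (K := K) (x := 17) (by norm_num)).map π).of_equiv (subgroupOfEquivOfLe hZN).symm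
    · show Odd (Z.relIndex N)
      refine hodd.of_dvd_nat ?_
      have e1 : Z.relIndex N = (K.ker0).relIndex M := by
        have : K.ker0 = Z.comap π := by
          rw [ker0_eq hc]
          show _ = ((zpowers c).map π).comap π
          rw [comap_map_eq, QuotientGroup.ker_mk']
        rw [this, relIndex_comap]
      have h5 := relIndex_ker (K := M) K.red
      rw [QuotientGroup.ker_mk'] at h5
      rw [e1, h5, hM, map_comap_eq_self_of_surjective red_surj]
  set O' := oddPart N hNc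
  haveI : O'.Normal := ⟨fun x hx g => oddPart_conj hNc (fun k hk => Normal.conj_mem inferInstance k hk g) hx⟩
  have hP : (O'.comap π) ≤ K.oX := CfsgLib.le_pPrimeCore (Nat.coprime_two_right.mpr
    (odd_card_of_odd_elements fun g hg => by
      have h1 : Odd (orderOf (π g)) := (show π g ∈ O' from hg).2
      have hmem : g ^ orderOf (π g) ∈ K.oX := by
        rw [← QuotientGroup.eq_one_iff]; show π _ = 1; rw [map_pow, pow_orderOf_eq_one]
      refine (h1.mul (odd_oX.of_dvd_nat (orderOf_dvd_natCard _ hmem))).of_dvd_nat (orderOf_dvd_of_pow_eq_one ?_)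
      rw [pow_mul, pow_orderOf_eq_one]))
  refine eq_bot_iff.mpr fun u hu => mem_bot.mpr ?_
  obtain ⟨a, -, oa, rfl⟩ := exists_odd_lift (K := (⊤ : Subgroup K.CZ)) K.red
    (by rw [← MonoidHom.range_eq_map, MonoidHom.range_eq_top.mpr red_surj]; exact mem_top u)
    (hodd.of_dvd_nat (orderOf_dvd_natCard _ hu))
  exact (QuotientGroup.eq_one_iff a).mpr (by
    rw [ker0_eq hc]
    exact mem_sup_right (hP (show π a ∈ O' from ⟨⟨a, hu, rfl⟩, oa.of_dvd_nat (orderOf_map_dvd π a)⟩)))

end Setup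

end CfsgHSSylow
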