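import Cfsg.Agent.Lib.HSSylow.Engine

/-!
Relations between labels read off from a certified search.
-/

set_option autoImplicit false

namespace CfsgHSSylow

open CfsgLib.CosetEnum (force)

/-- A pair of labels is met, in one of the two orders. -/
noncomputable def pairMet (gs im : List ℕ) (W : List (List ℕ)) (a b : ℕ) : Bool :=
  W.any fun w => force (labS (evS w gs)) fun u =>
    if Nat.beq u a then Nat.beq (labS (evS w im)) b else if Nat.beq u b then Nat.beq (labS (evS w im)) a else false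

/-- Every clause has an option all of whose pairs are met. -/
noncomputable def cnfOK (gs : List ℕ) (W : List (List ℕ)) (cnf : List (List (List (ℕ × ℕ)))) (im : List ℕ) : Bool :=
  cnf.all fun opts => opts.any fun o => o.all fun p => pairMet gs im W p.1 p.2

/-- The words use generators of a fact only, the labels are labels. -/
def wfCnf (F : Srch) (W : List (List ℕ)) (cnf : List (List (List (ℕ × ℕ)))) : Bool :=
  W.all (fun w => w.all fun i => Nat.blt i F.gs.length) &&
    cnf.all fun opts => opts.all fun o => o.all fun p => Nat.blt p.1 16 && Nat.blt p.2 16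

/-- The words have values in the lower four-group layer of the vectors. -/
noncomputable def vOK (W : List (List ℕ)) (im : List ℕ) : Bool :=
  W.all fun w => force (evS w im) fun v => Nat.blt v 64 && Nat.beq (mulS v v) 0

/-- The word has label zero. -/
noncomputable def lab0 (w : List ℕ) (im : List ℕ) : Bool := Nat.beq (labS (evS w im)) 0

variable {G : Type*} [Group G] (ι : Emb G) (H : Subgroup G)

/-- Two labels are fused inside a subgroup. -/
def Rel (a b : ℕ) : Prop := ∃ h ∈ H, h * ι.e (rp a) * h⁻¹ = ι.e (rp b)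

variable {ι H}

theorem rp_lt : ∀ a, rp a < 512 := fun a => getD_lt (fun v hv => by
  simp only [reps, List.mem_cons, List.not_mem_nil, or_false] at hv; omega) a

theorem Rel.refl (a : ℕ) : Rel ι H a a := ⟨1, one_mem _, by simp⟩

theorem Rel.symm {a b : ℕ} (h : Rel ι H a b) : Rel ι H b a := by
  obtain ⟨g, hg, e⟩ := h
  exact ⟨g⁻¹, inv_mem hg, by rw [← e]; group⟩

theorem Rel.trans {a b c : ℕ} (h : Rel ι H a b) (h' : Rel ι H b c) : Rel ι H a c := by
  obtain ⟨g, hg, e⟩ := h
  obtain ⟨g', hg', e'⟩ := h'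
  exact ⟨g' * g, mul_mem hg' hg, by rw [← e', ← e]; group⟩

theorem Rel.mono {K : Subgroup G} (hle : H ≤ K) {a b : ℕ} (h : Rel ι H a b) : Rel ι K a b := by
  obtain ⟨g, hg, e⟩ := h
  exact ⟨g, hle hg, e⟩

/-- An element with a label is conjugate to its representative inside the coded group. -/
theorem exists_con {x : ℕ} (hx : x < 512) (hl : labS x < 16) :
    conS x < 512 ∧ ι.e (conS x) * ι.e (rp (labS x)) * (ι.e (conS x))⁻¹ = ι.e x := by
  have hc : conS x < 512 := by unfold conS; exact Nat.mod_lt _ (by norm_num)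
  have h := List.all_eq_true.mp tab_con x (List.mem_range.mpr hx)
  rw [if_pos (Nat.blt_eq.mpr hl)] at h
  exact ⟨hc, by rw [← ι.map_cj hc (rp_lt _), Nat.eq_of_beq_eq_true h]⟩

theorem rel_of_conj (hS : ι.range ≤ H) {g : G} (hg : g ∈ H) {u v : ℕ} (hu : u < 512) (hv : v < 512)
    (hlu : labS u < 16) (hlv : labS v < 16) (h : g * ι.e u * g⁻¹ = ι.e v) : Rel ι H (labS u) (labS v) := by
  obtain ⟨hc, e⟩ := exists_con (ι := ι) hu hlu
  obtain ⟨hd, e'⟩ := exists_con (ι := ι) hv hlv
  refine ⟨(ι.e (conS v))⁻¹ * g * ι.e (conS u),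
    mul_mem (mul_mem (inv_mem (hS (ι.e_mem hd))) hg) (hS (ι.e_mem hc)), ?_⟩
  rw [← e, ← e'] at h
  rw [show (ι.e (conS v))⁻¹ * g * ι.e (conS u) * ι.e (rp (labS u)) * ((ι.e (conS v))⁻¹ * g * ι.e (conS u))⁻¹ =
      (ι.e (conS v))⁻¹ * (g * (ι.e (conS u) * ι.e (rp (labS u)) * (ι.e (conS u))⁻¹) * g⁻¹) * ι.e (conS v) by group, h]
  group

theorem rel_of_cnf {gs im : List ℕ} (hgs : ∀ v ∈ gs, v < 512) (him : ∀ v ∈ im, v < 512)
    {W : List (List ℕ)} (hW : ∀ w ∈ W, ∀ i ∈ w, i < im.length) (hS : ι.range ≤ H) {g : G} (hg : g ∈ H)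
    (hfit : Fits ι g gs im) {a b : ℕ} (ha : a < 16) (hb : b < 16) (h : pairMet gs im W a b = true) :
    Rel ι H a b := by
  simp only [pairMet, CfsgAutL34.Enum.force_eq, List.any_eq_true] at h
  obtain ⟨w, hw, h⟩ := h
  have e := evS_conj hgs him hfit (hW w hw)
  split_ifs at h with h1 h2
  · rw [Nat.beq_eq] at h1 h
    subst h1 h
    exact rel_of_conj hS hg (evS_lt _ _) (evS_lt _ _) ha hb e
  · rw [Nat.beq_eq] at h2 h
    subst h2 h
    exact (rel_of_conj hS hg (evS_lt _ _) (evS_lt _ _) hb ha e).symm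

/-- A certified search gives fused labels. -/
theorem Srch.rels {F : Srch} {W : List (List ℕ)} {cnf : List (List (List (ℕ × ℕ)))} {Q : List ℕ → Bool}
    (h : F.check (fun im => cnfOK F.gs W cnf im && Q im) = true) (hwf : wfLev F.lev F.fi.length = true) (hwc : wfCnf F W cnf = true)
    (hpos : 0 < F.fi.length) (hS : ι.range ≤ H) {g : G} (hgH : g ∈ H)
    (hg : Sends ι g (F.gs.getD 0 0) (F.fi.getD 0 0)) (hfit : Fits ι g F.gs F.fi) :
    (∀ opts ∈ cnf, ∃ o ∈ opts, ∀ p ∈ o, Rel ι H p.1 p.2) ∧ ∃ g' ∈ H, ∃ im : List ℕ, Q im = true ∧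
      (∀ v ∈ im, v < 512) ∧ im.length = F.gs.length ∧ F.fi <+: im ∧
      Sends ι g' (F.gs.getD 0 0) (F.fi.getD 0 0) ∧ Fits ι g' F.gs im := by
  have h' := h
  obtain ⟨s, hs, -, im, hP, h512, hlen, hpre, hS', hF⟩ := F.sound h hwf hpos hg hfit
  simp only [Srch.check, Bool.and_eq_true, List.all_eq_true, Nat.blt_eq] at h'
  simp only [cnfOK, Bool.and_eq_true, List.all_eq_true, List.any_eq_true] at hP
  refine ⟨?_, _, mul_mem (hS (ι.e_mem hs)) hgH, im, hP.2, h512, hlen, hpre, hS', hF⟩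
  replace hP := hP.1
  simp only [wfCnf, Bool.and_eq_true, List.all_eq_true, Nat.blt_eq] at hwc
  intro opts hopts
  obtain ⟨o, ho, hall⟩ := hP opts hopts
  refine ⟨o, ho, fun p hp => rel_of_cnf (fun v hv => (h'.1.1.1.1 v hv).1) h512 ?_ hS
    (mul_mem (hS (ι.e_mem hs)) hgH) hF (hwc.2 opts hopts o ho p hp).1 (hwc.2 opts hopts o ho p hp).2 (hall p hp)⟩
  intro w hw i hi
  rw [hlen]
  exact hwc.1 w hw i hi

end CfsgHSSylow
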